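import Groth.Agent.Lib.AffHom.Basic
import Groth.Agent.Lib.IdealModSec.Basic
import Mathlib.Algebra.Homology.DerivedCategory.Ext.ExactSequences

/-!
# Morphisms and short exact sequences of modules from their sections on affine opens
-/

set_option autoImplicit false
set_option backward.isDefEq.respectTransparency false
universe u

open CategoryTheory CategoryTheory.Limits AlgebraicGeometry Opposite

namespace GrothLib.LocalHilb26

variable {X : Scheme.{u}}

/-- A morphism given on generating sets of representatives of the affine sections. -/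
theorem exists_hom_of_surj {M N : X.Modules} (S : X.affineOpens → Type u)
    (s : ∀ U : X.affineOpens, S U → Γ(M, U.1)) (g : ∀ U : X.affineOpens, S U → Γ(N, U.1))
    (hs : ∀ U, Function.Surjective (s U)) (wd : ∀ U a b, s U a = s U b → g U a = g U b)
    (hadd : ∀ U a b, ∃ c, s U c = s U a + s U b ∧ g U c = g U a + g U b)
    (hsmul : ∀ (U : X.affineOpens) (r : Γ(X, U.1)) (a : S U), ∃ c, s U c = r • s U a ∧ g U c = r • g U a)
    (hres : ∀ (U V : X.affineOpens) (h : V.1 ≤ U.1) (a : S U), ∃ c,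
      s V c = M.presheaf.map (homOfLE h).op (s U a) ∧ g V c = N.presheaf.map (homOfLE h).op (g U a)) :
    ∃ f : M ⟶ N, ∀ (U : X.affineOpens) (a : S U), f.app U.1 (s U a) = g U a := by
  choose σ hσ using hs
  let ψ : ∀ U : X.affineOpens, Γ(M, U.1) →ₗ[Γ(X, U.1)] Γ(N, U.1) := fun U =>
    { toFun := fun m => g U (σ U m)
      map_add' := fun m m' => by
        obtain ⟨c, hc, hc'⟩ := hadd U (σ U m) (σ U m')
        rw [wd U _ c (by rw [hσ, hc, hσ, hσ]), hc']
      map_smul' := fun r m => by
        obtain ⟨c, hc, hc'⟩ := hsmul U r (σ U m)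
        rw [wd U _ c (by rw [hσ, hc, hσ]), hc']
        rfl }
  obtain ⟨f, hf⟩ := AffHom.exists_hom ψ fun U V h m => by
    obtain ⟨c, hc, hc'⟩ := hres U V h (σ U m)
    show N.presheaf.map (homOfLE h).op (g U (σ U m)) = g V (σ V _)
    rw [← hc']
    exact (wd V _ c ((hσ V _).trans (hc.trans (congrArg _ (hσ U m))).symm)).symm
  exact ⟨f, fun U a => (hf U _).trans (wd U _ _ (hσ U _))⟩

theorem app_zero_hom {M N : X.Modules} (W : X.Opens) (m : Γ(M, W)) : (0 : M ⟶ N).app W m = 0 := rfl

theorem app_comp_apply {M N P : X.Modules} (f : M ⟶ N) (g : N ⟶ P) (W : X.Opens) (m : Γ(M, W)) :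
    (f ≫ g).app W m = g.app W (f.app W m) := rfl

theorem app_map {M N : X.Modules} (f : M ⟶ N) {U V : X.Opens} (h : V ≤ U) (m : Γ(M, U)) :
    f.app V (M.presheaf.map (homOfLE h).op m) = N.presheaf.map (homOfLE h).op (f.app U m) :=
  ConcreteCategory.congr_hom (f.mapPresheaf.naturality (homOfLE h).op) m

/-- Exactness on the sections over all affine opens gives a short exact sequence. -/
theorem shortExact_of_affine {P E Q : X.Modules} (i : P ⟶ E) (q : E ⟶ Q) (w : i ≫ q = 0)
    (hi : ∀ U : X.affineOpens, Function.Injective (i.app U.1))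
    (hq : ∀ U : X.affineOpens, Function.Surjective (q.app U.1))
    (hex : ∀ (U : X.affineOpens) (e : Γ(E, U.1)), q.app U.1 e = 0 → ∃ p, i.app U.1 p = e) :
    (ShortComplex.mk i q w).ShortExact := by
  haveI : Mono i := Preadditive.mono_of_cancel_zero _ fun {T} t ht => AffHom.hom_ext fun U m => by
    refine hi U ?_
    rw [← app_comp_apply, ht, app_zero_hom, app_zero_hom, map_zero]
  haveI : Epi q := Preadditive.epi_of_cancel_zero _ fun {T} t ht => AffHom.hom_ext fun U m => by
    obtain ⟨e, rfl⟩ := hq U m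
    rw [← app_comp_apply, ht]
    rfl
  have H : ∀ (T : X.Modules) (t : T ⟶ E), t ≫ q = 0 → ∃ l : T ⟶ P, l ≫ i = t := fun T t ht => by
    have hex' : ∀ (U : X.affineOpens) (m : Γ(T, U.1)), ∃ p, i.app U.1 p = t.app U.1 m := fun U m =>
      hex U _ (by rw [← app_comp_apply, ht]; rfl)
    choose l hl using hex'
    obtain ⟨f, hf⟩ := exists_hom_of_surj (M := T) (N := P) (fun U => Γ(T, U.1)) (fun U => id) l
      (fun U => Function.surjective_id) (fun U a b h => congrArg (l U) h)
      (fun U a b => ⟨a + b, rfl, hi U (by rw [hl, map_add, map_add, hl, hl])⟩)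
      (fun U r a => ⟨r • a, rfl, hi U (by
        rw [hl, Scheme.Modules.Hom.app_smul, Scheme.Modules.Hom.app_smul, hl])⟩)
      (fun U V h a => ⟨_, rfl, hi V ((hl V _).trans ((app_map t h a).trans
        ((congrArg _ (hl U a).symm).trans (app_map i h _).symm)))⟩)
    exact ⟨f, AffHom.hom_ext fun U m => (congrArg (i.app U.1) (hf U m)).trans (hl U m)⟩
  exact { exact := ShortComplex.exact_of_f_is_kernel _
            (KernelFork.IsLimit.ofι' i w fun {T} t ht => ⟨(H T t ht).choose, (H T t ht).choose_spec⟩),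
          mono_f := inferInstanceAs (Mono i), epi_g := inferInstanceAs (Epi q) }

/-- An extension by a module with vanishing `Ext¹` splits. -/
theorem exists_section_of_subsingleton_ext [HasExt.{u} X.Modules] {S : ShortComplex X.Modules}
    (hS : S.ShortExact) (h : Subsingleton (Abelian.Ext.{u} S.X₃ S.X₁ 1)) :
    ∃ σ : S.X₃ ⟶ S.X₂, σ ≫ S.g = 𝟙 S.X₃ := by
  obtain ⟨x₂, hx₂⟩ := Abelian.Ext.covariant_sequence_exact₃ S.X₃ hS (Abelian.Ext.mk₀ (𝟙 S.X₃))
    (show 0 + 1 = 1 from rfl) (Subsingleton.elim _ _)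
  obtain ⟨σ, rfl⟩ := (Abelian.Ext.mk₀_bijective _ _).2 x₂
  rw [Abelian.Ext.mk₀_comp_mk₀] at hx₂
  exact ⟨σ, (Abelian.Ext.mk₀_bijective _ _).1 hx₂⟩

end GrothLib.LocalHilb26
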