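import Groth.Agent.Lib.LocalHilb26.Scalar
import Groth.Agent.Lib.HomSh.QCoh
import Groth.Agent.Lib.ProjCoh.Finite
import Groth.Prelude.Def_RefHull

/-!
# Morphisms of coherent modules on a proper scheme form a finite-dimensional space
-/

set_option autoImplicit false
set_option backward.isDefEq.respectTransparency false
universe u

noncomputable section

open CategoryTheory CategoryTheory.Limits AlgebraicGeometry Opposite

namespace GrothLib.LocalHilb26

open GrothLib.Euler (smulMod smulMod_app)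

variable {X : Scheme.{u}}

theorem ofHom_smulMod {F G : X.Modules} (φ : F ⟶ G) (r : Coh.Γtop X) :
    RefHull.ofHom (φ ≫ smulMod G r) ⊤ = (smulMod (RefHull.homSh F G) r).app ⊤ (RefHull.ofHom φ ⊤) := by
  refine Subtype.ext (funext fun x => LinearMap.ext fun v => ?_)
  obtain ⟨U, hx, m, rfl⟩ := TopCat.Presheaf.exists_germ_eq F.presheaf v
  show RefHull.stalkMapₗ (φ ≫ smulMod G r) x.1 (F.presheaf.germ U x.1 hx m) =
    X.presheaf.germ ⊤ x.1 x.2 (X.presheaf.map (homOfLE (le_top : (⊤ : X.Opens) ≤ ⊤)).op r) •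
      RefHull.stalkMapₗ φ x.1 (F.presheaf.germ U x.1 hx m)
  rw [RefHull.stalkMapₗ_germ, RefHull.stalkMapₗ_germ,
    show (φ ≫ smulMod G r).app U m = (smulMod G r).app U (φ.app U m) from rfl, smulMod_app, Mero.germ_smul,
    TopCat.Presheaf.germ_res_apply, TopCat.Presheaf.germ_res_apply]

theorem ofHom_injective {F G : X.Modules} {φ ψ : F ⟶ G} (e : RefHull.ofHom φ ⊤ = RefHull.ofHom ψ ⊤) : φ = ψ := by
  refine Scheme.Modules.hom_ext _ _ fun U => ConcreteCategory.hom_ext _ _ fun m => ?_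
  refine TopCat.Presheaf.section_ext (C := Ab.{u}) (X := X.carrier) ⟨G.presheaf, G.isSheaf⟩ U _ _ fun x hx => ?_
  have h := congrArg (fun g : Γ(RefHull.homSh F G, ⊤) => g.1 ⟨x, trivial⟩ (F.presheaf.germ U x hx m)) e
  simp only [RefHull.ofHom_apply, RefHull.stalkMapₗ_germ] at h
  exact h

variable {k : Type u} [Field k] [X.Over (Spec (CommRingCat.of k))]

/-- Maps of coherent modules on a proper scheme, compatibly with scalars, inside a finite-dimensional space. -/
theorem exists_finite_embedding [IsProper (X ↘ Spec (CommRingCat.of k))] (F G : X.Modules) (hF : Coh.IsCoh F)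
    (hG : Coh.IsCoh G) :
    ∃ (V : Type u) (_ : AddCommGroup V) (_ : Module k V) (_ : Module.Finite k V) (Φ : (F ⟶ G) →+ V),
      Function.Injective Φ ∧
        ∀ (c : k) (φ : F ⟶ G), Φ (φ ≫ smulMod G (Coh.toGlobal (X ↘ Spec (CommRingCat.of k)) c)) = c • Φ φ := by
  haveI : IsLocallyNoetherian X := LocallyOfFiniteType.isLocallyNoetherian (X ↘ Spec (CommRingCat.of k))
  have hH := HomSh.isCoh_homSh (G := G) (HomSh.hasRel_of_isCoh hF) hG
  let H := RefHull.homSh F G
  let e := Sheaf.H.equiv₀ (Coh.toAb H) (T := (⊤ : X.Opens)) isTerminalTop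
  refine ⟨Coh.HH X H 0, inferInstance, inferInstance, ProjCoh.moduleFinite_HH k H hH 0,
    e.symm.toAddMonoidHom.comp (AddMonoidHom.mk' (fun φ => RefHull.ofHom φ ⊤) fun φ ψ => ?_),
    fun φ ψ h => ofHom_injective (e.symm.injective h), fun c φ => e.injective ?_⟩
  · refine Subtype.ext (funext fun x => LinearMap.ext fun v => ?_)
    obtain ⟨U, hx, m, rfl⟩ := TopCat.Presheaf.exists_germ_eq F.presheaf v
    show RefHull.stalkMapₗ (φ + ψ) x.1 _ = RefHull.stalkMapₗ φ x.1 _ + RefHull.stalkMapₗ ψ x.1 _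
    rw [RefHull.stalkMapₗ_germ, RefHull.stalkMapₗ_germ, RefHull.stalkMapₗ_germ, ← map_add]
    rfl
  · refine (e.apply_symm_apply _).trans ((ofHom_smulMod φ _).trans ?_)
    refine Eq.trans ?_ (Sheaf.H.equiv₀_naturality isTerminalTop
      (Coh.smulAb H (Coh.toGlobal (X ↘ Spec (CommRingCat.of k)) c)) _)
    exact congrArg ((smulMod H _).app ⊤) (e.apply_symm_apply _).symm

end GrothLib.LocalHilb26
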