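import Groth.Agent.Lib.LocalHilb26.TangentLin
import Groth.Agent.Lib.LocalHilb26.FiniteHom
import Groth.Agent.Lib.ArtFun.Criteria
import Groth.Agent.Lib.ArtFun.Tangent
import Groth.Agent.Lib.Chow.Prod
import Groth.Agent.Lib.ModDesc.Approx
import Groth.Agent.Lib.QCoh.SupportExact
import Groth.Agent.Lib.QCoh.Pieces
import Groth.Agent.Lib.HomSh.Coherent

/-!
# Pro-representability of the local Hilbert functor
-/

set_option autoImplicit false
set_option backward.isDefEq.respectTransparency false
universe u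

noncomputable section

open CategoryTheory CategoryTheory.Limits AlgebraicGeometry

namespace GrothLib.LocalHilb26

open _root_.ArtFun
open GrothLib.Euler (smulMod)

variable {k : Type u} [Field k] {Y : Scheme.{u}} (y : Y ⟶ Art.specPt k)

theorem isCoh_conormal [IsLocallyNoetherian Y] (I₀ : Y.IdealSheafData) :
    Coh.IsCoh ((Scheme.Modules.pullback I₀.subschemeι).obj (ClSub.idealMod I₀)) :=
  ModDesc.isCoh_pullback _ _
    (QCoh.isCoh_kernel (ClSub.toSubscheme I₀) (HomSh.isCoh_structureModule Y) (QCoh.pushUnit_isCoh I₀.subschemeι))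

theorem hfin [LocallyOfFiniteType y] (I₀ : Y.IdealSheafData) [IsProper (I₀.subschemeι ≫ y)]
    [TangentStr (localHilb Y y I₀)] : Hfin (localHilb Y y I₀) := by
  letI : I₀.subscheme.Over (Spec (CommRingCat.of k)) := ⟨I₀.subschemeι ≫ y⟩
  haveI : IsProper (I₀.subscheme ↘ Spec (CommRingCat.of k)) := ‹_›
  haveI : IsLocallyNoetherian Y := LocallyOfFiniteType.isLocallyNoetherian y
  obtain ⟨V, _, _, _, Φ, hΦ, hΦc⟩ := exists_finite_embedding (k := k) _ (Coh.structureModule I₀.subscheme)
    (isCoh_conormal I₀) (HomSh.isCoh_structureModule I₀.subscheme)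
  let adj := Scheme.Modules.pullbackPushforwardAdjunction I₀.subschemeι
  let e := (adj.homAddEquiv (ClSub.idealMod I₀) (Coh.structureModule I₀.subscheme)).symm
  have hr : ∀ c : k, Coh.toGlobal (I₀.subscheme ↘ Spec (CommRingCat.of k)) c = I₀.subschemeι.appTop (Coh.toGlobal y c) :=
    fun c => ConcreteCategory.congr_hom (Scheme.Hom.comp_appTop I₀.subschemeι y) _
  let Ψ : TangentSpace (localHilb Y y I₀) →ₗ[k] V :=
    { toFun := fun a => Φ (e (toHom y I₀ a.val))
      map_add' := fun a b => by rw [toHom_add, map_add e, map_add Φ]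
      map_smul' := fun c a => by
        rw [toHom_smul, RingHom.id_apply, ← hΦc, hr]
        refine congrArg Φ ((AddEquiv.symm_apply_eq _).2 ?_)
        show toHom y I₀ a.val ≫ _ = adj.homEquiv _ _ (_ ≫ smulMod _ _)
        rw [Adjunction.homEquiv_naturality_right, pushforward_map_smulMod]
        exact congrArg (· ≫ _) ((adj.homEquiv _ _).apply_symm_apply _).symm }
  exact Module.Finite.of_injective Ψ ((hΦ.comp e.injective).comp (toHom_injective y I₀))

theorem isProrepresentable [LocallyOfFiniteType y] (I₀ : Y.IdealSheafData) [IsProper (I₀.subschemeι ≫ y)] :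
    IsProrepresentable (localHilb Y y I₀) := by
  have h2 : Heps (localHilb Y y I₀) := fun B A' p' p'' h => bijective_cmp y I₀ h (Art.dual k k).res_surjective
  obtain ⟨T⟩ := GrothLib.ArtFun.nonempty_tangentStr (h0 y I₀) h2
  exact (GrothLib.ArtFun.isProrepresentable_iff_schlessinger GrothLib.ArtFun.simpleRoots_of_tower (h0 y I₀)).2
    ⟨fun B A A' A'' p' p'' f' f'' h hf => (bijective_cmp y I₀ h hf.1).surjective, h2, hfin y I₀,
      fun B A A' p₁ p₂ f h hf => bijective_cmp y I₀ h hf.1⟩

theorem isProper_of_projective (I₀ : Y.IdealSheafData)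
    (hproj : ∃ (n : ℕ) (c : I₀.subscheme ⟶ CohB1.ProjSpaceOver n (Spec (CommRingCat.of k))),
      IsClosedImmersion c ∧ c ≫ CohB1.ProjSpaceOver.toBase n (Spec (CommRingCat.of k)) = I₀.subschemeι ≫ y) :
    IsProper (I₀.subschemeι ≫ y) := by
  obtain ⟨n, c, hc, he⟩ := hproj
  haveI := hc
  haveI : IsProper (CohB1.ProjSpaceOver.toBase n (Spec (CommRingCat.of k))) := Chow.isProper_toBase n _
  rw [← he]
  infer_instance

end GrothLib.LocalHilb26
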