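import Groth.Prelude.Def_ArtFun6
import Groth.Agent.Lib.BlowUp.IdealComap
import Mathlib.AlgebraicGeometry.Morphisms.Flat
import Mathlib.AlgebraicGeometry.Morphisms.Affine

/-!
# `Y ×_k Spec A` on the preimages of affine opens
-/

set_option autoImplicit false
set_option backward.isDefEq.respectTransparency false
universe u

noncomputable section

open CategoryTheory CategoryTheory.Limits AlgebraicGeometry

namespace GrothLib.LocalHilb26

open ArtFun ArtFun.Art

variable {k : Type u} [Field k] {Y : Scheme.{u}} (y : Y ⟶ specPt k)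

/-- The preimage of `U` in `Y ×_k Spec A`. -/
def preim (A : Art k k) (U : Y.Opens) : (XA y A).Opens := pullback.fst y (specOver A) ⁻¹ᵁ U

theorem preim_eq {A B : Art k k} (g : A ⟶ B) (U : Y.Opens) : preim y B U = XAmap y g ⁻¹ᵁ preim y A U := by
  show _ = XAmap y g ⁻¹ᵁ (pullback.fst y (specOver A) ⁻¹ᵁ U)
  rw [← Scheme.Hom.comp_preimage, XAmap_fst]
  rfl

theorem isAffineOpen_preim (A : Art k k) {U : Y.Opens} (hU : IsAffineOpen U) : IsAffineOpen (preim y A U) :=
  haveI : IsAffineHom (pullback.fst y (specOver A)) := MorphismProperty.pullback_fst _ _ inferInstance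
  hU.preimage _

/-- The affine open of `Y ×_k Spec A` over an affine open of `Y`. -/
abbrev chart (A : Art k k) (U : Y.affineOpens) : (XA y A).affineOpens := ⟨preim y A U.1, isAffineOpen_preim y A U.2⟩

theorem iSup_chart (A : Art k k) : ⨆ U : Y.affineOpens, (chart y A U).1 = ⊤ := by
  refine top_le_iff.1 fun z _ => ?_
  obtain ⟨U, hU⟩ := TopologicalSpace.Opens.mem_iSup.1
    ((iSup_affineOpens_eq_top Y).ge (Set.mem_univ (pullback.fst y (specOver A) z)))
  exact TopologicalSpace.Opens.mem_iSup.2 ⟨U, hU⟩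

/-- The functions on the chart. -/
abbrev SR (A : Art k k) (U : Y.affineOpens) : Type u := Γ(XA y A, (chart y A U).1)

/-- The structure map of a chart. -/
def str (A : Art k k) (U : Y.affineOpens) : CommRingCat.of A.carrier ⟶ Γ(XA y A, (chart y A U).1) :=
  (Scheme.ΓSpecIso _).inv ≫ (XApr y A).appLE ⊤ (chart y A U).1 le_top

/-- Restriction along a morphism of base rings. -/
def res {A B : Art k k} (g : A ⟶ B) (U : Y.affineOpens) :
    Γ(XA y A, (chart y A U).1) ⟶ Γ(XA y B, (chart y B U).1) :=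
  (XAmap y g).appLE _ _ (preim_eq y g U.1).le

/-- The underlying map of rings. -/
abbrev ringMap {A B : Art k k} (g : A ⟶ B) : CommRingCat.of A.carrier ⟶ CommRingCat.of B.carrier :=
  CommRingCat.ofHom g.toAlgHom.toRingHom

theorem specMap_appTop {A B : Art k k} (g : A ⟶ B) :
    (Scheme.ΓSpecIso (CommRingCat.of A.carrier)).inv ≫ (specMap g).appLE ⊤ ⊤ le_top =
      ringMap g ≫ (Scheme.ΓSpecIso _).inv := by
  rw [Scheme.ΓSpecIso_inv_naturality, Scheme.Hom.appTop, Scheme.Hom.app_eq_appLE]
  rfl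

theorem str_res {A B : Art k k} (g : A ⟶ B) (U : Y.affineOpens) :
    str y A U ≫ res y g U = ringMap g ≫ str y B U := by
  rw [str, str, res, Category.assoc, Scheme.Hom.appLE_comp_appLE, ← Category.assoc (ringMap g), ← specMap_appTop,
    Category.assoc, Scheme.Hom.appLE_comp_appLE]
  simp only [XAmap_snd]

theorem res_comp {A B C : Art k k} (g : A ⟶ B) (h : B ⟶ C) (U : Y.affineOpens) :
    res y g U ≫ res y h U = res y (g ≫ h) U := by
  rw [res, res, res, Scheme.Hom.appLE_comp_appLE]
  simp only [XAmap_comp]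

theorem isPushout_res {A B : Art k k} (g : A ⟶ B) (U : Y.affineOpens) :
    IsPushout (ringMap g) (str y A U) (str y B U) (res y g U) := by
  have hUY : preim y B U.1 = XAmap y g ⁻¹ᵁ preim y A U.1 ⊓ XApr y B ⁻¹ᵁ ⊤ := by
    rw [← preim_eq]; simp
  have H := (isIso_pushoutSection_iff (isPullback_XAmap y g) (US := ⊤) (UT := ⊤) le_top le_top hUY).1
    (isIso_pushoutSection_of_isAffineOpen (isPullback_XAmap y g) le_top le_top hUY
      (isAffineOpen_top _) (isAffineOpen_top _) (isAffineOpen_preim y A U.2))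
  refine H.flip.of_iso (Scheme.ΓSpecIso _) (Scheme.ΓSpecIso _) (Iso.refl _) (Iso.refl _) ?_ ?_ ?_ ?_
  · refine (cancel_mono (Scheme.ΓSpecIso (CommRingCat.of B.carrier)).inv).1 ?_
    simp only [Category.assoc, Iso.hom_inv_id, Category.comp_id]
    rw [← specMap_appTop, Iso.hom_inv_id_assoc]
  · simp [str]
  · simp [str]
  · simp [res]

theorem flat_str (A : Art k k) (U : Y.affineOpens) : (str y A U).hom.Flat := by
  rw [str, CommRingCat.hom_comp]
  exact .comp (.of_bijective (ConcreteCategory.bijective_of_isIso _))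
    ((XApr y A).flat_appLE (isAffineOpen_top _) (isAffineOpen_preim y A U.2) _)

theorem ideal_comap {A B : Art k k} (g : A ⟶ B) (I : (XA y A).IdealSheafData) (U : Y.affineOpens) :
    (I.comap (XAmap y g)).ideal (chart y B U) = (I.ideal (chart y A U)).map (res y g U).hom :=
  GrothLib.BlowUp.ideal_comap_eq_map I _ _ _ _

theorem ideal_map_of_eq {X Z : Scheme.{u}} (f : X ⟶ Z) [IsAffineHom f] (I : X.IdealSheafData)
    (V : Z.affineOpens) (W : X.affineOpens) (h : W.1 = f ⁻¹ᵁ V.1) :
    (I.map f).ideal V = (I.ideal W).comap (f.appLE V.1 W.1 h.le).hom := by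
  obtain rfl : W = ⟨f ⁻¹ᵁ V.1, V.2.preimage f⟩ := Subtype.ext h
  rw [Scheme.IdealSheafData.ideal_map_of_isAffineHom, Scheme.Hom.app_eq_appLE]

instance isAffineHom_XAmap {A B : Art k k} (g : A ⟶ B) : IsAffineHom (XAmap y g) :=
  MorphismProperty.of_isPullback (isPullback_XAmap y g).flip (inferInstance : IsAffineHom (specMap g))

theorem ideal_map {A B : Art k k} (g : A ⟶ B) (I : (XA y B).IdealSheafData) (U : Y.affineOpens) :
    (I.map (XAmap y g)).ideal (chart y A U) = (I.ideal (chart y B U)).comap (res y g U).hom :=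
  ideal_map_of_eq _ I _ _ (preim_eq y g U.1)

theorem flatOver_iff (A : Art k k) (I : (XA y A).IdealSheafData) :
    FlatOver Y y A I ↔
      ∀ U : Y.affineOpens, ((Ideal.Quotient.mk (I.ideal (chart y A U))).comp (str y A U).hom).Flat := by
  let 𝒰 : I.subscheme.OpenCover := I.subscheme.openCoverOfIsOpenCover
    (fun U : Y.affineOpens => I.subschemeι ⁻¹ᵁ (chart y A U).1) (by
      refine top_le_iff.1 fun z _ => ?_
      obtain ⟨U, hU⟩ := TopologicalSpace.Opens.mem_iSup.1 ((iSup_chart y A).ge (Set.mem_univ (I.subschemeι z)))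
      exact TopologicalSpace.Opens.mem_iSup.2 ⟨U, hU⟩)
  rw [FlatOver, IsZariskiLocalAtSource.iff_of_openCover (P := @Flat) 𝒰]
  refine forall_congr' fun U => ?_
  let V := chart y A U
  let e := IsOpenImmersion.isoOfRangeEq (I.subschemeCover.f V) (I.subschemeι ⁻¹ᵁ V.1).ι (by
    rw [← Scheme.Hom.coe_opensRange, I.opensRange_subschemeCover_map, Scheme.Opens.range_ι])
  have key : I.subschemeCover.f V ≫ I.subschemeι ≫ XApr y A =
      Spec.map (str y A U ≫ CommRingCat.ofHom (Ideal.Quotient.mk (I.ideal V))) := by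
    rw [← Category.assoc, I.subschemeCover_map_subschemeι, I.glueDataObjι_ι, Category.assoc,
      ← IsAffineOpen.SpecMap_appLE_fromSpec (XApr y A) (isAffineOpen_top _) V.2 le_top,
      IsAffineOpen.fromSpec_top, Scheme.isoSpec_Spec_inv, ← Spec.map_comp, ← Spec.map_comp]
    rfl
  show Flat ((I.subschemeι ⁻¹ᵁ V.1).ι ≫ _) ↔ _
  rw [← MorphismProperty.cancel_left_of_respectsIso @Flat e.hom, ← Category.assoc,
    IsOpenImmersion.isoOfRangeEq_hom_fac, key, Flat.SpecMap_iff]
  rfl

end GrothLib.LocalHilb26
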