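import Groth.Agent.Lib.LocalHilb26.Alg
import Groth.Agent.Lib.LocalHilb26.Geo
import Groth.Prelude.Def_ArtFun2
import Mathlib.RingTheory.RingHom.Flat
import Mathlib.Algebra.Category.Ring.Constructions

/-!
# The local Hilbert functor carries fibre products to fibre products
-/

set_option autoImplicit false
set_option backward.isDefEq.respectTransparency false
universe u

noncomputable section

open CategoryTheory CategoryTheory.Limits AlgebraicGeometry

namespace GrothLib.LocalHilb26

open ArtFun ArtFun.Art

variable {k : Type u} [Field k] {Y : Scheme.{u}} (y : Y ⟶ specPt k)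
  {B A A' A'' : Art k k} {p' : B ⟶ A'} {p'' : B ⟶ A''} {f' : A' ⟶ A} {f'' : A'' ⟶ A}

/-- The statements needed on each chart. -/
theorem chart_facts (h : IsFibreProd p' p'' f' f'') (hf : Function.Surjective f'') (U : Y.affineOpens) :
    (∀ (J' : Ideal (SR y A' U)) (J'' : Ideal (SR y A'' U)),
      J'.map (res y f' U).hom = J''.map (res y f'' U).hom →
      ((Ideal.Quotient.mk J').comp (str y A' U).hom).Flat → ((Ideal.Quotient.mk J'').comp (str y A'' U).hom).Flat →
        (J'.comap (res y p' U).hom ⊓ J''.comap (res y p'' U).hom).map (res y p' U).hom = J' ∧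
        (J'.comap (res y p' U).hom ⊓ J''.comap (res y p'' U).hom).map (res y p'' U).hom = J'' ∧
        ((Ideal.Quotient.mk (J'.comap (res y p' U).hom ⊓ J''.comap (res y p'' U).hom)).comp (str y B U).hom).Flat) ∧
    (∀ J : Ideal (SR y B U), ((Ideal.Quotient.mk J).comp (str y B U).hom).Flat →
      J = (J.map (res y p' U).hom).comap (res y p' U).hom ⊓ (J.map (res y p'' U).hom).comap (res y p'' U).hom) := by
  letI : Algebra B.carrier A'.carrier := p'.toAlgHom.toRingHom.toAlgebra
  letI : Algebra B.carrier A''.carrier := p''.toAlgHom.toRingHom.toAlgebra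
  letI : Algebra A'.carrier A.carrier := f'.toAlgHom.toRingHom.toAlgebra
  letI : Algebra A''.carrier A.carrier := f''.toAlgHom.toRingHom.toAlgebra
  letI : Algebra B.carrier A.carrier := (p' ≫ f').toAlgHom.toRingHom.toAlgebra
  haveI : IsScalarTower B.carrier A'.carrier A.carrier := .of_algebraMap_eq fun _ => rfl
  haveI : IsScalarTower B.carrier A''.carrier A.carrier := .of_algebraMap_eq fun b => h.w_apply b
  have hsq : EtMil.IsFibreSquare B.carrier A'.carrier A''.carrier A.carrier :=
    ⟨hf, fun a' a'' e => by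
      obtain ⟨b, h1, h2⟩ := h.surj a' a'' e
      exact ⟨b, ⟨h1, h2⟩, fun b' hb' => h.inj b' b (hb'.1.trans h1.symm) (hb'.2.trans h2.symm)⟩⟩
  letI : Algebra B.carrier (SR y B U) := (str y B U).hom.toAlgebra
  letI : Algebra A'.carrier (SR y A' U) := (str y A' U).hom.toAlgebra
  letI : Algebra A''.carrier (SR y A'' U) := (str y A'' U).hom.toAlgebra
  letI : Algebra A.carrier (SR y A U) := (str y A U).hom.toAlgebra
  letI : Algebra (SR y B U) (SR y A' U) := (res y p' U).hom.toAlgebra
  letI : Algebra (SR y B U) (SR y A'' U) := (res y p'' U).hom.toAlgebra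
  letI : Algebra (SR y A' U) (SR y A U) := (res y f' U).hom.toAlgebra
  letI : Algebra (SR y A'' U) (SR y A U) := (res y f'' U).hom.toAlgebra
  letI : Algebra (SR y B U) (SR y A U) := (res y (p' ≫ f') U).hom.toAlgebra
  letI : Algebra B.carrier (SR y A' U) := (ringMap p' ≫ str y A' U).hom.toAlgebra
  letI : Algebra B.carrier (SR y A'' U) := (ringMap p'' ≫ str y A'' U).hom.toAlgebra
  letI : Algebra B.carrier (SR y A U) := (ringMap (p' ≫ f') ≫ str y A U).hom.toAlgebra
  letI : Algebra A'.carrier (SR y A U) := (ringMap f' ≫ str y A U).hom.toAlgebra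
  letI : Algebra A''.carrier (SR y A U) := (ringMap f'' ≫ str y A U).hom.toAlgebra
  haveI : IsScalarTower B.carrier A'.carrier (SR y A' U) := .of_algebraMap_eq fun _ => rfl
  haveI : IsScalarTower B.carrier A''.carrier (SR y A'' U) := .of_algebraMap_eq fun _ => rfl
  haveI : IsScalarTower B.carrier A.carrier (SR y A U) := .of_algebraMap_eq fun _ => rfl
  haveI : IsScalarTower A'.carrier A.carrier (SR y A U) := .of_algebraMap_eq fun _ => rfl
  haveI : IsScalarTower A''.carrier A.carrier (SR y A U) := .of_algebraMap_eq fun _ => rfl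
  haveI : IsScalarTower B.carrier (SR y B U) (SR y A' U) :=
    .of_algebraMap_eq fun b => (ConcreteCategory.congr_hom (str_res y p' U) b).symm
  haveI : IsScalarTower B.carrier (SR y B U) (SR y A'' U) :=
    .of_algebraMap_eq fun b => (ConcreteCategory.congr_hom (str_res y p'' U) b).symm
  haveI : IsScalarTower B.carrier (SR y B U) (SR y A U) :=
    .of_algebraMap_eq fun b => (ConcreteCategory.congr_hom (str_res y (p' ≫ f') U) b).symm
  haveI : IsScalarTower A'.carrier (SR y A' U) (SR y A U) :=
    .of_algebraMap_eq fun b => (ConcreteCategory.congr_hom (str_res y f' U) b).symm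
  haveI : IsScalarTower A''.carrier (SR y A'' U) (SR y A U) :=
    .of_algebraMap_eq fun b => (ConcreteCategory.congr_hom (str_res y f'' U) b).symm
  haveI : IsScalarTower (SR y B U) (SR y A' U) (SR y A U) :=
    .of_algebraMap_eq fun b => (ConcreteCategory.congr_hom (res_comp y p' f' U) b).symm
  haveI : IsScalarTower (SR y B U) (SR y A'' U) (SR y A U) :=
    .of_algebraMap_eq fun b => by
      have e := ConcreteCategory.congr_hom (res_comp y p'' f'' U) b
      rw [← h.w] at e
      exact e.symm
  haveI : Algebra.IsPushout B.carrier A'.carrier (SR y B U) (SR y A' U) :=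
    CommRingCat.isPushout_iff_isPushout.1 (isPushout_res y p' U)
  haveI : Algebra.IsPushout B.carrier A''.carrier (SR y B U) (SR y A'' U) :=
    CommRingCat.isPushout_iff_isPushout.1 (isPushout_res y p'' U)
  haveI : Algebra.IsPushout B.carrier A.carrier (SR y B U) (SR y A U) :=
    CommRingCat.isPushout_iff_isPushout.1 (isPushout_res y (p' ≫ f') U)
  refine ⟨fun J' J'' e h' h'' => ?_, fun J hJ => ?_⟩
  · haveI hF' : Module.Flat A'.carrier (SR y A' U ⧸ J') := RingHom.flat_algebraMap_iff.1 h'
    haveI hF'' : Module.Flat A''.carrier (SR y A'' U ⧸ J'') := RingHom.flat_algebraMap_iff.1 h''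
    obtain ⟨e', e''⟩ := map_glue (B := B.carrier) (A' := A'.carrier) (A'' := A''.carrier) (A := A.carrier)
      (R := SR y B U) (R₀ := SR y A U) hsq J' J'' e
    refine ⟨e', e'', RingHom.flat_algebraMap_iff.2 ?_⟩
    haveI : Module.Flat A'.carrier (SR y A' U ⧸ (J'.comap (algebraMap (SR y B U) (SR y A' U)) ⊓
        J''.comap (algebraMap (SR y B U) (SR y A'' U))).map (algebraMap (SR y B U) (SR y A' U))) := by
      rwa [e']
    haveI : Module.Flat A''.carrier (SR y A'' U ⧸ (J'.comap (algebraMap (SR y B U) (SR y A' U)) ⊓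
        J''.comap (algebraMap (SR y B U) (SR y A'' U))).map (algebraMap (SR y B U) (SR y A'' U))) := by
      rwa [e'']
    exact flat_quotient (A := A.carrier) (R' := SR y A' U) (R'' := SR y A'' U) hsq _
  · haveI : Module.Flat B.carrier (SR y B U ⧸ J) := RingHom.flat_algebraMap_iff.1 hJ
    exact eq_comap_inf_comap (A := A.carrier) (R' := SR y A' U) (R'' := SR y A'' U) hsq J

/-- The comparison map is bijective for fibre products along a surjection. -/
theorem bijective_cmp (I₀ : Y.IdealSheafData) (h : IsFibreProd p' p'' f' f'') (hf : Function.Surjective f'') :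
    Function.Bijective (cmp (localHilb Y y I₀) h) := by
  refine ⟨fun I I' e => Subtype.ext ?_, fun ⟨⟨I', I''⟩, e⟩ => ?_⟩
  · have e1 : I.1.comap (XAmap y p') = I'.1.comap (XAmap y p') := congrArg (fun z => z.1.1.1) e
    have e2 : I.1.comap (XAmap y p'') = I'.1.comap (XAmap y p'') := congrArg (fun z => z.1.2.1) e
    refine Scheme.IdealSheafData.ext_of_iSup_eq_top (chart y B) (iSup_chart y B) fun U => ?_
    rw [(chart_facts y h hf U).2 _ ((flatOver_iff y B I.1).1 I.2.1 U),
      (chart_facts y h hf U).2 _ ((flatOver_iff y B I'.1).1 I'.2.1 U),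
      ← ideal_comap, ← ideal_comap, ← ideal_comap, ← ideal_comap, e1, e2]
  · have e0 : I'.1.comap (XAmap y f') = I''.1.comap (XAmap y f'') := congrArg Subtype.val e
    let J : (XA y B).IdealSheafData := I'.1.map (XAmap y p') ⊓ I''.1.map (XAmap y p'')
    have hJ : ∀ U : Y.affineOpens, J.ideal (chart y B U) =
        (I'.1.ideal (chart y A' U)).comap (res y p' U).hom ⊓ (I''.1.ideal (chart y A'' U)).comap (res y p'' U).hom :=
      fun U => by rw [← ideal_map, ← ideal_map]; rfl
    have main := fun U => (chart_facts y h hf U).1 (I'.1.ideal (chart y A' U)) (I''.1.ideal (chart y A'' U))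
      (by rw [← ideal_comap, ← ideal_comap, e0]) ((flatOver_iff y A' I'.1).1 I'.2.1 U)
      ((flatOver_iff y A'' I''.1).1 I''.2.1 U)
    have h1 : J.comap (XAmap y p') = I'.1 :=
      Scheme.IdealSheafData.ext_of_iSup_eq_top (chart y A') (iSup_chart y A') fun U => by
        rw [ideal_comap, hJ]; exact (main U).1
    have h2 : J.comap (XAmap y p'') = I''.1 :=
      Scheme.IdealSheafData.ext_of_iSup_eq_top (chart y A'') (iSup_chart y A'') fun U => by
        rw [ideal_comap, hJ]; exact (main U).2.1
    refine ⟨⟨J, (flatOver_iff y B J).2 fun U => by rw [hJ]; exact (main U).2.2, ?_⟩,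
      FibProd.ext (Subtype.ext h1) (Subtype.ext h2)⟩
    rw [← XAincl_XAmap y p', Scheme.IdealSheafData.comap_comp, h1, I'.2.2]

theorem h0 (I₀ : Y.IdealSheafData) : H0 (localHilb Y y I₀) := by
  have hk : ofBase (Art.base k k) = 𝟙 _ := eq_toBase _ |>.trans (eq_toBase _).symm
  haveI : IsIso (specOver (Art.base k k)) := by
    show IsIso (specMap (ofBase (Art.base k k)))
    rw [hk, specMap_id]
    infer_instance
  have hinv : pullback.fst y (specOver (Art.base k k)) ≫ XAincl y (Art.base k k) = 𝟙 _ := by
    rw [← cancel_mono (pullback.fst y (specOver (Art.base k k))), Category.assoc, XAincl_fst,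
      Category.comp_id, Category.id_comp]
  refine ⟨⟨⟨I₀.comap (pullback.fst y (specOver (Art.base k k))), ?_, ?_⟩⟩, ⟨fun I I' => Subtype.ext ?_⟩⟩
  · haveI : Subsingleton (spec (Art.base k k)) := inferInstanceAs (Subsingleton (PrimeSpectrum k))
    haveI : IsIntegral (spec (Art.base k k)) := inferInstanceAs (IsIntegral (Spec (CommRingCat.of k)))
    unfold FlatOver
    infer_instance
  · rw [← Scheme.IdealSheafData.comap_comp, XAincl_fst, Scheme.IdealSheafData.comap_id]
  · rw [← I.1.comap_id, ← I'.1.comap_id, ← hinv, Scheme.IdealSheafData.comap_comp, Scheme.IdealSheafData.comap_comp,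
      I.2.2, I'.2.2]

end GrothLib.LocalHilb26
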