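import Groth.Agent.Lib.Euler.Scalar
import Groth.Agent.Lib.FinCov.FrameFree
import Groth.Agent.Lib.LocFreeHom.Basic
import Groth.Prelude.Def_Coh

/-!
# Global scalars and `H⁰` of a sheaf of homomorphisms
-/

set_option autoImplicit false
set_option backward.isDefEq.respectTransparency false
universe u

noncomputable section

open CategoryTheory CategoryTheory.Limits AlgebraicGeometry Opposite MonoidalCategory

namespace GrothLib.LocalHilb26

open GrothLib.Euler (smulMod smulMod_app)

variable {X : Scheme.{u}}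

theorem smulMod_natural {M N : X.Modules} (φ : M ⟶ N) (r : Coh.Γtop X) :
    φ ≫ smulMod N r = smulMod M r ≫ φ :=
  Scheme.Modules.hom_ext _ _ fun U => ConcreteCategory.hom_ext _ _ fun m => by
    exact (Scheme.Modules.Hom.app_smul φ _ m).symm

theorem pushforward_map_smulMod {Z : Scheme.{u}} (i : Z ⟶ X) (G : Z.Modules) (r : Coh.Γtop X) :
    (Scheme.Modules.pushforward i).map (smulMod G (i.appTop r)) =
      smulMod ((Scheme.Modules.pushforward i).obj G) r :=
  Scheme.Modules.hom_ext _ _ fun U => ConcreteCategory.hom_ext _ _ fun (s : Γ(G, i ⁻¹ᵁ U)) => by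
    show (Z.presheaf.map (homOfLE (le_top : i ⁻¹ᵁ U ≤ ⊤)).op (i.appTop r) : Γ(Z, i ⁻¹ᵁ U)) • s =
      (i.app U (X.presheaf.map (homOfLE (le_top : U ≤ ⊤)).op r) : Γ(Z, i ⁻¹ᵁ U)) • s
    congr 1
    exact (ConcreteCategory.congr_hom (i.naturality (homOfLE (le_top : U ≤ ⊤)).op) r).symm

theorem tensor_map_smulMod (M N : X.Modules) (r : Coh.Γtop X) :
    ((DCoh.tensorBi (X := X)).obj M).map (smulMod N r) = smulMod (((DCoh.tensorBi (X := X)).obj M).obj N) r := by
  let adj := PresheafOfModules.sheafificationAdjunction (R := X.ringCatSheaf) (𝟙 X.ringCatSheaf.obj)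
  let P : CohB1.PMod X := DCoh.toP.obj M ⊗ DCoh.toP.obj N
  let η : P ⟶ DCoh.toP.obj (DCoh.shP.obj P) := adj.unit.app P
  refine (adj.homEquiv P _).injective ?_
  rw [Adjunction.homEquiv_unit, Adjunction.homEquiv_unit]
  show η ≫ DCoh.toP.map (DCoh.shP.map (DCoh.toP.obj M ◁ DCoh.toP.map (smulMod N r))) =
    η ≫ DCoh.toP.map (smulMod (DCoh.shP.obj P) r)
  refine ((adj.unit.naturality (DCoh.toP.obj M ◁ DCoh.toP.map (smulMod N r))).symm).trans ?_
  refine PresheafOfModules.hom_ext fun U => ModuleCat.MonoidalCategory.tensor_ext fun m n => ?_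
  let c : (X.sheaf.obj ⋙ forget₂ CommRingCat RingCat).obj U := Coh.resTop X U r
  show (η.app U).hom (m ⊗ₜ (c • n)) = c • (η.app U).hom (m ⊗ₜ n)
  erw [TensorProduct.tmul_smul]
  exact (η.app U).hom.map_smul c _

theorem sheafHom_map_smulMod (M N : X.Modules) [DCoh.HasSheafHom M] (r : Coh.Γtop X) :
    (DCoh.sheafHom M).map (smulMod N r) = smulMod ((DCoh.sheafHom M).obj N) r := by
  let adj := DCoh.sheafHomAdj M
  refine (adj.homEquiv _ N).symm.injective ?_
  rw [Adjunction.homEquiv_counit, Adjunction.homEquiv_counit, adj.counit_naturality, tensor_map_smulMod,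
    smulMod_natural]

/-- Global sections as maps from the structure sheaf. -/
def secEquiv (M : X.Modules) : (Coh.structureModule X ⟶ M) ≃+ Γ(M, ⊤) :=
  AddEquiv.ofBijective
    (AddMonoidHom.mk' (fun f : Coh.structureModule X ⟶ M => f.app ⊤ (1 : Γ(X, ⊤))) fun _ _ => rfl)
    ⟨fun f g e => by
      refine Scheme.Modules.hom_ext _ _ fun U => ConcreteCategory.hom_ext _ _ fun (a : Γ(X, U)) => ?_
      have key : ∀ h : Coh.structureModule X ⟶ M,
          h.app U a = a • M.presheaf.map (homOfLE (le_top : U ≤ ⊤)).op (h.app ⊤ (1 : Γ(X, ⊤))) := fun h => by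
        have e1 : M.presheaf.map (homOfLE (le_top : U ≤ ⊤)).op (h.app ⊤ (1 : Γ(X, ⊤))) = h.app U (1 : Γ(X, U)) :=
          (ConcreteCategory.congr_hom (h.mapPresheaf.naturality (homOfLE (le_top : U ≤ ⊤)).op) (1 : Γ(X, ⊤))).symm.trans
            (congrArg (h.app U) (map_one (X.presheaf.map (homOfLE (le_top : U ≤ ⊤)).op).hom))
        rw [e1]
        refine Eq.trans ?_ (Scheme.Modules.Hom.app_smul h a (1 : Γ(X, U)))
        exact congrArg (h.app U) (mul_one a).symm
      exact (key f).trans (Eq.trans (congrArg (fun t => a • M.presheaf.map (homOfLE (le_top : U ≤ ⊤)).op t) e) (key g).symm),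
    fun s => ⟨FinCov.homOfSection s, by
      refine (FinCov.homOfSection_one s ⊤).trans ?_
      show M.presheaf.map (𝟙 _) s = s
      rw [CategoryTheory.Functor.map_id]; rfl⟩⟩

theorem secEquiv_smulMod (M : X.Modules) (r : Coh.Γtop X) (f : Coh.structureModule X ⟶ M) :
    secEquiv M (f ≫ smulMod M r) = (smulMod M r).app ⊤ (secEquiv M f) := rfl

/-- `H⁰(Hom(M, N)) = Hom(M, N)`. -/
def hhHomEquiv (M N : X.Modules) [DCoh.HasSheafHom M] :
    Coh.HH X ((DCoh.sheafHom M).obj N) 0 ≃+ (M ⟶ N) :=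
  (Sheaf.H.equiv₀ (Coh.toAb ((DCoh.sheafHom M).obj N)) (T := (⊤ : X.Opens)) isTerminalTop).trans
    ((secEquiv ((DCoh.sheafHom M).obj N)).symm.trans
      (AddEquiv.mk'
        (((DCoh.sheafHomAdj M).homEquiv (Coh.structureModule X) N).symm.trans
          (Iso.homFromEquiv ((((OX.tensorBraiding (X := X)).app (Coh.structureModule X)).app M) ≪≫
            (OX.tensorUnitNatIso (X := X)).app M)))
        fun f g => by
          show _ ≫ ((DCoh.sheafHomAdj M).homEquiv _ N).symm (f + g) = _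
          rw [Adjunction.homAddEquiv_symm_apply .. |>.symm, map_add, Preadditive.comp_add]
          rfl))

theorem hhHomEquiv_smul (M N : X.Modules) [DCoh.HasSheafHom M] (r : Coh.Γtop X)
    (x : Coh.HH X ((DCoh.sheafHom M).obj N) 0) :
    hhHomEquiv M N (r • x) = hhHomEquiv M N x ≫ smulMod N r := by
  let G := (DCoh.sheafHom M).obj N
  have h1 : Sheaf.H.equiv₀ (Coh.toAb G) (T := (⊤ : X.Opens)) isTerminalTop (r • x) =
      (smulMod G r).app ⊤ (Sheaf.H.equiv₀ (Coh.toAb G) (T := (⊤ : X.Opens)) isTerminalTop x) :=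
    (Sheaf.H.equiv₀_naturality isTerminalTop (Coh.smulAb G r) x).symm
  have h2 : ∀ s : Γ(G, ⊤), (secEquiv G).symm ((smulMod G r).app ⊤ s) = (secEquiv G).symm s ≫ smulMod G r := by
    intro s
    rw [AddEquiv.symm_apply_eq, secEquiv_smulMod, AddEquiv.apply_symm_apply]
  simp only [hhHomEquiv, AddEquiv.trans_apply]
  rw [h1]
  let e := (((OX.tensorBraiding (X := X)).app (Coh.structureModule X)).app M ≪≫ (OX.tensorUnitNatIso (X := X)).app M)
  show e.inv ≫ ((DCoh.sheafHomAdj M).homEquiv _ N).symm ((secEquiv G).symm _) =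
    (e.inv ≫ ((DCoh.sheafHomAdj M).homEquiv _ N).symm _) ≫ smulMod N r
  refine (congrArg (fun t => e.inv ≫ ((DCoh.sheafHomAdj M).homEquiv _ N).symm t) (h2 _)).trans ?_
  rw [← sheafHom_map_smulMod, Category.assoc]
  congr 1
  exact (DCoh.sheafHomAdj M).homEquiv_naturality_right_symm _ _

end GrothLib.LocalHilb26
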