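import Groth.Agent.Lib.LocalHilb26.LiftAlg
import Groth.Agent.Lib.ArtinReg.Basic
import Mathlib.RingTheory.Regular.RegularSequence

/-!
# An ideal reducing to one generated by a regular sequence lifts with flat quotient
-/

set_option autoImplicit false
universe u

open IsLocalRing RingTheory.Sequence
open scoped Pointwise

namespace GrothLib.LocalHilb26

variable {A' A R' R B : Type u} [CommRing A'] [CommRing A] [CommRing R'] [CommRing R] [CommRing B]
  [IsLocalRing A'] [IsArtinianRing A'] [Algebra A' R'] [Algebra A R]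
  {p : A' →+* A} {t : A'} {res : R' →+* R} {π' : R' →+* B} {π : R →+* B} {ι : B →+* R'}

namespace IsSmallLift

variable (h : IsSmallLift p t res π' π ι)

include h

theorem exists_flat_lift_of_regular [IsLocalRing A] [IsArtinianRing A] [Module.Flat A' R'] [Module.Flat A R]
    {I : Ideal R} [Module.Flat A (R ⧸ I)] (rs : List B) (hreg : IsWeaklyRegular B rs)
    (hrs : I.map π = Ideal.ofList rs) :
    ∃ J : Ideal R', J.map res = I ∧ Module.Flat A' (R' ⧸ J) := by
  have hpick : ∀ b ∈ rs, ∃ z ∈ I.comap res, π' z = b := fun b hb =>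
    h.exists_π'_eq (hrs ▸ Ideal.subset_span hb)
  choose f hf hf' using hpick
  let fs : List R' := rs.attach.map fun b => f b.1 b.2
  have hmap : fs.map π' = rs := by
    rw [List.map_map]
    refine Eq.trans ?_ rs.attach_map_subtype_val
    exact List.map_congr_left fun b _ => hf' b.1 b.2
  let J : Ideal R' := Ideal.ofList fs
  have hJP : J.map res ≤ I := by
    refine Ideal.map_le_iff_le_comap.2 (Ideal.span_le.2 ?_)
    intro x hx
    obtain ⟨b, -, rfl⟩ := List.mem_map.1 hx
    exact hf b.1 b.2
  have hJπ : J.map π' = I.map π := by rw [Ideal.map_ofList, hmap, hrs]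
  have hπs : Function.Surjective π' := fun b => ⟨ι b, h.π_ι b⟩
  set N : Ideal R' := (maximalIdeal A').map (algebraMap A' R') with hN
  have step : ∀ z ∈ I.comap res, ∃ j ∈ J, ∃ q ∈ N * I.comap res, ∃ r, z = j + q + algebraMap A' R' t * r := by
    intro z hz
    obtain ⟨j, hj, e⟩ := (Ideal.mem_map_iff_of_surjective _ hπs).1 (hJπ.ge (by
      rw [← h.π_res]; exact Ideal.mem_map_of_mem π hz : π' z ∈ I.map π))
    have hj' : res j ∈ I := hJP (Ideal.mem_map_of_mem res hj)
    obtain ⟨r, hr⟩ := h.exists_sub_mem (z := z - j) (I := I) (by rw [map_sub]; exact I.sub_mem hz hj')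
      (by rw [map_sub, e, sub_self])
    exact ⟨j, hj, _, hr, r, by ring⟩
  have hpow : ∀ n : ℕ, I ≤ J.map res ⊔ (N ^ n).map res * I := by
    intro n
    induction n with
    | zero => simp [Ideal.map_top, Ideal.one_eq_top]
    | succ n ih =>
      refine ih.trans (sup_le le_sup_left (Ideal.mul_le.2 fun a ha i hi => ?_))
      obtain ⟨z, rfl⟩ := h.res_surj i
      obtain ⟨j, hj, q, hq, r, rfl⟩ := step z hi
      rw [map_add, map_add, map_mul res, h.res_t, zero_mul, add_zero, mul_add]
      refine Ideal.add_mem _ (Ideal.mem_sup_left (Ideal.mul_mem_left _ _ (Ideal.mem_map_of_mem res hj)))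
        (Ideal.mem_sup_right ?_)
      have hq' : res q ∈ N.map res * I := by
        have := Ideal.mem_map_of_mem res hq
        rw [Ideal.map_mul] at this
        exact Ideal.mul_mono_right Ideal.map_comap_le this
      rw [pow_succ, Ideal.map_mul, mul_assoc]
      exact Ideal.mul_mem_mul ha hq'
  have hJI : J.map res = I := by
    refine le_antisymm hJP ?_
    obtain ⟨n, hn⟩ : IsNilpotent (maximalIdeal A') := by
      rw [← IsLocalRing.jacobson_eq_maximalIdeal (⊥ : Ideal A') bot_ne_top]
      exact IsArtinianRing.isNilpotent_jacobson_bot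
    have h0 : N ^ n = ⊥ := by
      rw [hN, ← Ideal.map_pow, hn]
      exact Ideal.map_bot
    have := hpow n
    rwa [h0, Ideal.map_bot, ← Ideal.zero_eq_bot, zero_mul, Ideal.zero_eq_bot, sup_bot_eq] at this
  refine ⟨J, hJI, ?_⟩
  letI : Algebra R' B := π'.toAlgebra
  let e : (R' ⧸ N • (⊤ : Submodule R' R')) ≃ₗ[R'] B :=
    Submodule.quotEquivOfEq _ _ (by
      rw [smul_eq_mul, Ideal.mul_top, hN, ← h.ker_π']
      rfl : N • (⊤ : Submodule R' R') = LinearMap.ker (Algebra.linearMap R' B)) ≪≫ₗ
      LinearMap.quotKerEquivOfSurjective (Algebra.linearMap R' B) hπs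
  have hw : IsWeaklyRegular R' fs := by
    refine (ArtinReg.isWeaklyRegular_iff (A := A') (maximalIdeal A') (maximalIdeal.isMaximal A').ne_top fs R').2 ?_
    refine (e.isWeaklyRegular_congr fs).2 ((isWeaklyRegular_map_algebraMap_iff B B fs).1 ?_)
    rw [show fs.map (algebraMap R' B) = rs from hmap]
    exact hreg
  haveI := ArtinReg.flat_quotient (A := A') fs R' hw
  exact Module.Flat.of_linearEquiv
    ((Submodule.quotEquivOfEq J (Ideal.ofList fs • (⊤ : Submodule R' R'))
      (by rw [smul_eq_mul, Ideal.mul_top])).restrictScalars A')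

end IsSmallLift

end GrothLib.LocalHilb26
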