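import Groth.Agent.Lib.LocalHilb26.Conormal
import Groth.Agent.Lib.LocalHilb26.RegularAlg
import Groth.Prelude.Def_Mor2

/-!
# Regularly embedded subschemes lift locally
-/

set_option autoImplicit false
set_option backward.isDefEq.respectTransparency false
universe u

noncomputable section

open CategoryTheory CategoryTheory.Limits AlgebraicGeometry

namespace GrothLib.LocalHilb26

open _root_.ArtFun _root_.ArtFun.Art

variable {k : Type u} [Field k] {Y : Scheme.{u}} (y : Y ⟶ specPt k) (I₀ : Y.IdealSheafData) {A' A : Art k k}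
  (p : A' ⟶ A) (I : (localHilb Y y I₀).obj A)

/-- Local flat lifts exist along a regular immersion. -/
theorem hloc_of_regular (hreg : Mor2.IsRegularClosedImmersion I₀.subschemeι) (hp : Art.IsSmallExt p)
    (z : I₀.subscheme) : ∃ U : Y.affineOpens, I₀.subschemeι z ∈ U.1 ∧
      ∃ J : Ideal (SR y A' U), J.map (res y p U).hom = I.1.ideal (chart y A U) ∧
        ((Ideal.Quotient.mk J).comp (str y A' U).hom).Flat := by
  obtain ⟨t, ht, ht0, hmax, -⟩ := GrothLib.ArtFun.smallExt_exists_gen hp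
  obtain ⟨U, hU, hzU, rs, hrs, hker⟩ := hreg.2 z
  refine ⟨⟨U, hU⟩, hzU, ?_⟩
  rw [Scheme.IdealSheafData.ker_subschemeι] at hker
  letI := strAlgebra y A' ⟨U, hU⟩
  letI := strAlgebra y A ⟨U, hU⟩
  have hS := isSmallLift y p hp.1 ht ht0 hmax ⟨U, hU⟩
  haveI := flat_SR y A' ⟨U, hU⟩
  haveI := flat_SR y A ⟨U, hU⟩
  haveI := flat_quot y I.2.1 ⟨U, hU⟩
  obtain ⟨J, hJ, hflat⟩ := hS.exists_flat_lift_of_regular (I := I.1.ideal (chart y A ⟨U, hU⟩)) rs
    hrs.toIsWeaklyRegular ((ideal_incl y I₀ I.1 I.2.2 ⟨U, hU⟩).trans hker)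
  exact ⟨J, hJ, RingHom.flat_algebraMap_iff.2 hflat⟩

end GrothLib.LocalHilb26
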