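import Groth.Agent.Lib.LocalHilb26.LocalSplit
import Groth.Agent.Lib.LocalHilb26.RegularLift
import Groth.Agent.Lib.Torsor26.Basic
import Groth.Agent.Lib.Torsor26.HomPush
import Groth.Prelude.Def_DCoh4

/-!
# Local lifts and `H¹` of the normal sheaf
-/

set_option autoImplicit false
set_option backward.isDefEq.respectTransparency false
universe u

noncomputable section

open CategoryTheory CategoryTheory.Limits AlgebraicGeometry Opposite

namespace GrothLib.LocalHilb26

open _root_.ArtFun _root_.ArtFun.Art GrothLib.IdealModSec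

variable {k : Type u} [Field k] {Y : Scheme.{u}} (y : Y ⟶ specPt k) (I₀ : Y.IdealSheafData) {A' A : Art k k}
  (p : A' ⟶ A) (I : (localHilb Y y I₀).obj A)

/-- Away from the subscheme a lift exists. -/
theorem exists_lift_off {t : A'.carrier} (hp : Function.Surjective p)
    (ht : RingHom.ker p.toAlgHom = Ideal.span {t}) (ht0 : t ≠ 0)
    (hmax : ∀ a ∈ IsLocalRing.maximalIdeal A'.carrier, a * t = 0) (U : Y.affineOpens)
    (hU : I₀.subschemeι ⁻¹ᵁ U.1 = ⊥) :
    ∃ J : Ideal (SR y A' U), J.map (res y p U).hom = I.1.ideal (chart y A U) ∧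
      ((Ideal.Quotient.mk J).comp (str y A' U).hom).Flat := by
  letI := strAlgebra y A' U
  letI := strAlgebra y A U
  have hS := isSmallLift y p hp ht ht0 hmax U
  haveI := flat_SR y A' U
  haveI := flat_SR y A U
  haveI := flat_quot y I.2.1 U
  have h1 : (1 : Γ(Y, U.1)) ∈ I₀.ideal U := by
    haveI : Subsingleton Γ(Coh.structureModule I₀.subscheme, I₀.subschemeι ⁻¹ᵁ U.1) := by
      rw [hU]
      exact Cohom.subsingleton_sections_bot (Coh.toAb (Coh.structureModule I₀.subscheme))
    have : qr I₀ U.1 (1 : Γ(Y, U.1)) = qr I₀ U.1 0 :=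
      @Subsingleton.elim Γ(Coh.structureModule I₀.subscheme, I₀.subschemeι ⁻¹ᵁ U.1) _ _ _
    have h := (qr_eq_iff I₀ U _ _).1 this
    rwa [sub_zero] at h
  obtain ⟨J, hJ, hflat⟩ := hS.exists_flat_lift_of_regular (I := I.1.ideal (chart y A U)) [1]
    ((RingTheory.Sequence.isWeaklyRegular_cons_iff Γ(Y, U.1) 1 []).2
      ⟨IsSMulRegular.one _, RingTheory.Sequence.IsWeaklyRegular.nil _ _⟩)
    (by rw [ideal_incl y I₀ I.1 I.2.2 U, (Ideal.eq_top_iff_one _).2 h1, Ideal.ofList_singleton, Ideal.span_singleton_one])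
  exact ⟨J, hJ, RingHom.flat_algebraMap_iff.2 hflat⟩

attribute [local instance] LocFreeHom.hasSheafHom in
/-- Local lifts and vanishing `Ext¹(O, Hom(I₀, O/I₀))` give a lift. -/
theorem exists_lift_of_subsingleton_ext_normal
    (hloc : ∀ z : I₀.subscheme, ∃ U : Y.affineOpens, I₀.subschemeι z ∈ U.1 ∧
      ∃ J : Ideal (SR y A' U), J.map (res y p U).hom = I.1.ideal (chart y A U) ∧
        ((Ideal.Quotient.mk J).comp (str y A' U).hom).Flat)
    (hp : Art.IsSmallExt p) [HasExt.{u} Y.Modules]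
    (hExt : Subsingleton (Abelian.Ext.{u} (Coh.structureModule Y)
      ((DCoh.sheafHom (ClSub.idealMod I₀)).obj
        ((Scheme.Modules.pushforward I₀.subschemeι).obj (Coh.structureModule I₀.subscheme))) 1)) :
    ∃ I' : (localHilb Y y I₀).obj A', (localHilb Y y I₀).map p I' = I := by
  obtain ⟨t, ht, ht0, hmax, -⟩ := GrothLib.ArtFun.smallExt_exists_gen hp
  have hinj := hinj_of_local y I₀ p I hloc hp.1 ht ht0 hmax
  have hS := shortExact_ext2 y I₀ p I hp.1 ht ht0 hmax hinj
  obtain ⟨σ, hσ⟩ := Torsor26.exists_lift_of_local hS (ClSub.idealMod I₀) hExt (sqProj I₀) fun x => by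
    by_cases hx : x ∈ Set.range I₀.subschemeι
    · obtain ⟨z, rfl⟩ := hx
      obtain ⟨U, hzU, J, hJ, hflat⟩ := hloc z
      exact ⟨U.1, hzU, exists_section_on y I₀ p I hp.1 ht ht0 hmax U hJ hflat⟩
    · obtain ⟨W, hW, hxW, hle⟩ := TopologicalSpace.Opens.isBasis_iff_nbhd.1 Y.isBasis_affineOpens
        (show x ∈ (⟨(Set.range I₀.subschemeι)ᶜ,
          I₀.subschemeι.isClosedEmbedding.isClosed_range.isOpen_compl⟩ : Y.Opens) from hx)
      have hbot : I₀.subschemeι ⁻¹ᵁ W = ⊥ :=
        le_antisymm (fun w hw => ((hle hw) ⟨w, rfl⟩).elim) bot_le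
      obtain ⟨J, hJ, hflat⟩ := exists_lift_off y I₀ p I hp.1 ht ht0 hmax ⟨W, hW⟩ hbot
      exact ⟨W, hxW, exists_section_on y I₀ p I hp.1 ht ht0 hmax ⟨W, hW⟩ hJ hflat⟩
  exact exists_lift_of_sigma y I₀ p I hinj σ hσ hp.1 ht ht0 hmax


/-- Local lifts and vanishing `H¹` of the normal sheaf give a lift. -/
theorem exists_lift_of_subsingleton_h1_normal
    (hloc : ∀ z : I₀.subscheme, ∃ U : Y.affineOpens, I₀.subschemeι z ∈ U.1 ∧
      ∃ J : Ideal (SR y A' U), J.map (res y p U).hom = I.1.ideal (chart y A U) ∧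
        ((Ideal.Quotient.mk J).comp (str y A' U).hom).Flat)
    (hp : Art.IsSmallExt p) [DCoh.HasSheafHom (Omega.conormal I₀.subschemeι)]
    (h1 : Subsingleton (Coh.HH I₀.subscheme ((DCoh.sheafHom (Omega.conormal I₀.subschemeι)).obj
      (Coh.structureModule I₀.subscheme)) 1)) :
    ∃ I' : (localHilb Y y I₀).obj A', (localHilb Y y I₀).map p I' = I := by
  haveI : DCoh.HasSheafHom (ClSub.idealMod I₀) := LocFreeHom.hasSheafHom _
  haveI : DCoh.HasSheafHom ((Scheme.Modules.pullback I₀.subschemeι).obj (ClSub.idealMod I₀)) :=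
    LocFreeHom.hasSheafHom _
  haveI : HasExt.{u} Y.Modules := hasExt_of_enoughInjectives _
  haveI : HasExt.{u} I₀.subscheme.Modules := hasExt_of_enoughInjectives _
  have e : Omega.conormal I₀.subschemeι = (Scheme.Modules.pullback I₀.subschemeι).obj (ClSub.idealMod I₀) := by
    rw [Omega.conormal, Scheme.IdealSheafData.ker_subschemeι]
  have h1' : Subsingleton (Coh.HH I₀.subscheme ((DCoh.sheafHom
      ((Scheme.Modules.pullback I₀.subschemeι).obj (ClSub.idealMod I₀))).obj
        (Coh.structureModule I₀.subscheme)) 1) := by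
    revert h1
    have : ∀ (M : I₀.subscheme.Modules) [DCoh.HasSheafHom M],
        (Scheme.Modules.pullback I₀.subschemeι).obj (ClSub.idealMod I₀) = M →
        Subsingleton (Coh.HH I₀.subscheme ((DCoh.sheafHom M).obj (Coh.structureModule I₀.subscheme)) 1) →
        Subsingleton (Coh.HH I₀.subscheme ((DCoh.sheafHom
          ((Scheme.Modules.pullback I₀.subschemeι).obj (ClSub.idealMod I₀))).obj
            (Coh.structureModule I₀.subscheme)) 1) := by
      intro M _ hM
      subst hM
      exact id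
    exact this _ e.symm
  have hExt := Torsor26.subsingleton_ext_homPush I₀.subschemeι (ClSub.idealMod I₀) (Coh.structureModule I₀.subscheme) h1'
  exact exists_lift_of_subsingleton_ext_normal y I₀ p I hloc hp hExt

end GrothLib.LocalHilb26
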