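import Groth.Agent.Lib.ArtFun.Formal
import Groth.Agent.Lib.ArtFun.SepLift
import Groth.Agent.Lib.AdicExtra.Completion
import Mathlib.RingTheory.AdicCompletion.LocalRing
import Mathlib.RingTheory.AdicCompletion.Completeness

/-!
# The completion of a local algebra as a coefficient ring
-/

universe u v

namespace GrothLib.LocalHilb26

open _root_.ArtFun CategoryTheory IsLocalRing GrothLib.ArtFun

variable {Λ : Type u} {k : Type u} [CommRing Λ] [Field k] [Algebra Λ k]

section Completion

variable (P : Type u) [CommRing P] [IsLocalRing P] [Algebra Λ P] [IsNoetherianRing P] (f : P →ₐ[Λ] k)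

/-- The completion of a local ring with residue field `k`, with its dimension and regularity. -/
theorem exists_local_completion :
    ∀ (_ : Function.Surjective f), ∃ (R : CRing Λ k) (of : P →ₐ[Λ] R.carrier), R.res.comp of = f ∧
      ringKrullDim R.carrier = ringKrullDim P ∧
      (IsRegularLocalRing R.carrier ↔ IsRegularLocalRing P) ∧
      Nonempty (AdicCompletion (maximalIdeal P) P ≃+* R.carrier) ∧
      (∀ {A : Art Λ k} (ψ : P →ₐ[Λ] A), A.res.comp ψ = f →
        ∃! φ : HomSet R.carrier R.res A, φ.1.comp of = ψ) := by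
  intro hf
  let I : Ideal P := RingHom.ker f
  haveI hI : I.IsMaximal := RingHom.ker_isMaximal_of_surjective (f : P →+* k) hf
  have hfg : I.FG := IsNoetherian.noetherian I
  let C := AdicCompletion I P
  let m : Ideal C := I.map (algebraMap P C)
  haveI hm : m.IsMaximal := AdicCompletion.isMaximal_map_of_le I I le_rfl hfg
  haveI hc : IsAdicComplete m C := AdicCompletion.isAdicComplete_self I hfg
  haveI : IsLocalRing C := isLocalRing_of_isAdicComplete_maximal m
  have hmax : maximalIdeal C = m := (IsLocalRing.eq_maximalIdeal hm).symm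
  haveI : IsNoetherianRing (C ⧸ m) := by
    have hker : RingHom.ker (AdicCompletion.evalOneₐ I).toRingHom = m :=
      AdicCompletion.ker_evalOneₐ_eq_map I hfg
    exact isNoetherianRing_of_ringEquiv (P ⧸ I) ((RingHom.quotientKerEquivOfSurjective
      (f := (AdicCompletion.evalOneₐ I).toRingHom) (AdicCompletion.evalOneₐ_surjective I)).symm.trans
      (Ideal.quotEquivOfEq hker))
  haveI : IsNoetherianRing C :=
    GrothLib.AdicLim.isNoetherianRing_of_complete (I := m) (hfg.map _)
  let res : C →ₐ[Λ] k := (Ideal.Quotient.liftₐ I f (fun a ha => ha)).comp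
    ((AdicCompletion.evalOneₐ I).restrictScalars Λ)
  have hres : Function.Surjective res := fun c => by
    obtain ⟨p, rfl⟩ := hf c
    exact ⟨AdicCompletion.of I P p, rfl⟩
  let R : CRing Λ k :=
    { carrier := C, res := res, res_surjective := hres, isAdicComplete := hmax ▸ hc }
  let of : P →ₐ[Λ] R.carrier := IsScalarTower.toAlgHom Λ P C
  have hI' : I = maximalIdeal P := IsLocalRing.eq_maximalIdeal hI
  have hdim : ringKrullDim C = ringKrullDim P ∧ (IsRegularLocalRing C ↔ IsRegularLocalRing P) := by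
    show ringKrullDim (AdicCompletion I P) = _ ∧ (IsRegularLocalRing (AdicCompletion I P) ↔ _)
    rw [hI']
    exact ⟨GrothLib.AdicExtra.ringKrullDim_adicCompletion,
      GrothLib.AdicExtra.isRegularLocalRing_adicCompletion_iff.symm⟩
  have hiso : Nonempty (AdicCompletion (maximalIdeal P) P ≃+* C) := by
    show Nonempty (_ ≃+* AdicCompletion I P)
    rw [hI']
    exact ⟨RingEquiv.refl _⟩
  refine ⟨R, of, AlgHom.ext fun p => rfl, hdim.1, hdim.2, hiso, fun {A} ψ hψ => ?_⟩
  obtain ⟨N, hN⟩ := exists_pow_maximalIdeal_eq_bot A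
  have hψI : ∀ p ∈ I ^ N, ψ p = 0 := fun p hp => by
    have h1 : (I ^ N).map ψ ≤ maximalIdeal A ^ N := by
      rw [Ideal.map_pow]
      refine Ideal.pow_right_mono (Ideal.map_le_iff_le_comap.2 fun a ha => ?_) N
      rw [Ideal.mem_comap, ← res_eq_zero_iff]
      exact (DFunLike.congr_fun hψ a).trans ha
    simpa [hN] using h1 (Ideal.mem_map_of_mem _ hp)
  let φ₀ : C →ₐ[Λ] A := (Ideal.Quotient.liftₐ (I ^ N) ψ hψI).comp
    ((AdicCompletion.evalₐ I N).restrictScalars Λ)
  have hφof : φ₀.comp of = ψ := AlgHom.ext fun p => by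
    change Ideal.Quotient.liftₐ (I ^ N) ψ hψI (AdicCompletion.evalₐ I N (algebraMap P C p)) = ψ p
    rw [AlgHom.commutes]
    rfl
  have happrox : ∀ (j : ℕ) (x : C), ∃ p : P, x - of p ∈ m ^ j := by
    intro j x
    obtain ⟨p, hp⟩ := Ideal.Quotient.mk_surjective (AdicCompletion.evalₐ I j x)
    refine ⟨p, ?_⟩
    have hz : AdicCompletion.evalₐ I j (x - of p) = 0 := by
      change AdicCompletion.evalₐ I j (x - algebraMap P C p) = 0
      rw [map_sub, AlgHom.commutes, ← hp]
      exact sub_self _
    have hz' : AdicCompletion.eval I P j (x - of p) = 0 := by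
      have h : (I ^ j • ⊤ : Ideal P) = I ^ j := by simp
      rw [← AdicCompletion.factor_evalₐ_eq_eval I (x - of p) (le_of_eq h.symm), hz, map_zero]
    have hmem : x - of p ∈ I ^ j • (⊤ : Submodule P C) := by
      rw [AdicCompletion.pow_smul_top_eq_ker_eval hfg]
      exact hz'
    rw [Ideal.smul_top_eq_map, Submodule.restrictScalars_mem, Ideal.map_pow] at hmem
    exact hmem
  have hext : ∀ φ φ' : HomSet R.carrier R.res A, φ.1.comp of = φ'.1.comp of → φ = φ' := by
    intro φ φ' h
    refine homSet_ext fun x => ?_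
    obtain ⟨p, hp⟩ := happrox N x
    have hkill : ∀ (χ : HomSet R.carrier R.res A), χ.1 (x - of p) = 0 := fun χ => by
      have h1 : (m ^ N).map χ.1 ≤ maximalIdeal A ^ N := by
        rw [Ideal.map_pow]
        refine Ideal.pow_right_mono (Ideal.map_le_iff_le_comap.2 fun a ha => ?_) N
        rw [Ideal.mem_comap, ← res_eq_zero_iff, res_of_homSet]
        rw [← hmax] at ha
        exact (CRing.mem_maximalIdeal_iff R a).1 ha
      simpa [hN] using h1 (Ideal.mem_map_of_mem _ hp)
    have h1 := hkill φ
    have h2 := hkill φ'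
    rw [map_sub, sub_eq_zero] at h1 h2
    rw [h1, h2]
    exact DFunLike.congr_fun h p
  refine ⟨⟨φ₀, AlgHom.ext fun x => ?_⟩, hφof, fun φ hφ => hext _ _ (hφ.trans hφof.symm)⟩
  obtain ⟨p, hp⟩ := happrox (N + 1) x
  have hx : x = of p + (x - of p) := (add_sub_cancel _ _).symm
  have hr : res (x - of p) = 0 := (CRing.mem_maximalIdeal_iff R _).1
    (hmax ▸ Ideal.pow_le_self (Nat.succ_ne_zero N) hp)
  have h0 : φ₀ (x - of p) = 0 := by
    replace hp : x - of p ∈ m ^ N := Ideal.pow_le_pow_right (Nat.le_succ N) hp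
    rw [← Ideal.map_pow, ← Submodule.restrictScalars_mem P, ← Ideal.smul_top_eq_map,
      AdicCompletion.pow_smul_top_eq_ker_eval hfg, LinearMap.mem_ker] at hp
    change Ideal.Quotient.liftₐ (I ^ N) ψ hψI (AdicCompletion.evalₐ I N (x - of p)) = 0
    rw [← AdicCompletion.factor_eval_eq_evalₐ I (x - of p) (le_of_eq (by simp)), hp, map_zero,
      map_zero]
  rw [AlgHom.comp_apply]
  change A.res (φ₀ x) = res x
  have h1 : A.res (φ₀ (of p)) = res (of p) :=
    ((congrArg A.res (DFunLike.congr_fun hφof p)).trans (DFunLike.congr_fun hψ p))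
  have h2 : A.res (φ₀ x) = A.res (φ₀ (of p)) := by
    rw [show φ₀ x = φ₀ (of p) + φ₀ (x - of p) from by rw [← map_add, ← hx]]
    rw [map_add, h0, map_zero, add_zero]
  have h3 : res x = res (of p) := by
    rw [show res x = res (of p) + res (x - of p) from by rw [← map_add, ← hx], hr, add_zero]
  rw [h2, h1, h3]

end Completion

end GrothLib.LocalHilb26
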