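import Groth.Agent.Lib.LocalHilb26.StalkRep
import Groth.Prelude.Def_FGA
import Groth.Prelude.Def_ArtFun6
import Mathlib.RingTheory.Artinian.Ring
import Mathlib.RingTheory.HopkinsLevitzki
import Mathlib.AlgebraicGeometry.Morphisms.Proper

/-!
# The local Hilbert functor at a point of the Hilbert scheme
-/

set_option autoImplicit false
set_option backward.isDefEq.respectTransparency false
universe u

noncomputable section

open CategoryTheory CategoryTheory.Limits AlgebraicGeometry

namespace GrothLib.LocalHilb26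

open _root_.ArtFun _root_.ArtFun.Art

theorem hilbPull_eq_comap {X S : Scheme.{u}} (f : X ⟶ S) {T T' : Over S} (g : T' ⟶ T)
    (I : (PicF.XT f T).IdealSheafData) : FGA.hilbPull f g I = I.comap (PicF.XTmap f g) := by
  rw [FGA.hilbPull, Scheme.IdealSheafData.comap, ← pullbackSymmetry_hom_comp_fst, Scheme.Hom.ker_comp_of_isIso]

variable {k : Type u} [Field k] {Y : Scheme.{u}} (y : Y ⟶ Art.specPt k)
  {H : Over (Art.specPt k)} (Z : FGA.HilbSet y H) (h : Over.mk (𝟙 (Art.specPt k)) ⟶ H)

/-- `Spec A` over `Spec k`. -/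
abbrev artOver (A : Art k k) : Over (Art.specPt k) := Over.mk (specOver A)

/-- The closed point of `Spec A`. -/
def artPt (A : Art k k) : Over.mk (𝟙 (Art.specPt k)) ⟶ artOver A :=
  Over.homMk (specRes A) (by
    show specRes A ≫ specMap (ofBase A) = 𝟙 _
    rw [specRes_comp]
    exact (Spec.map_id (CommRingCat.of k)))

theorem XTmap_artPt (A : Art k k) :
    PicF.XTmap y (artPt A) = pullback.fst y (Over.mk (𝟙 (Art.specPt k))).hom ≫ XAincl y A := by
  apply pullback.hom_ext
  · rw [PicF.XTmap, pullback.lift_fst, Category.assoc, Category.comp_id]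
    exact ((congrArg (pullback.fst y _ ≫ ·) (XAincl_fst y A)).trans (Category.comp_id _)).symm
  · rw [PicF.XTmap, pullback.lift_snd, Category.assoc]
    refine Eq.trans ?_ (congrArg (pullback.fst y _ ≫ ·) (XAincl_snd y A)).symm
    show pullback.snd y (𝟙 _) ≫ specRes A = pullback.fst y (𝟙 _) ≫ y ≫ specRes A
    rw [← Category.assoc, pullback.condition, Category.comp_id]

theorem XTmap_comp {X S : Scheme.{u}} (f : X ⟶ S) {T T' T'' : Over S} (g : T' ⟶ T) (g' : T'' ⟶ T') :
    PicF.XTmap f (g' ≫ g) = PicF.XTmap f g' ≫ PicF.XTmap f g := by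
  apply pullback.hom_ext <;> simp [PicF.XTmap]

theorem XTmap_artMap {A B : Art k k} (f : A ⟶ B) :
    PicF.XTmap y (Over.homMk (specMap f) (specOver_comp f) : artOver B ⟶ artOver A) = XAmap y f := by
  apply pullback.hom_ext
  · rw [PicF.XTmap, pullback.lift_fst, Category.comp_id]
    exact (XAmap_fst y f).symm
  · rw [PicF.XTmap, pullback.lift_snd]
    exact (XAmap_snd y f).symm

variable (I₀ : Y.IdealSheafData) (hh : FGA.hilbPull y h Z.1 = I₀.comap (pullback.fst y (Over.mk (𝟙 (Art.specPt k))).hom))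

include hh in
theorem comap_incl {A : Art k k} (g : artOver A ⟶ H) (hg : artPt A ≫ g = h) :
    (FGA.hilbPull y g Z.1).comap (XAincl y A) = I₀ := by
  let e : Y ⟶ PicF.XT y (Over.mk (𝟙 (Art.specPt k))) := pullback.lift (𝟙 Y) y ((Category.id_comp y).trans (Category.comp_id y).symm)
  have he : e ≫ pullback.fst y (Over.mk (𝟙 (Art.specPt k))).hom = 𝟙 Y := pullback.lift_fst _ _ _
  have h1 : XAincl y A = e ≫ PicF.XTmap y (artPt A) := by
    rw [XTmap_artPt, ← Category.assoc, he, Category.id_comp]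
  rw [hilbPull_eq_comap, h1, Scheme.IdealSheafData.comap_comp,
    ← Scheme.IdealSheafData.comap_comp Z.1 (PicF.XTmap y (artPt A)) (PicF.XTmap y g), ← XTmap_comp, hg, ← hilbPull_eq_comap, hh, ← Scheme.IdealSheafData.comap_comp, he,
    Scheme.IdealSheafData.comap_id]

include hh in
/-- At a rational point the local Hilbert functor is represented by the stalk of the Hilbert scheme. -/
theorem exists_family [IsProper y] (hH : FGA.HilbRepresentedBy y H Z) :
    ∀ hpt : h.left ≫ H.hom = 𝟙 _,
      letI := stalkAlgebra H.hom h.left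
      ∃ ξ : Family (ptStalk h.left) (stalkRes H.hom h.left hpt) (localHilb Y y I₀), ∀ A, Function.Bijective (ξ.app A) := by
  intro hpt
  letI := stalkAlgebra H.hom h.left
  let gOf : ∀ {A : Art k k}, HomSet (ptStalk h.left) (stalkRes H.hom h.left hpt) A → (artOver A ⟶ H) :=
    fun φ => Over.homMk (pointOf H.hom h.left φ) (pointOf_π H.hom h.left φ)
  have hgOf : ∀ {A : Art k k} (φ : HomSet (ptStalk h.left) (stalkRes H.hom h.left hpt) A), artPt A ≫ gOf φ = h :=
    fun φ => Over.OverMorphism.ext (pointOf_res H.hom h.left φ)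
  have hflat : ∀ {A : Art k k} (g : artOver A ⟶ H), FlatOver Y y A (FGA.hilbPull y g Z.1) := by
    intro A g
    have sq : IsPullback (pullback.snd (PicF.XTmap y g) Z.1.subschemeι)
        (pullback.fst (PicF.XTmap y g) Z.1.subschemeι ≫ XApr y A) (Z.1.subschemeι ≫ PicF.XTproj y H) g.left := by
      refine IsPullback.paste_vert (IsPullback.of_hasPullback (PicF.XTmap y g) Z.1.subschemeι).flip ?_
      refine IsPullback.of_right ?_ (pullback.lift_snd _ _ _) (IsPullback.of_hasPullback y H.hom)
      rw [PicF.XTmap, pullback.lift_fst, Category.comp_id, Over.w g]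
      exact IsPullback.of_hasPullback y (artOver A).hom
    have hf : Flat (pullback.fst (PicF.XTmap y g) Z.1.subschemeι ≫ XApr y A) :=
      MorphismProperty.of_isPullback (P := @Flat) sq Z.2.2
    show Flat ((FGA.hilbPull y g Z.1).subschemeι ≫ XApr y A)
    rw [hilbPull_eq_comap, ← Scheme.IdealSheafData.comapIso_hom_fst, Category.assoc]
    exact (MorphismProperty.cancel_left_of_respectsIso @Flat (Z.1.comapIso (PicF.XTmap y g)).hom _).2 hf
  refine ⟨⟨fun A φ => ⟨FGA.hilbPull y (gOf φ) Z.1, hflat _, comap_incl y Z h I₀ hh _ (hgOf φ)⟩,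
    fun {A B} f φ => Subtype.ext ?_⟩, fun A => ⟨fun φ ψ e => ?_, fun J => ?_⟩⟩
  · show FGA.hilbPull y (gOf (HomSet.map f φ)) Z.1 = (FGA.hilbPull y (gOf φ) Z.1).comap (XAmap y f)
    rw [hilbPull_eq_comap, hilbPull_eq_comap, ← Scheme.IdealSheafData.comap_comp, ← XTmap_artMap y f, ← XTmap_comp]
    refine congrArg (fun g => Z.1.comap (PicF.XTmap y g)) (Over.OverMorphism.ext ?_)
    exact pointOf_map H.hom h.left f φ
  all_goals
    haveI : IsNoetherianRing (CommRingCat.of A.carrier) := inferInstanceAs (IsNoetherianRing A.carrier)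
    haveI : IsLocallyNoetherian (artOver A).left := inferInstanceAs (IsLocallyNoetherian (Spec (CommRingCat.of A.carrier)))
  · have e' : FGA.hilbPull y (gOf φ) Z.1 = FGA.hilbPull y (gOf ψ) Z.1 := congrArg Subtype.val e
    have hp : IsProper ((FGA.hilbPull y (gOf ψ) Z.1).subschemeι ≫ PicF.XTproj y (artOver A)) := inferInstance
    obtain ⟨g, -, hg⟩ := hH.2 (artOver A) ⟨FGA.hilbPull y (gOf ψ) Z.1, hp, hflat _⟩
    exact pointOf_injective H.hom h.left (congrArg CommaMorphism.left ((hg _ e').trans (hg _ rfl).symm))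
  · have hp : IsProper (J.1.subschemeι ≫ PicF.XTproj y (artOver A)) := inferInstance
    obtain ⟨g, hg, -⟩ := hH.2 (artOver A) ⟨J.1, hp, J.2.1⟩
    haveI : IsLocallyNoetherian (Over.mk (𝟙 (Art.specPt k))).left :=
      inferInstanceAs (IsLocallyNoetherian (Spec (CommRingCat.of k)))
    have hp' : IsProper ((FGA.hilbPull y h Z.1).subschemeι ≫ PicF.XTproj y (Over.mk (𝟙 (Art.specPt k)))) := inferInstance
    have hf' : Flat ((FGA.hilbPull y h Z.1).subschemeι ≫ PicF.XTproj y (Over.mk (𝟙 (Art.specPt k)))) := by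
      haveI : Subsingleton ↥(Over.mk (𝟙 (Art.specPt k))).left := inferInstanceAs (Subsingleton (PrimeSpectrum k))
      haveI : IsIntegral (Over.mk (𝟙 (Art.specPt k))).left := inferInstanceAs (IsIntegral (Spec (CommRingCat.of k)))
      infer_instance
    obtain ⟨g', -, hu⟩ := hH.2 (Over.mk (𝟙 (Art.specPt k))) ⟨FGA.hilbPull y h Z.1, hp', hf'⟩
    have hres : artPt A ≫ g = h := by
      refine (hu _ ?_).trans (hu _ rfl).symm
      show FGA.hilbPull y (artPt A ≫ g) Z.1 = FGA.hilbPull y h Z.1
      rw [hilbPull_eq_comap, XTmap_comp, Scheme.IdealSheafData.comap_comp, ← hilbPull_eq_comap y g, hg, XTmap_artPt,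
        Scheme.IdealSheafData.comap_comp, J.2.2, hh]
    obtain ⟨φ, hφ⟩ := exists_pointOf_eq H.hom h.left (hpt := hpt) g.left (Over.w g) (congrArg CommaMorphism.left hres)
    refine ⟨φ, Subtype.ext ?_⟩
    show FGA.hilbPull y (gOf φ) Z.1 = J.1
    rw [show gOf φ = g from Over.OverMorphism.ext hφ]
    exact hg

end GrothLib.LocalHilb26
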