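import Groth.Prelude.Def_ArtFun2
import Mathlib.RingTheory.Ideal.Cotangent
import Mathlib.LinearAlgebra.Dual.Lemmas

/-!
# The tangent space of a functor isomorphic to the functor of a local algebra
-/

set_option autoImplicit false
universe u v

noncomputable section

open CategoryTheory IsLocalRing

namespace GrothLib.LocalHilb26

open _root_.ArtFun

variable {k : Type u} [Field k] {R : Type u} [CommRing R] [IsLocalRing R] [Algebra k R] (res : R →ₐ[k] k)

theorem mem_maximalIdeal_iff_res (r : R) : r ∈ maximalIdeal R ↔ res r = 0 := by
  have hmax : (RingHom.ker (res : R →+* k)).IsMaximal :=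
    RingHom.ker_isMaximal_of_surjective (res : R →+* k) fun c => ⟨algebraMap k R c, res.commutes c⟩
  rw [← IsLocalRing.eq_maximalIdeal hmax, RingHom.mem_ker]
  rfl

theorem sub_res_mem (r : R) : r - algebraMap k R (res r) ∈ maximalIdeal R := by
  rw [mem_maximalIdeal_iff_res res, map_sub, AlgHom.commutes, Algebra.algebraMap_self_apply, sub_self]

/-- The part of an element in the maximal ideal. -/
def resPart (r : R) : maximalIdeal R := ⟨r - algebraMap k R (res r), sub_res_mem res r⟩

/-- The cotangent class of the part of an element in the maximal ideal. -/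
def dPart : R →ₗ[k] CotangentSpace R where
  toFun r := (maximalIdeal R).toCotangent (resPart res r)
  map_add' a b := by
    rw [← map_add]
    refine congrArg _ (Subtype.ext ?_)
    show a + b - algebraMap k R (res (a + b)) = (a - algebraMap k R (res a)) + (b - algebraMap k R (res b))
    rw [map_add, map_add]; ring
  map_smul' c a := by
    rw [RingHom.id_apply, ← LinearMap.map_smul_of_tower]
    refine congrArg _ (Subtype.ext ?_)
    show c • a - algebraMap k R (res (c • a)) = c • (a - algebraMap k R (res a))
    rw [map_smul, Algebra.smul_def, Algebra.smul_def, Algebra.smul_def, map_mul,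
      Algebra.algebraMap_self_apply]
    ring

theorem dPart_one : dPart res (1 : R) = 0 := by
  show (maximalIdeal R).toCotangent _ = 0
  rw [show resPart res (1 : R) = 0 from Subtype.ext (by show (1 : R) - _ = 0; rw [map_one, map_one, sub_self])]
  exact map_zero _

theorem dPart_mul (a b : R) : dPart res (a * b) = res a • dPart res b + res b • dPart res a := by
  show (maximalIdeal R).toCotangent _ = _ • (maximalIdeal R).toCotangent _ + _ • (maximalIdeal R).toCotangent _
  rw [← LinearMap.map_smul_of_tower, ← LinearMap.map_smul_of_tower, ← map_add, Ideal.toCotangent_eq, pow_two]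
  show (a * b - algebraMap k R (res (a * b))) -
    (res a • (b - algebraMap k R (res b)) + res b • (a - algebraMap k R (res a))) ∈ _
  convert Ideal.mul_mem_mul (sub_res_mem res a) (sub_res_mem res b) using 1
  simp only [Algebra.smul_def, map_mul]
  ring

theorem dPart_surjective : Function.Surjective (dPart res) := fun x => by
  obtain ⟨r, rfl⟩ := (maximalIdeal R).toCotangent_surjective x
  refine ⟨r, congrArg _ (Subtype.ext ?_)⟩
  show (r : R) - algebraMap k R (res r) = r
  rw [(mem_maximalIdeal_iff_res res r).1 r.2, map_zero, sub_zero]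

theorem res_mem_sq {a : R} (ha : a ∈ maximalIdeal R) : res a = 0 := (mem_maximalIdeal_iff_res res a).1 ha

/-- The `ε`-coefficient. -/
def sndL : (Art.dual k k).carrier →ₗ[k] k where
  toFun z := TrivSqZeroExt.snd (z : DualNumber k)
  map_add' _ _ := rfl
  map_smul' _ _ := rfl

theorem sndL_mul (z w : (Art.dual k k).carrier) :
    sndL (z * w) = (Art.dual k k).res z * sndL w + sndL z * (Art.dual k k).res w := rfl

theorem sndL_algebraMap (c : k) : sndL (algebraMap k (Art.dual k k).carrier c) = 0 := rfl

/-- A linear form on the cotangent space as a point over the dual numbers. -/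
def pointOfForm (ℓ : Module.Dual k (CotangentSpace R)) : HomSet R res (Art.dual k k) :=
  ⟨AlgHom.ofLinearMap
    { toFun := fun a => ((res a, ℓ (dPart res a)) : DualNumber k)
      map_add' := fun a b => TrivSqZeroExt.ext (map_add res a b)
        ((congrArg ℓ (map_add (dPart res) a b)).trans (map_add ℓ _ _))
      map_smul' := fun c a => TrivSqZeroExt.ext (map_smul res c a)
        ((congrArg ℓ (map_smul (dPart res) c a)).trans (map_smul ℓ c _)) }
    (TrivSqZeroExt.ext (map_one res) ((congrArg ℓ (dPart_one res)).trans (map_zero ℓ)))
    (fun a b => TrivSqZeroExt.ext (map_mul res a b) (by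
      show ℓ (dPart res (a * b)) = res a * ℓ (dPart res b) + ℓ (dPart res a) * res b
      rw [dPart_mul, map_add, map_smul, map_smul, smul_eq_mul, smul_eq_mul, mul_comm (res b)])),
  AlgHom.ext fun _ => rfl⟩

theorem sndL_pointOfForm (ℓ : Module.Dual k (CotangentSpace R)) (a : R) :
    sndL ((pointOfForm res ℓ).1 a) = ℓ (dPart res a) := rfl

theorem pointOfForm_bijective : Function.Bijective (pointOfForm res) := by
  refine ⟨fun ℓ m e => LinearMap.ext fun x => ?_, fun φ => ?_⟩
  · obtain ⟨a, rfl⟩ := dPart_surjective res x
    rw [← sndL_pointOfForm, ← sndL_pointOfForm, e]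
  · have h1 : ∀ a : R, (Art.dual k k).res (φ.1 a) = res a := fun a => DFunLike.congr_fun φ.2 a
    let f : maximalIdeal R →ₗ[k] k :=
      (sndL.comp φ.1.toLinearMap).comp ((maximalIdeal R).subtype.restrictScalars k)
    have hf : LinearMap.ker ((maximalIdeal R).toCotangent.restrictScalars k) ≤ LinearMap.ker f := by
      intro x hx
      have hx' : (x : R) ∈ maximalIdeal R ^ 2 := (Ideal.toCotangent_eq_zero _ _).1 hx
      show sndL (φ.1 (x : R)) = 0
      rw [pow_two] at hx'
      refine Submodule.mul_induction_on hx' (fun a ha b hb => ?_) fun a b ha hb => ?_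
      · rw [map_mul, sndL_mul, h1, h1, res_mem_sq res ha, res_mem_sq res hb]
        simp
      · rw [map_add, map_add, ha, hb, add_zero]
    let e := LinearMap.quotKerEquivOfSurjective ((maximalIdeal R).toCotangent.restrictScalars k)
      (maximalIdeal R).toCotangent_surjective
    refine ⟨(Submodule.liftQ _ f hf).comp e.symm.toLinearMap, Subtype.ext (AlgHom.ext fun a => ?_)⟩
    have key : e.symm (dPart res a) = Submodule.Quotient.mk (resPart res a) := by
      rw [LinearEquiv.symm_apply_eq]; rfl
    refine TrivSqZeroExt.ext (h1 a).symm ?_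
    show (Submodule.liftQ _ f hf) (e.symm (dPart res a)) = sndL (φ.1 a)
    rw [key, Submodule.liftQ_apply]
    show sndL (φ.1 (a - algebraMap k R (res a))) = _
    rw [map_sub, AlgHom.commutes, map_sub, sndL_algebraMap, sub_zero]

theorem scale_pointOfForm (c : k) (ℓ : Module.Dual k (CotangentSpace R)) :
    HomSet.map (Art.scale c) (pointOfForm res ℓ) = pointOfForm res (c • ℓ) :=
  Subtype.ext (AlgHom.ext fun _ => rfl)

/-- A pair of linear forms as a point over `k[ε₁, ε₂]`. -/
def pointOfPair (ℓ m : Module.Dual k (CotangentSpace R)) : HomSet R res (Art.dual2 k k) :=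
  ⟨AlgHom.ofLinearMap
    { toFun := fun a => ((res a, (ℓ (dPart res a), m (dPart res a))) : TrivSqZeroExt k (k × k))
      map_add' := fun a b => TrivSqZeroExt.ext (map_add res a b) (Prod.ext
        ((congrArg ℓ (map_add (dPart res) a b)).trans (map_add ℓ _ _))
        ((congrArg m (map_add (dPart res) a b)).trans (map_add m _ _)))
      map_smul' := fun c a => TrivSqZeroExt.ext (map_smul res c a) (Prod.ext
        ((congrArg ℓ (map_smul (dPart res) c a)).trans (map_smul ℓ c _))
        ((congrArg m (map_smul (dPart res) c a)).trans (map_smul m c _))) }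
    (TrivSqZeroExt.ext (map_one res) (Prod.ext ((congrArg ℓ (dPart_one res)).trans (map_zero ℓ))
      ((congrArg m (dPart_one res)).trans (map_zero m))))
    (fun a b => TrivSqZeroExt.ext (map_mul res a b) (Prod.ext
      (by
        show ℓ (dPart res (a * b)) = res a * ℓ (dPart res b) + ℓ (dPart res a) * res b
        rw [dPart_mul, map_add, map_smul, map_smul, smul_eq_mul, smul_eq_mul, mul_comm (res b)])
      (by
        show m (dPart res (a * b)) = res a * m (dPart res b) + m (dPart res a) * res b
        rw [dPart_mul, map_add, map_smul, map_smul, smul_eq_mul, smul_eq_mul, mul_comm (res b)]))),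
  AlgHom.ext fun _ => rfl⟩

theorem pr₁_pointOfPair (ℓ m : Module.Dual k (CotangentSpace R)) :
    HomSet.map Art.pr₁ (pointOfPair res ℓ m) = pointOfForm res ℓ :=
  Subtype.ext (AlgHom.ext fun _ => rfl)

theorem pr₂_pointOfPair (ℓ m : Module.Dual k (CotangentSpace R)) :
    HomSet.map Art.pr₂ (pointOfPair res ℓ m) = pointOfForm res m :=
  Subtype.ext (AlgHom.ext fun _ => rfl)

theorem plus_pointOfPair (ℓ m : Module.Dual k (CotangentSpace R)) :
    HomSet.map Art.plus (pointOfPair res ℓ m) = pointOfForm res (ℓ + m) :=
  Subtype.ext (AlgHom.ext fun _ => rfl)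

/-- The tangent space of a functor isomorphic to `h_R` is the dual of the cotangent space of `R`. -/
theorem nonempty_dual_equiv_tangent {F : Art k k ⥤ Type v} [TangentStr F] (ξ : Family R res F)
    (hξ : Function.Bijective (ξ.app (Art.dual k k))) :
    Nonempty (Module.Dual k (CotangentSpace R) ≃ₗ[k] TangentSpace F) := by
  refine ⟨LinearEquiv.ofBijective
    { toFun := fun ℓ => TangentSpace.mk (ξ.app (Art.dual k k) (pointOfForm res ℓ))
      map_add' := fun ℓ m => ?_
      map_smul' := fun c ℓ => ?_ } (hξ.comp (pointOfForm_bijective res))⟩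
  · have h := TangentStr.add_eq (F := F) (ξ.app (Art.dual2 k k) (pointOfPair res ℓ m))
    rw [← ξ.natural, ← ξ.natural, ← ξ.natural, pr₁_pointOfPair, pr₂_pointOfPair, plus_pointOfPair] at h
    exact h.symm
  · have h := TangentStr.smul_eq (F := F) c (ξ.app (Art.dual k k) (pointOfForm res ℓ))
    rw [← ξ.natural, scale_pointOfForm] at h
    exact h.symm

include res in
theorem finrank_residueField_cotangent :
    Module.finrank (ResidueField R) (CotangentSpace R) = Module.finrank k (CotangentSpace R) := by
  have hbij : Function.Bijective (algebraMap k (ResidueField R)) :=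
    ⟨(algebraMap k (ResidueField R)).injective, fun x => by
      obtain ⟨r, rfl⟩ := Ideal.Quotient.mk_surjective x
      refine ⟨res r, ?_⟩
      show residue R (algebraMap k R (res r)) = residue R r
      rw [eq_comm, ← sub_eq_zero, ← map_sub, residue_eq_zero_iff]
      exact sub_res_mem res r⟩
  have h1 : Module.finrank k (ResidueField R) = 1 := by
    rw [← (AlgEquiv.ofBijective (Algebra.ofId k (ResidueField R)) hbij).toLinearEquiv.finrank_eq,
      Module.finrank_self]
  haveI : IsScalarTower k (ResidueField R) (CotangentSpace R) := IsScalarTower.of_algebraMap_smul fun c x => by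
    rw [IsScalarTower.algebraMap_apply k R (ResidueField R), algebraMap_smul, algebraMap_smul]
  rw [← Module.finrank_mul_finrank k (ResidueField R) (CotangentSpace R), h1, one_mul]

/-- The dimension of the cotangent space of `R` is that of the tangent space of `h_R ≅ F`. -/
theorem finrank_cotangent_eq_tangent [IsNoetherianRing R] {F : Art k k ⥤ Type v} [TangentStr F]
    (ξ : Family R res F) (hξ : Function.Bijective (ξ.app (Art.dual k k))) :
    Module.finrank (ResidueField R) (CotangentSpace R) = Module.finrank k (TangentSpace F) := by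
  obtain ⟨e⟩ := nonempty_dual_equiv_tangent res ξ hξ
  rw [finrank_residueField_cotangent res, ← Subspace.dual_finrank_eq, e.finrank_eq]

end GrothLib.LocalHilb26
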