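import Groth.Agent.Lib.LocalHilb26.Closed
import Groth.Agent.Lib.LocalHilb26.Projective
import Groth.Agent.Lib.LocalHilb26.HomSetTangent
import Groth.Agent.Lib.LocalHilb26.HilbPoint
import Groth.Agent.Lib.LocalHilb26.Completion
import Groth.Agent.Lib.ArtFun.RingPresent

/-!
# The local ring of the Hilbert scheme at a rational point
-/

set_option autoImplicit false
set_option backward.isDefEq.respectTransparency false
universe u

noncomputable section

open CategoryTheory CategoryTheory.Limits AlgebraicGeometry IsLocalRing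

namespace GrothLib.LocalHilb26

open _root_.ArtFun _root_.ArtFun.Art
open GrothLib.Euler (smulMod)

variable {k : Type u} [Field k] {X Y : Scheme.{u}} (y : Y ⟶ Art.specPt k) (i : X ⟶ Y) [IsClosedImmersion i]
  [X.Over (Spec (CommRingCat.of k))] (hi : i ≫ y = X ↘ Spec (CommRingCat.of k))
  [DCoh.HasSheafHom (Omega.conormal i)]

include hi in
theorem normalEquiv'_smul (c : k) (x : Coh.HH X ((DCoh.sheafHom (Omega.conormal i)).obj (Coh.structureModule X)) 0) :
    normalEquiv' i (c • x) = scalMor y i.ker c (normalEquiv' i x) := by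
  have hr : Coh.toGlobal (X ↘ Spec (CommRingCat.of k)) c = i.appTop (Coh.toGlobal y c) := by
    rw [← hi]
    exact ConcreteCategory.congr_hom (Scheme.Hom.comp_appTop i y) _
  simp only [normalEquiv', AddEquiv.trans_apply]
  rw [show c • x = Coh.toGlobal (X ↘ Spec (CommRingCat.of k)) c • x from rfl, hhHomEquiv_smul, hr]
  show (Scheme.Modules.pullbackPushforwardAdjunction i).homEquiv _ _ (_ ≫ _) ≫ (pushUnitIsoQuot i).hom =
    ((Scheme.Modules.pullbackPushforwardAdjunction i).homEquiv _ _ _ ≫ (pushUnitIsoQuot i).hom) ≫ _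
  rw [Adjunction.homEquiv_naturality_right, pushforward_map_smulMod, Category.assoc, Category.assoc,
    smulMod_natural]

include hi in
theorem nonempty_linearEquiv_tangent' [TangentStr (localHilb Y y i.ker)] :
    Nonempty (TangentSpace (localHilb Y y i.ker) ≃ₗ[k]
      Coh.HH X ((DCoh.sheafHom (Omega.conormal i)).obj (Coh.structureModule X)) 0) := by
  refine ⟨{ toFun := fun a => (normalEquiv' i).symm (toHom y i.ker a.val)
            invFun := fun x => TangentSpace.mk ((tangentEquiv y i.ker).symm (normalEquiv' i x))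
            map_add' := fun a b => ?_
            map_smul' := fun c a => ?_
            left_inv := fun a => ?_
            right_inv := fun x => ?_ }⟩
  · show _ = _ + _
    rw [toHom_add, map_add]
  · refine (normalEquiv' i).injective ?_
    show normalEquiv' i ((normalEquiv' i).symm _) = normalEquiv' i (c • _)
    rw [normalEquiv'_smul y i hi, AddEquiv.apply_symm_apply, AddEquiv.apply_symm_apply, toHom_smul]
  · show TangentSpace.mk ((tangentEquiv y i.ker).symm (normalEquiv' i ((normalEquiv' i).symm _))) = a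
    rw [AddEquiv.apply_symm_apply]
    exact (tangentEquiv y i.ker).symm_apply_apply a.val
  · show (normalEquiv' i).symm (toHom y i.ker ((tangentEquiv y i.ker).symm _)) = x
    rw [show ∀ f, toHom y i.ker ((tangentEquiv y i.ker).symm f) = f from (tangentEquiv y i.ker).apply_symm_apply,
      AddEquiv.symm_apply_apply]

variable [IsProper y] (H : Over (Art.specPt k)) (Z : FGA.HilbSet y H) (hH : FGA.HilbRepresentedBy y H Z)
  (h : Over.mk (𝟙 (Art.specPt k)) ⟶ H)

omit [IsClosedImmersion i] [X.Over (Spec (CommRingCat.of k))] [DCoh.HasSheafHom (Omega.conormal i)] in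
include hH in
/-- The local ring at a rational point with a universal family. -/
theorem exists_local_representation (I₀ : Y.IdealSheafData)
    (hh : FGA.hilbPull y h Z.1 = I₀.comap (pullback.fst y (Over.mk (𝟙 (Art.specPt k))).hom)) :
    IsNoetherianRing (H.left.presheaf.stalk (h.left (closedPoint k))) ∧
    ∃ (_ : Algebra k (H.left.presheaf.stalk (h.left (closedPoint k))))
      (res : H.left.presheaf.stalk (h.left (closedPoint k)) →ₐ[k] k) (ξ : Family _ res (localHilb Y y I₀)),
      ∀ A, Function.Bijective (ξ.app A) := by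
  haveI := hH.1
  have hpt : h.left ≫ H.hom = 𝟙 _ := Over.w h
  exact ⟨inferInstance, stalkAlgebra H.hom h.left, stalkRes H.hom h.left hpt, exists_family y Z h I₀ hh hH hpt⟩

include hi hH in
/-- The cotangent space at a point of the Hilbert scheme has the dimension of the sections of the normal sheaf. -/
theorem finrank_cotangent_hilb (hh : FGA.hilbPull y h Z.1 = i.ker.comap (pullback.fst y (Over.mk (𝟙 (Art.specPt k))).hom)) :
    Module.finrank (ResidueField (H.left.presheaf.stalk (h.left (closedPoint k))))
        (CotangentSpace (H.left.presheaf.stalk (h.left (closedPoint k)))) =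
      Module.finrank k (Coh.HH X ((DCoh.sheafHom (Omega.conormal i)).obj (Coh.structureModule X)) 0) := by
  obtain ⟨hN, alg, res, ξ, hξ⟩ := exists_local_representation y H Z hH h i.ker hh
  have h2 : Heps (localHilb Y y i.ker) := fun B A' p' p'' hp => bijective_cmp y i.ker hp (Art.dual k k).res_surjective
  obtain ⟨T⟩ := GrothLib.ArtFun.nonempty_tangentStr (h0 y i.ker) h2
  obtain ⟨e⟩ := nonempty_linearEquiv_tangent' y i hi
  rw [finrank_cotangent_eq_tangent res ξ (hξ _), e.finrank_eq]

omit [IsClosedImmersion i] [X.Over (Spec (CommRingCat.of k))] [DCoh.HasSheafHom (Omega.conormal i)] in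
include hH in
/-- An unobstructed point of the Hilbert scheme is regular. -/
theorem isRegularLocalRing_hilb (I₀ : Y.IdealSheafData)
    (hh : FGA.hilbPull y h Z.1 = I₀.comap (pullback.fst y (Over.mk (𝟙 (Art.specPt k))).hom))
    (hs : IsSmoothFunctor (localHilb Y y I₀)) :
    IsRegularLocalRing (H.left.presheaf.stalk (h.left (closedPoint k))) := by
  obtain ⟨hN, alg, res, ξ, hξ⟩ := exists_local_representation y H Z hH h I₀ hh
  obtain ⟨R, f, hf, -, hreg, -, hU⟩ := exists_local_completion (H.left.presheaf.stalk (h.left (closedPoint k))) res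
    fun c => ⟨algebraMap k _ c, res.commutes c⟩
  refine hreg.1 ?_
  have hR : IsSmoothFunctor (hR R.carrier R.res) := by
    intro B A μ hμ (φ : HomSet R.carrier R.res A)
    let φ₀ : HomSet _ res A := ⟨φ.1.comp f, by rw [← AlgHom.comp_assoc, φ.2, hf]⟩
    obtain ⟨u, hu⟩ := hs μ hμ (ξ.app A φ₀)
    obtain ⟨ψ₀, rfl⟩ := (hξ B).2 u
    rw [← ξ.natural] at hu
    have hu' := (hξ A).1 hu
    obtain ⟨ψ, hψ, -⟩ := hU ψ₀.1 ψ₀.2
    refine ⟨ψ, ?_⟩
    refine (hU φ₀.1 φ₀.2).unique ?_ rfl
    show (μ.toAlgHom.comp ψ.1).comp f = φ₀.1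
    rw [AlgHom.comp_assoc, hψ]
    exact congrArg Subtype.val hu'
  haveI := GrothLib.ArtFun.isAdicComplete_maximalIdeal_field (k := k)
  obtain ⟨n, ⟨e⟩⟩ := (GrothLib.ArtFun.isSmoothFunctor_iff_powerSeries (fun c => ⟨c, rfl⟩) R).1 hR
  exact IsRegularLocalRing.of_ringEquiv e.symm.toRingEquiv

end GrothLib.LocalHilb26
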