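import Groth.Agent.Lib.LocalHilb26.TangentLin
import Groth.Agent.Lib.ArtFun.Torsor
import Mathlib.LinearAlgebra.Dimension.StrongRankCondition
import Mathlib.LinearAlgebra.TensorProduct.Pi
import Mathlib.LinearAlgebra.DirectSum.Finsupp

/-!
# Lifts along an extension killed by the maximal ideal
-/

set_option autoImplicit false
universe u v

noncomputable section

open CategoryTheory TensorProduct

namespace GrothLib.ArtFun

open _root_.ArtFun

variable {k : Type u} [Field k] {A B : Art k k} {p : B ⟶ A}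

theorem smul_eq_of_semismall (hp : Art.IsSemismallExt p) {a v : B} (hv : v ∈ RingHom.ker p.toAlgHom) :
    a * v = B.res a • v := by
  rw [Algebra.smul_def]
  exact mul_eq_mul_of_res_eq hp.2 (by rw [AlgHom.commutes]; rfl) hv

theorem finite_ker (hp : Art.IsSemismallExt p) : Module.Finite k ↥(RingHom.ker p.toAlgHom) := by
  obtain ⟨n, s, hs⟩ := Submodule.fg_iff_exists_fin_generating_family.1
    (IsNoetherian.noetherian (RingHom.ker p.toAlgHom))
  have hmem : ∀ i, s i ∈ RingHom.ker p.toAlgHom := fun i => hs ▸ Submodule.subset_span ⟨i, rfl⟩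
  refine Module.Finite.of_surjective (Fintype.linearCombination k fun i => (⟨s i, hmem i⟩ : ↥(RingHom.ker p.toAlgHom)))
    fun v => ?_
  have hv : (v : B.carrier) ∈ Submodule.span B.carrier (Set.range s) := by rw [hs]; exact v.2
  obtain ⟨c, hc⟩ := (Submodule.mem_span_range_iff_exists_fun B.carrier).1 hv
  refine ⟨fun i => B.res (c i), Subtype.ext ?_⟩
  rw [Fintype.linearCombination_apply, Submodule.coe_sum, ← hc]
  exact Finset.sum_congr rfl fun i _ => (smul_eq_of_semismall hp (hmem i)).symm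

/-- Lifts along such an extension are a copy of the product of tangent spaces. -/
theorem exists_fibre_equiv (F : Art k k ⥤ Type v) (h0 : H0 F) (h2 : Heps F)
    (hrs : ∀ ⦃P A A' A'' : Art k k⦄ (p' : P ⟶ A') (p'' : P ⟶ A'') (f' : A' ⟶ A) (f'' : A'' ⟶ A)
      (h : Art.IsFibreProd p' p'' f' f''), Function.Surjective f'' → Function.Bijective (cmp F h))
    (hp : Art.IsSemismallExt p) (x : F.obj A) {y₀ : F.obj B} (hy₀ : F.map p y₀ = x)
    {n : ℕ} (b : Module.Basis (Fin n) k ↥(RingHom.ker p.toAlgHom)) :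
    Nonempty ({y : F.obj B // F.map p y = x} ≃ (Fin n → F.obj (Art.dual k k))) := by
  obtain ⟨P, p₁, p₂, hP⟩ := exists_isFibreProd_of_surjective p p hp.1
  have hmem : ∀ z : P, p₂ z - p₁ z ∈ RingHom.ker p.toAlgHom := fun z => by
    rw [mem_ker_iff, map_sub]
    exact sub_eq_zero.2 (hP.w_apply z).symm
  let d : P.carrier →ₗ[k] (Fin n → k) :=
    b.equivFun.toLinearMap ∘ₗ
      { toFun := fun z => (⟨p₂ z - p₁ z, hmem z⟩ : ↥(RingHom.ker p.toAlgHom))
        map_add' := fun z w => Subtype.ext (by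
          show p₂ (z + w) - p₁ (z + w) = (p₂ z - p₁ z) + (p₂ w - p₁ w)
          rw [map_add, map_add]; abel)
        map_smul' := fun c z => Subtype.ext (by
          show p₂ (c • z) - p₁ (c • z) = c • (p₂ z - p₁ z)
          rw [map_smul, map_smul, smul_sub]) }
  have hd : ∀ z, (d z : Fin n → k) = b.equivFun ⟨p₂ z - p₁ z, hmem z⟩ := fun z => rfl
  have hd1 : d 1 = 0 := by
    rw [hd]
    exact (congrArg b.equivFun (Subtype.ext (by simp) : (⟨p₂ 1 - p₁ 1, hmem 1⟩ : ↥(RingHom.ker p.toAlgHom)) = 0)).trans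
      (map_zero _)
  have hdmul : ∀ z w, d (z * w) = P.res z • d w + P.res w • d z := fun z w => by
    rw [hd, hd, hd, ← map_smul, ← map_smul, ← map_add]
    refine congrArg b.equivFun (Subtype.ext ?_)
    show p₂ (z * w) - p₁ (z * w) = P.res z • (p₂ w - p₁ w) + P.res w • (p₂ z - p₁ z)
    rw [show P.res z = B.res (p₂ z) from (Art.res_app p₂ z).symm,
      show P.res w = B.res (p₁ w) from (Art.res_app p₁ w).symm,
      ← smul_eq_of_semismall hp (hmem w), ← smul_eq_of_semismall hp (hmem z), map_mul, map_mul]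
    ring
  let f : P.carrier → TrivSqZeroExt k (Fin n → k) := fun z => (P.res z, d z)
  let g : P ⟶ tsze k k (Fin n → k) := Art.homMk
    { toFun := f
      map_one' := TrivSqZeroExt.ext (map_one P.res) hd1
      map_mul' := fun z w => TrivSqZeroExt.ext (map_mul P.res z w) (by
        change d (z * w) = P.res z • d w + MulOpposite.op (P.res w) • d z
        rw [hdmul, op_smul_eq_smul])
      map_zero' := TrivSqZeroExt.ext (map_zero P.res) (map_zero d)
      map_add' := fun z w => TrivSqZeroExt.ext (map_add P.res z w) (map_add d z w)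
      commutes' := fun c => TrivSqZeroExt.ext (P.res.commutes c) (by
        change d (algebraMap k P.carrier c) = (algebraMap k (TrivSqZeroExt k (Fin n → k)) c).snd
        rw [Algebra.algebraMap_eq_smul_one, map_smul, hd1, smul_zero, TrivSqZeroExt.algebraMap_eq_inl',
          TrivSqZeroExt.snd_inl]) }
    (AlgHom.ext fun _ => rfl)
  have hg : ∀ z, TrivSqZeroExt.snd (g z : TrivSqZeroExt k (Fin n → k)) = d z := fun z => rfl
  have hg' : ∀ z, TrivSqZeroExt.fst (g z : TrivSqZeroExt k (Fin n → k)) = P.res z := fun z => Art.res_app g z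
  have hG : Art.IsFibreProd p₁ g (Art.toBase B) (Art.toBase (tsze k k (Fin n → k))) := by
    refine ⟨(Art.eq_toBase _).trans (Art.eq_toBase _).symm, fun z w h₁ h₂ => hP.inj z w h₁ ?_, fun a θ h => ?_⟩
    · have := congrArg TrivSqZeroExt.snd h₂
      rw [hg, hg, hd, hd] at this
      have e := congrArg Subtype.val (b.equivFun.injective this)
      simp only [h₁] at e
      exact sub_left_inj.1 e
    · let v := b.equivFun.symm (TrivSqZeroExt.snd θ)
      obtain ⟨z, hz₁, hz₂⟩ := hP.surj a (a + (v : B)) (by rw [map_add, mem_ker_iff.1 v.2, add_zero])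
      refine ⟨z, hz₁, TrivSqZeroExt.ext ?_ ?_⟩
      · rw [hg', ← Art.res_app p₁ z, hz₁]
        exact h
      · rw [hg, hd, ← b.equivFun.apply_symm_apply (TrivSqZeroExt.snd θ)]
        refine congrArg b.equivFun (Subtype.ext ?_)
        show p₂ z - p₁ z = (v : B)
        rw [hz₁, hz₂, add_sub_cancel_left]
  have b1 := hrs _ _ _ _ hP hp.1
  have b2 := hrs _ _ _ _ hG (toBase_surjective _)
  have hcomm : ∀ z : F.obj P, F.map p (F.map p₂ z) = F.map p (F.map p₁ z) := fun z =>
    (cmp F hP z).2.symm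
  let e1 : {y : F.obj B // F.map p y = x} ≃ {z : F.obj P // F.map p₁ z = y₀} :=
    (Equiv.ofBijective (fun z : {z : F.obj P // F.map p₁ z = y₀} =>
      (⟨F.map p₂ z.1, by rw [hcomm, z.2, hy₀]⟩ : {y : F.obj B // F.map p y = x}))
      ⟨fun z w e => Subtype.ext (b1.1 (FibProd.ext (z.2.trans w.2.symm) (congrArg Subtype.val e))),
        fun y => by
          obtain ⟨z, hz⟩ := b1.2 ⟨(y₀, y.1), hy₀.trans y.2.symm⟩
          exact ⟨⟨z, congrArg (fun t => t.1.1) hz⟩, Subtype.ext (congrArg (fun t => t.1.2) hz)⟩⟩).symm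
  let e2 : {z : F.obj P // F.map p₁ z = y₀} ≃ F.obj (tsze k k (Fin n → k)) :=
    Equiv.ofBijective (fun z => F.map g z.1)
      ⟨fun z w e => Subtype.ext (b2.1 (FibProd.ext (z.2.trans w.2.symm) e)),
        fun θ => by
          obtain ⟨z, hz⟩ := b2.2 ⟨(y₀, θ), h0_eq h0 _ _⟩
          exact ⟨⟨z, congrArg (fun t => t.1.1) hz⟩, congrArg (fun t => t.1.2) hz⟩⟩
  exact ⟨e1.trans (e2.trans (Equiv.ofBijective _ (coords_bijective h0 h2 n)))⟩

end GrothLib.ArtFun

namespace GrothLib.LocalHilb26

open AlgebraicGeometry _root_.ArtFun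

theorem nonempty_fibre_equiv {k : Type u} [Field k] {Y : Scheme.{u}} (y : Y ⟶ Art.specPt k) (I₀ : Y.IdealSheafData)
    [I₀.subscheme.Over (Spec (CommRingCat.of k))] [DCoh.HasSheafHom (Omega.conormal I₀.subschemeι)]
    {B A : Art k k} (p : B ⟶ A) (hp : Art.IsSemismallExt p) (I : (localHilb Y y I₀).obj A)
    {I' : (localHilb Y y I₀).obj B} (hI' : (localHilb Y y I₀).map p I' = I) :
    Nonempty ({I' : (localHilb Y y I₀).obj B // (localHilb Y y I₀).map p I' = I} ≃
      (Coh.HH I₀.subscheme ((DCoh.sheafHom (Omega.conormal I₀.subschemeι)).obj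
        (Coh.structureModule I₀.subscheme)) 0 ⊗[k] ↥(RingHom.ker p.toAlgHom))) := by
  haveI := GrothLib.ArtFun.finite_ker hp
  let b := Module.finBasis k ↥(RingHom.ker p.toAlgHom)
  obtain ⟨e⟩ := GrothLib.ArtFun.exists_fibre_equiv (localHilb Y y I₀) (h0 y I₀)
    (fun P A' p' p'' h => bijective_cmp y I₀ h (Art.dual k k).res_surjective)
    (fun P A A' A'' p' p'' f' f'' h hf => bijective_cmp y I₀ h hf) hp I hI' b
  let N := Coh.HH I₀.subscheme ((DCoh.sheafHom (Omega.conormal I₀.subschemeι)).obj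
    (Coh.structureModule I₀.subscheme)) 0
  let eN : (localHilb Y y I₀).obj (Art.dual k k) ≃ N := (tangentEquiv y I₀).trans (normalEquiv I₀).symm.toEquiv
  exact ⟨e.trans ((Equiv.piCongrRight fun _ => eN).trans
    ((TensorProduct.piScalarRight k k N (Fin _)).symm.trans (b.equivFun.symm.lTensor N)).toEquiv)⟩

end GrothLib.LocalHilb26
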