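import Groth.Agent.Lib.LocalHilb26.TangentLin
import Groth.Agent.S15131

/-!
# The local Hilbert functor of a closed immersion
-/

set_option autoImplicit false
set_option backward.isDefEq.respectTransparency false
universe u

noncomputable section

open CategoryTheory CategoryTheory.Limits AlgebraicGeometry

namespace GrothLib.LocalHilb26

variable {X Y : Scheme.{u}} (i : X ⟶ Y) [IsClosedImmersion i]

/-- The direct image of `O_X` is the quotient by the ideal. -/
def pushUnitIsoQuot : (Scheme.Modules.pushforward i).obj (Coh.structureModule X) ≅ ClSub.quotMod i.ker :=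
  haveI : IsIso (ClSub.unitToPush i.toImage) := Scheme.Modules.Hom.isIso_iff_isIso_app.2 fun U => by
    rw [ConcreteCategory.isIso_iff_bijective]
    exact ConcreteCategory.bijective_of_isIso (i.toImage.app U)
  eqToIso (congrArg (fun j => (Scheme.Modules.pushforward j).obj (Coh.structureModule X)) i.toImage_imageι.symm) ≪≫
    ((Scheme.Modules.pushforwardComp i.toImage i.imageι).app (Coh.structureModule X)).symm ≪≫
      (Scheme.Modules.pushforward i.imageι).mapIso (asIso (ClSub.unitToPush i.toImage)).symm

variable [DCoh.HasSheafHom (Omega.conormal i)]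

/-- Sections of the normal sheaf as morphisms from the ideal to the quotient. -/
def normalEquiv' : Coh.HH X ((DCoh.sheafHom (Omega.conormal i)).obj (Coh.structureModule X)) 0 ≃+
    (ClSub.idealMod i.ker ⟶ ClSub.quotMod i.ker) :=
  (hhHomEquiv _ _).trans (AddEquiv.mk' (((Scheme.Modules.pullbackPushforwardAdjunction i).homEquiv
      (ClSub.idealMod i.ker) (Coh.structureModule X)).trans (pushUnitIsoQuot i).homToEquiv) fun f g => by
    show ((Scheme.Modules.pullbackPushforwardAdjunction i).homEquiv _ _) (f + g) ≫ _ = _
    refine (congrArg (· ≫ _) (Adjunction.homAddEquiv_add ..)).trans ?_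
    rw [Preadditive.add_comp]
    rfl)

theorem subsingleton_iff {k : Type u} [Field k] (y : Y ⟶ ArtFun.Art.specPt k) :
    (∀ A : ArtFun.Art k k, Subsingleton ((ArtFun.localHilb Y y i.ker).obj A)) ↔
      Subsingleton (Coh.HH X ((DCoh.sheafHom (Omega.conormal i)).obj (Coh.structureModule X)) 0) := by
  refine ⟨fun h => ?_, fun h A => ?_⟩
  · haveI := h (ArtFun.Art.dual k k)
    haveI := (tangentEquiv y i.ker).symm.subsingleton
    exact (normalEquiv' i).toEquiv.subsingleton
  · haveI := (normalEquiv' i).symm.toEquiv.subsingleton
    have ht : Subsingleton (ArtFun.TangentSpace (ArtFun.localHilb Y y i.ker)) :=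
      (toHom_injective y i.ker).subsingleton
    exact (Groth.Agent.S15131.result (F := ArtFun.localHilb Y y i.ker) (h0 y i.ker)
      (fun B A A' A'' p' p'' f' f'' hs hf => (bijective_cmp y i.ker hs hf.1).surjective)
      (fun B A' p' p'' hs => bijective_cmp y i.ker hs (ArtFun.Art.dual k k).res_surjective) ht A).2

end GrothLib.LocalHilb26
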