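import Groth.Agent.Lib.LocalHilb26.NormalH1
import Groth.Agent.Lib.LocalHilb26.Closed
import Groth.Agent.Lib.ArtFun.Smooth

/-!
# Unobstructedness of a closed immersion with `H¹` of the normal sheaf zero
-/

set_option autoImplicit false
set_option backward.isDefEq.respectTransparency false
universe u

noncomputable section

open CategoryTheory CategoryTheory.Limits AlgebraicGeometry

namespace GrothLib.LocalHilb26

open _root_.ArtFun _root_.ArtFun.Art

attribute [local instance] LocFreeHom.hasSheafHom

variable {k : Type u} [Field k] {X Y : Scheme.{u}} (y : Y ⟶ specPt k) (i : X ⟶ Y) [IsClosedImmersion i]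

theorem isRegularClosedImmersion_ker (hreg : Mor2.IsRegularClosedImmersion i) :
    Mor2.IsRegularClosedImmersion i.ker.subschemeι := by
  refine ⟨inferInstance, fun z => ?_⟩
  obtain ⟨w, rfl⟩ := i.toImage.surjective z
  obtain ⟨U, hU, hw, rs, hrs, hker⟩ := hreg.2 w
  refine ⟨U, hU, ?_, rs, hrs, by rw [Scheme.IdealSheafData.ker_subschemeι]; exact hker⟩
  have : (i.toImage ≫ i.imageι) w = i w := by rw [i.toImage_imageι]
  rw [Scheme.Hom.comp_apply] at this
  exact this ▸ hw

/-- Local lifts and `H¹(N) = 0` for a closed immersion give smoothness. -/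
theorem isSmoothFunctor_of_h1 (hloc : ∀ ⦃A' A : Art k k⦄ (p : A' ⟶ A), Art.IsSmallExt p →
      ∀ (I : (localHilb Y y i.ker).obj A) (z : i.ker.subscheme), ∃ U : Y.affineOpens, i.ker.subschemeι z ∈ U.1 ∧
      ∃ J : Ideal (SR y A' U), J.map (res y p U).hom = I.1.ideal (chart y A U) ∧
        ((Ideal.Quotient.mk J).comp (str y A' U).hom).Flat)
    [hc : DCoh.HasSheafHom (Omega.conormal i)]
    (h1 : Subsingleton (Coh.HH X ((DCoh.sheafHom (Omega.conormal i)).obj (Coh.structureModule X)) 1)) :
    IsSmoothFunctor (localHilb Y y i.ker) := by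
  refine GrothLib.ArtFun.isSmoothFunctor_of_small fun B A μ hμ I => ?_
  haveI : HasExt.{u} Y.Modules := hasExt_of_enoughInjectives _
  haveI : HasExt.{u} X.Modules := hasExt_of_enoughInjectives _
  have h1' : Subsingleton (Coh.HH X ((DCoh.sheafHom
      ((Scheme.Modules.pullback i).obj (ClSub.idealMod i.ker))).obj (Coh.structureModule X)) 1) := h1
  have hExt := Torsor26.subsingleton_ext_homPush i (ClSub.idealMod i.ker) (Coh.structureModule X) h1'
  refine exists_lift_of_subsingleton_ext_normal y i.ker μ I (hloc μ hμ I) hμ ?_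
  let e := (DCoh.sheafHom (ClSub.idealMod i.ker)).mapIso (pushUnitIsoQuot i)
  exact (by
    refine ⟨fun a b => ?_⟩
    have hinj : Function.Injective fun x : Abelian.Ext.{u} (Coh.structureModule Y)
        ((DCoh.sheafHom (ClSub.idealMod i.ker)).obj (ClSub.quotMod i.ker)) 1 =>
        x.comp (Abelian.Ext.mk₀ e.inv) (add_zero 1) := by
      intro x x' e'
      have := congrArg (fun z => z.comp (Abelian.Ext.mk₀ e.hom) (add_zero 1)) e'
      simpa using this
    exact hinj (@Subsingleton.elim _ hExt _ _))

end GrothLib.LocalHilb26
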