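import Groth.Agent.Lib.Milnor.Flat
import Mathlib.RingTheory.TensorProduct.Quotient
import Mathlib.RingTheory.IsTensorProduct

/-!
# Flat quotients over a fibre product of rings

Ideals with flat quotient glue uniquely along a Milnor square.
-/

set_option autoImplicit false
universe u

open TensorProduct

namespace GrothLib.LocalHilb26

open Groth.Agent

/-- Base change of a quotient by an ideal along a pushout. -/
theorem exists_quotient_equiv (B A' R R' : Type u) [CommRing B] [CommRing A'] [CommRing R] [CommRing R']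
    [Algebra B A'] [Algebra B R] [Algebra A' R'] [Algebra R R'] [Algebra B R'] [IsScalarTower B A' R']
    [IsScalarTower B R R'] [Algebra.IsPushout B A' R R'] (J : Ideal R) :
    ∃ e : A' ⊗[B] (R ⧸ J) ≃ₗ[A'] R' ⧸ J.map (algebraMap R R'),
      ∀ r : R, e (1 ⊗ₜ Ideal.Quotient.mk J r) = Ideal.Quotient.mk _ (algebraMap R R' r) := by
  let e₁ := Algebra.TensorProduct.tensorQuotientEquiv (R := B) A' R A' J
  let p := Algebra.IsPushout.equiv B A' R R'
  have hp : ∀ r : R, p (1 ⊗ₜ r) = algebraMap R R' r := fun r => by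
    rw [Algebra.IsPushout.equiv_tmul]; simp
  have h : J.map (algebraMap R R') = (J.map (Algebra.TensorProduct.includeRight (R := B) (A := A'))).map
      (p : A' ⊗[B] R →+* R') := by
    rw [show J.map (Algebra.TensorProduct.includeRight (R := B) (A := A')) =
      J.map (Algebra.TensorProduct.includeRight (R := B) (A := A')).toRingHom from rfl, Ideal.map_map]
    congr 1
    ext r
    exact (hp r).symm
  let e₂ := Ideal.quotientEquivAlg (J.map (Algebra.TensorProduct.includeRight (R := B) (A := A')))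
    (J.map (algebraMap R R')) p h
  exact ⟨(e₁.trans e₂).toLinearEquiv, fun r => by
    show e₂ (e₁ (1 ⊗ₜ Ideal.Quotient.mk J r)) = _
    rw [Algebra.TensorProduct.tensorQuotientEquiv_apply_tmul]
    show Ideal.Quotient.mk _ (p (1 ⊗ₜ r)) = _
    rw [hp]⟩

variable {B A' A'' A : Type u} [CommRing B] [CommRing A'] [CommRing A''] [CommRing A]
  [Algebra B A'] [Algebra B A''] [Algebra A' A] [Algebra A'' A] [Algebra B A]
  [IsScalarTower B A' A] [IsScalarTower B A'' A]

/-- A flat module embeds in the product of its base changes. -/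
theorem eq_zero_of_pair (hsq : EtMil.IsFibreSquare B A' A'' A) {L : Type u} [AddCommGroup L] [Module B L]
    [Module.Flat B L] {l : L} (h₁ : (1 : A') ⊗ₜ[B] l = 0) (h₂ : (1 : A'') ⊗ₜ[B] l = 0) : l = 0 := by
  let a : B →ₗ[B] A' × A'' := (Algebra.linearMap B A').prod (Algebra.linearMap B A'')
  have ha : Function.Injective a := fun x y h =>
    Milnor.eq_of_pair hsq (congrArg Prod.fst h) (congrArg Prod.snd h)
  have h := Module.Flat.rTensor_preserves_injective_linearMap (M := L) a ha
  have e : a.rTensor L ((1 : B) ⊗ₜ l) =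
      (LinearMap.inl B A' A'').rTensor L ((1 : A') ⊗ₜ l) + (LinearMap.inr B A' A'').rTensor L ((1 : A'') ⊗ₜ l) := by
    rw [LinearMap.rTensor_tmul, LinearMap.rTensor_tmul, LinearMap.rTensor_tmul, ← TensorProduct.add_tmul]
    simp [a]
  rw [h₁, h₂, map_zero, map_zero, add_zero] at e
  simpa using congrArg (TensorProduct.lid B L) (h (a₁ := (1 : B) ⊗ₜ l) (a₂ := 0) (by rw [e, map_zero]))

variable {R R' R'' R₀ : Type u} [CommRing R] [CommRing R'] [CommRing R''] [CommRing R₀]
  [Algebra B R] [Algebra A' R'] [Algebra A'' R''] [Algebra A R₀]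
  [Algebra R R'] [Algebra R R''] [Algebra R R₀] [Algebra R' R₀] [Algebra R'' R₀]
  [Algebra B R'] [Algebra B R''] [Algebra B R₀] [Algebra A' R₀] [Algebra A'' R₀]
  [IsScalarTower B A' R'] [IsScalarTower B R R'] [IsScalarTower B A'' R''] [IsScalarTower B R R'']
  [IsScalarTower B A R₀] [IsScalarTower B R R₀]
  [IsScalarTower R R' R₀] [IsScalarTower R R'' R₀]
  [IsScalarTower A' A R₀] [IsScalarTower A' R' R₀] [IsScalarTower A'' A R₀] [IsScalarTower A'' R'' R₀]
  [Algebra.IsPushout B A' R R'] [Algebra.IsPushout B A'' R R''] [Algebra.IsPushout B A R R₀]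

theorem equiv_rTensor_left (x : A' ⊗[B] R) :
    Algebra.IsPushout.equiv B A R R₀ ((IsScalarTower.toAlgHom B A' A).toLinearMap.rTensor R x) =
      algebraMap R' R₀ (Algebra.IsPushout.equiv B A' R R' x) := by
  induction x with
  | zero => simp
  | tmul a r =>
    rw [LinearMap.rTensor_tmul, Algebra.IsPushout.equiv_tmul, Algebra.IsPushout.equiv_tmul, map_mul,
      ← IsScalarTower.algebraMap_apply A' R' R₀, ← IsScalarTower.algebraMap_apply R R' R₀]
    exact congrArg (· * _) (IsScalarTower.algebraMap_apply A' A R₀ a).symm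
  | add x y hx hy => simp only [map_add, hx, hy]

theorem exists_lift (hsq : EtMil.IsFibreSquare B A' A'' A) (r' : R') (r'' : R'')
    (h : algebraMap R' R₀ r' = algebraMap R'' R₀ r'') :
    ∃ r : R, algebraMap R R' r = r' ∧ algebraMap R R'' r = r'' := by
  obtain ⟨x, rfl⟩ := (Algebra.IsPushout.equiv B A' R R').surjective r'
  obtain ⟨y, rfl⟩ := (Algebra.IsPushout.equiv B A'' R R'').surjective r''
  rw [← equiv_rTensor_left (A := A), ← equiv_rTensor_left (A := A)] at h
  obtain ⟨r, hr, hr'⟩ := Milnor.exists_preimage_pair hsq x y ((Algebra.IsPushout.equiv B A R R₀).injective h)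
  exact ⟨r, by rw [← hr, Algebra.IsPushout.equiv_tmul]; simp, by rw [← hr', Algebra.IsPushout.equiv_tmul]; simp⟩

/-- The two base changes of the glued ideal are the given ones. -/
theorem map_glue (hsq : EtMil.IsFibreSquare B A' A'' A) (J' : Ideal R') (J'' : Ideal R'')
    (h : J'.map (algebraMap R' R₀) = J''.map (algebraMap R'' R₀)) :
    (J'.comap (algebraMap R R') ⊓ J''.comap (algebraMap R R'')).map (algebraMap R R') = J' ∧
      (J'.comap (algebraMap R R') ⊓ J''.comap (algebraMap R R'')).map (algebraMap R R'') = J'' := by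
  have hs : Function.Surjective (algebraMap R'' R₀) := by
    intro z
    obtain ⟨x, rfl⟩ := (Algebra.IsPushout.equiv B A R R₀).surjective z
    obtain ⟨y, rfl⟩ := LinearMap.rTensor_surjective R
      (g := (IsScalarTower.toAlgHom B A'' A).toLinearMap) hsq.1 x
    exact ⟨_, (equiv_rTensor_left (R := R) (R₀ := R₀) (A := A) y).symm⟩
  set J := J'.comap (algebraMap R R') ⊓ J''.comap (algebraMap R R'')
  have h1 : J.map (algebraMap R R') = J' := by
    refine le_antisymm (Ideal.map_le_iff_le_comap.2 inf_le_left) fun c' hc' => ?_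
    obtain ⟨c'', hc'', e⟩ := (Ideal.mem_map_iff_of_surjective _ hs).1 (h ▸ Ideal.mem_map_of_mem _ hc')
    obtain ⟨r, hr, hr'⟩ := exists_lift (R := R) hsq c' c'' e.symm
    rw [← hr]
    exact Ideal.mem_map_of_mem _ ⟨show algebraMap R R' r ∈ J' by rw [hr]; exact hc',
      show algebraMap R R'' r ∈ J'' by rw [hr']; exact hc''⟩
  refine ⟨h1, le_antisymm (Ideal.map_le_iff_le_comap.2 inf_le_right) fun c'' hc'' => ?_⟩
  have h2 : J''.map (algebraMap R'' R₀) = (J.map (algebraMap R R'')).map (algebraMap R'' R₀) := by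
    rw [← h, ← h1, Ideal.map_map, Ideal.map_map, ← IsScalarTower.algebraMap_eq, ← IsScalarTower.algebraMap_eq]
  obtain ⟨y, hy, e⟩ := (Ideal.mem_map_iff_of_surjective _ hs).1 (h2 ▸ Ideal.mem_map_of_mem _ hc'')
  obtain ⟨r, hr, hr'⟩ := exists_lift (R := R) (R' := R') (R₀ := R₀) hsq 0 (c'' - y) (by rw [map_zero, map_sub, e, sub_self])
  have hr0 : r ∈ J := ⟨show algebraMap R R' r ∈ J' by rw [hr]; exact J'.zero_mem, show algebraMap R R'' r ∈ J'' by
    rw [hr']
    exact J''.sub_mem hc'' ((Ideal.map_le_iff_le_comap.2 inf_le_right) hy)⟩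
  have := Ideal.mem_map_of_mem (algebraMap R R'') hr0
  rw [hr'] at this
  simpa using Ideal.add_mem _ this hy

omit [Algebra R R₀] [Algebra R' R₀] [Algebra R'' R₀] [Algebra A R₀] [Algebra B R₀] [Algebra A' R₀] [Algebra A'' R₀]
  [IsScalarTower B A R₀] [IsScalarTower B R R₀]
  [IsScalarTower R R' R₀] [IsScalarTower R R'' R₀]
  [IsScalarTower A' A R₀] [IsScalarTower A' R' R₀] [IsScalarTower A'' A R₀] [IsScalarTower A'' R'' R₀]
  [Algebra.IsPushout B A R R₀] in
theorem flat_quotient (hsq : EtMil.IsFibreSquare B A' A'' A) (J : Ideal R)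
    [Module.Flat A' (R' ⧸ J.map (algebraMap R R'))] [Module.Flat A'' (R'' ⧸ J.map (algebraMap R R''))] :
    Module.Flat B (R ⧸ J) := by
  haveI : Module.Flat A' (A' ⊗[B] (R ⧸ J)) := .of_linearEquiv (exists_quotient_equiv B A' R R' J).choose
  haveI : Module.Flat A'' (A'' ⊗[B] (R ⧸ J)) := .of_linearEquiv (exists_quotient_equiv B A'' R R'' J).choose
  exact Milnor.flat_of_pair hsq

omit [Algebra R R₀] [Algebra R' R₀] [Algebra R'' R₀] [Algebra A R₀] [Algebra B R₀] [Algebra A' R₀] [Algebra A'' R₀]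
  [IsScalarTower B A R₀] [IsScalarTower B R R₀]
  [IsScalarTower R R' R₀] [IsScalarTower R R'' R₀]
  [IsScalarTower A' A R₀] [IsScalarTower A' R' R₀] [IsScalarTower A'' A R₀] [IsScalarTower A'' R'' R₀]
  [Algebra.IsPushout B A R R₀] in
/-- An ideal with flat quotient is determined by its two base changes. -/
theorem eq_comap_inf_comap (hsq : EtMil.IsFibreSquare B A' A'' A) (J : Ideal R) [Module.Flat B (R ⧸ J)] :
    J = (J.map (algebraMap R R')).comap (algebraMap R R') ⊓ (J.map (algebraMap R R'')).comap (algebraMap R R'') := by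
  refine le_antisymm (le_inf Ideal.le_comap_map Ideal.le_comap_map) fun c ⟨h', h''⟩ => ?_
  obtain ⟨e', he'⟩ := exists_quotient_equiv B A' R R' J
  obtain ⟨e'', he''⟩ := exists_quotient_equiv B A'' R R'' J
  refine Ideal.Quotient.eq_zero_iff_mem.1 (eq_zero_of_pair hsq ?_ ?_)
  · exact e'.injective (by rw [he', map_zero]; exact Ideal.Quotient.eq_zero_iff_mem.2 h')
  · exact e''.injective (by rw [he'', map_zero]; exact Ideal.Quotient.eq_zero_iff_mem.2 h'')

end GrothLib.LocalHilb26
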