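import Groth.Agent.Lib.LocalHilb26.LiftAlg
import Mathlib.RingTheory.RingHom.Flat
import Mathlib.RingTheory.Flat.Stability
import Mathlib.RingTheory.TensorProduct.Quotient

/-!
# Flat quotients and further localisation; obstructions vanish when a lift exists
-/

set_option autoImplicit false
universe u

open IsLocalRing

open TensorProduct

namespace GrothLib.LocalHilb26

/-- A flat quotient stays flat after a flat base change of the ambient ring. -/
theorem flat_quotient_map {A R S : Type u} [CommRing A] [CommRing R] [CommRing S] [Algebra A R] [Algebra A S]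
    [Algebra R S] [IsScalarTower A R S] [Module.Flat R S] (J : Ideal R) [Module.Flat A (R ⧸ J)] :
    Module.Flat A (S ⧸ J.map (algebraMap R S)) := by
  let e := Algebra.TensorProduct.quotIdealMapEquivTensorQuot S J
  haveI : Module.Flat (R ⧸ J) ((R ⧸ J) ⊗[R] S) := inferInstance
  haveI : Module.Flat A ((R ⧸ J) ⊗[R] S) := Module.Flat.trans A (R ⧸ J) ((R ⧸ J) ⊗[R] S)
  exact Module.Flat.of_linearEquiv
    ((e.toLinearEquiv.restrictScalars R).trans (TensorProduct.comm R S (R ⧸ J)) |>.restrictScalars A)

variable {A' A R' R B : Type u} [CommRing A'] [CommRing A] [CommRing R'] [CommRing R] [CommRing B]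
  [IsLocalRing A'] [Algebra A' R'] [Algebra A R]
  {p : A' →+* A} {t : A'} {res : R' →+* R} {π' : R' →+* B} {π : R →+* B} {ι : B →+* R'}

namespace IsSmallLift

variable (h : IsSmallLift p t res π' π ι)

include h

/-- In a flat lift, multiples of `t` come from the reduced ideal. -/
theorem mem_of_t_mul_mem_flat {I : Ideal R} {J : Ideal R'} (hJ : J.map res = I)
    [Module.Flat A' (R' ⧸ J)] {a : B} (ha : algebraMap A' R' t * ι a ∈ J) : a ∈ I.map π := by
  have h0 : t • Ideal.Quotient.mk J (ι a) = 0 := by
    rw [show t • Ideal.Quotient.mk J (ι a) = Ideal.Quotient.mk J (algebraMap A' R' t * ι a) from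
      congrArg (Ideal.Quotient.mk J) (Algebra.smul_def t (ι a)), Ideal.Quotient.eq_zero_iff_mem]
    exact ha
  have hrel : ∑ i : Fin 1, (fun _ => t) i • (fun _ => Ideal.Quotient.mk J (ι a)) i = 0 := by
    rw [Fin.sum_univ_one, h0]
  obtain ⟨l, c, w, hw, hc⟩ := Module.Flat.isTrivialRelation_of_sum_smul_eq_zero hrel
  choose v hv using fun j => Ideal.Quotient.mk_surjective (w j)
  have hmem : ι a - ∑ j, c 0 j • v j ∈ J := by
    rw [← Ideal.Quotient.eq, map_sum]
    refine (hw 0).trans (Finset.sum_congr rfl fun j _ => ?_)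
    rw [← hv j]
    rfl
  have := Ideal.mem_map_of_mem π' hmem
  rw [← h.map_map_eq, hJ, map_sub, h.π_ι, map_sum] at this
  rwa [Finset.sum_eq_zero, sub_zero] at this
  intro j _
  have hm : c 0 j ∈ maximalIdeal A' := fun hu => h.t_ne (by
    have := hc j
    rw [Fin.sum_univ_one] at this
    exact (hu.mul_left_eq_zero).1 this)
  rw [Algebra.smul_def, map_mul, h.π'_algebraMap hm, zero_mul]

/-- If `I` has a flat lift, multiples of `t` in `m' P + P²` come from the reduced ideal. -/
theorem mem_of_t_mul_mem_of_lift [Nontrivial A] {I : Ideal R} {J : Ideal R'} (hJ : J.map res = I)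
    [Module.Flat A' (R' ⧸ J)] {a : B}
    (ha : algebraMap A' R' t * ι a ∈
      (maximalIdeal A').map (algebraMap A' R') * I.comap res ⊔ I.comap res * I.comap res) : a ∈ I.map π := by
  have key : ∀ z ∈ I.comap res, ∃ j ∈ J, ∃ r, z = j + algebraMap A' R' t * r := fun z hz => by
    obtain ⟨j, hj, e⟩ := (Ideal.mem_map_iff_of_surjective _ h.res_surj).1 (hJ.ge hz)
    obtain ⟨r, hr⟩ := h.exists_of_res_eq_zero (z := z - j) (by rw [map_sub, e, sub_self])
    exact ⟨j, hj, r, by rw [← hr, add_sub_cancel]⟩
  have htt : algebraMap A' R' t * algebraMap A' R' t = 0 := by rw [← map_mul, h.max_t t h.t_mem, map_zero]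
  have hle : (maximalIdeal A').map (algebraMap A' R') * I.comap res ⊔ I.comap res * I.comap res ≤ J := by
    refine sup_le (Ideal.mul_le.2 fun x hx z hz => ?_) (Ideal.mul_le.2 fun x hx z hz => ?_)
    · obtain ⟨j, hj, r, rfl⟩ := key z hz
      rw [← h.ker_π', RingHom.mem_ker] at hx
      rw [mul_add, ← mul_assoc, mul_comm x (algebraMap A' R' t), h.t_mul_eq_zero hx, zero_mul, add_zero]
      exact J.mul_mem_left _ hj
    · obtain ⟨j, hj, r, rfl⟩ := key z hz
      obtain ⟨j', hj', r', rfl⟩ := key x hx
      have : (j' + algebraMap A' R' t * r') * (j + algebraMap A' R' t * r) =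
          (j' + algebraMap A' R' t * r') * j + algebraMap A' R' t * r * j' +
            algebraMap A' R' t * algebraMap A' R' t * (r * r') := by ring
      rw [this, htt, zero_mul, add_zero]
      exact J.add_mem (J.mul_mem_left _ hj) (J.mul_mem_left _ hj')
  exact h.mem_of_t_mul_mem_flat hJ (hle ha)

end IsSmallLift

end GrothLib.LocalHilb26
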