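import Groth.Agent.Lib.LocalHilb26.Ext1Lift
import Groth.Agent.Lib.LocalHilb26.LiftLocal
import Groth.Agent.Lib.QCoh.ClosedImmersion
import Groth.Agent.Lib.QCoh.Abelian
import Groth.Agent.Lib.K0Sub.Killed
import Groth.Agent.Lib.K0Sub.PushExact
import Groth.Agent.Lib.OmegaAff.Basic
import Groth.Prelude.Def_Omega2

/-!
# Lifting embedded deformations through the conormal extension
-/

set_option autoImplicit false
set_option backward.isDefEq.respectTransparency false
universe u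

noncomputable section

open CategoryTheory CategoryTheory.Limits AlgebraicGeometry Opposite

namespace GrothLib.LocalHilb26

open _root_.ArtFun _root_.ArtFun.Art GrothLib.IdealModSec

section Target

variable {Y : Scheme.{u}} (I₀ : Y.IdealSheafData)

theorem mem_of_mem_sq {U : Y.affineOpens} {a : Γ(Y, U.1)} (ha : a ∈ (I₀ * I₀).ideal U) : a ∈ I₀.ideal U :=
  Ideal.mul_le_left (I := I₀.ideal U) (J := I₀.ideal U) ha

theorem exists_sqHom : ∃ f : ClSub.quotMod (I₀ * I₀) ⟶ ClSub.quotMod I₀,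
    ∀ (U : Y.affineOpens) a, f.app U.1 (qr (I₀ * I₀) U.1 a) = qr I₀ U.1 a :=
  exists_hom_of_surj (fun U => Γ(Y, U.1)) (fun U => qr (I₀ * I₀) U.1) (fun U => qr I₀ U.1)
    (qr_surjective (I₀ * I₀))
    (fun U a b h => (qr_eq_iff I₀ U a b).2 (mem_of_mem_sq I₀ ((qr_eq_iff _ U a b).1 h)))
    (fun U a b => ⟨a + b, qr_add _ U.1 a b, qr_add _ U.1 a b⟩)
    (fun U r a => ⟨r * a, qr_mul _ U.1 r a, qr_mul _ U.1 r a⟩)
    (fun U V h a => ⟨_, (qr_map _ h a).symm, (qr_map _ h a).symm⟩)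

/-- `O/I² → O/I`. -/
def sqHom : ClSub.quotMod (I₀ * I₀) ⟶ ClSub.quotMod I₀ := (exists_sqHom I₀).choose

theorem sqHom_qr (U : Y.affineOpens) (a : Γ(Y, U.1)) :
    (sqHom I₀).app U.1 (qr (I₀ * I₀) U.1 a) = qr I₀ U.1 a := (exists_sqHom I₀).choose_spec U a

/-- `I/I²` as a module on `Y`. -/
def sqMod : Y.Modules := kernel (sqHom I₀)

theorem exists_qrHom (J : Y.IdealSheafData) : ∃ f : Coh.structureModule Y ⟶ ClSub.quotMod J,
    ∀ (W : Y.Opens) a, f.app W a = qr J W a :=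
  ⟨ClSub.toSubscheme J, fun _ _ => rfl⟩

/-- `I → I/I²`. -/
def sqProj : ClSub.idealMod I₀ ⟶ sqMod I₀ :=
  kernel.lift _ (ClSub.idealModι I₀ ≫ ClSub.toSubscheme (I₀ * I₀)) (AffHom.hom_ext fun U m => by
    show (sqHom I₀).app U.1 (qr (I₀ * I₀) U.1 (val I₀ U.1 m)) = 0
    rw [sqHom_qr, ← qr_zero I₀ U.1, qr_eq_iff, sub_zero]
    exact val_mem I₀ U m)

theorem sqProj_spec (U : Y.Opens) (m : Γ(ClSub.idealMod I₀, U)) :
    (kernel.ι (sqHom I₀)).app U ((sqProj I₀).app U m) = qr (I₀ * I₀) U (val I₀ U m) := by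
  show (kernel.lift _ _ _ ≫ kernel.ι (sqHom I₀)).app U m = _
  rw [kernel.lift_ι]
  rfl

theorem sqMod_injective (U : Y.Opens) : Function.Injective ((kernel.ι (sqHom I₀)).app U) :=
  (app_kernel (sqHom I₀) U).1

theorem sqProj_surjective (U : Y.affineOpens) : Function.Surjective ((sqProj I₀).app U.1) := fun e => by
  obtain ⟨b, hb⟩ := qr_surjective (I₀ * I₀) U ((kernel.ι (sqHom I₀)).app U.1 e)
  have hbI : b ∈ I₀.ideal U := by
    have h1 : (sqHom I₀).app U.1 ((kernel.ι (sqHom I₀)).app U.1 e) = 0 := by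
      rw [← app_comp_apply, kernel.condition]; rfl
    rw [← hb, sqHom_qr, ← qr_zero I₀ U.1, qr_eq_iff, sub_zero] at h1
    exact h1
  obtain ⟨m, hm⟩ := exists_val_eq I₀ U hbI
  exact ⟨m, sqMod_injective I₀ U.1 (by rw [sqProj_spec, hm, hb])⟩

theorem killed_sqMod : ClSub.KilledByIdeal I₀.subschemeι.ker (sqMod I₀) := fun U a ha m => by
  rw [Scheme.IdealSheafData.ker_subschemeι] at ha
  change Γ(sqMod I₀, U.1) at m
  obtain ⟨n, rfl⟩ := sqProj_surjective I₀ U m
  refine sqMod_injective I₀ U.1 ?_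
  rw [map_zero]
  refine (congrArg _ (Scheme.Modules.Hom.app_smul (sqProj I₀) a n).symm).trans ?_
  rw [sqProj_spec, val_smul, ← qr_zero (I₀ * I₀) U.1, qr_eq_iff, sub_zero]
  exact Ideal.mul_mem_mul ha (val_mem I₀ U n)

instance qcoh_quotMod : (ClSub.quotMod I₀).IsQuasicoherent :=
  haveI := Cohom.isQuasicoherent_structureModule I₀.subscheme
  QCoh.isQuasicoherent_pushforward _ _

theorem qcoh_sqMod : (sqMod I₀).IsQuasicoherent := QCoh.isQuasicoherent_kernel _

end Target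

variable {k : Type u} [Field k] {Y : Scheme.{u}} (y : Y ⟶ specPt k) (I₀ : Y.IdealSheafData) {A' A : Art k k}
  (p : A' ⟶ A) (I : (localHilb Y y I₀).obj A)

/-- `m' P + P²`. -/
def K2 : (XA y A').IdealSheafData := Qs y I₀ p I ⊔ Ps y I₀ p I * Ps y I₀ p I

theorem K2_ideal (U : Y.affineOpens) : (K2 y I₀ p I).ideal (chart y A' U) =
    (Qs y I₀ p I).ideal (chart y A' U) ⊔
      (Ps y I₀ p I).ideal (chart y A' U) * (Ps y I₀ p I).ideal (chart y A' U) := by
  rw [K2, Scheme.IdealSheafData.ideal_sup, Pi.sup_apply, Scheme.IdealSheafData.ideal_mul, Pi.mul_apply]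

theorem K2_le (U : Y.affineOpens) : (K2 y I₀ p I).ideal (chart y A' U) ≤ (Ps y I₀ p I).ideal (chart y A' U) := by
  rw [K2_ideal]
  exact sup_le (Qs_le y I₀ p I U) (Ideal.mul_le_left (I := (Ps y I₀ p I).ideal (chart y A' U)))

theorem Qs_le_K2 (U : Y.affineOpens) :
    (Qs y I₀ p I).ideal (chart y A' U) ≤ (K2 y I₀ p I).ideal (chart y A' U) := by
  rw [K2_ideal]
  exact le_sup_left

theorem fibP_mem_sq {U : Y.affineOpens} {z : SR y A' U} (hz : z ∈ (K2 y I₀ p I).ideal (chart y A' U)) :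
    (fibP y A' U).hom z ∈ (I₀ * I₀).ideal U := by
  rw [K2_ideal] at hz
  obtain ⟨q, hq, w, hw, rfl⟩ := Submodule.mem_sup.1 hz
  rw [map_add, fibP_eq_zero_of_Qs y I₀ p I hq, zero_add]
  exact Submodule.mul_induction_on hw
    (fun a ha b hb => by rw [map_mul]; exact Ideal.mul_mem_mul (fibP_mem_of_Ps y I₀ p I ha) (fibP_mem_of_Ps y I₀ p I hb))
    fun a b ha hb => by rw [map_add]; exact add_mem ha hb

theorem exists_r2 : ∃ f : NM y (K2 y I₀ p I) ⟶ ClSub.quotMod (I₀ * I₀),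
    ∀ (U : Y.affineOpens) z, f.app U.1 (mkN y _ U.1 z) = qr (I₀ * I₀) U.1 ((fibP y A' U).hom z) :=
  exists_hom_NM y (K2 y I₀ p I) _ (fun U z => qr (I₀ * I₀) U.1 ((fibP y A' U).hom z))
    (fun U a b => by rw [map_add, qr_add])
    (fun U z hz => by rw [← qr_zero (I₀ * I₀) U.1, qr_eq_iff, sub_zero]; exact fibP_mem_sq y I₀ p I hz)
    (fun U r z => by rw [map_mul, fibP_incI, qr_mul])
    (fun U V h z => by rw [fibP_rs, qr_map])

/-- The extension `P/(m'P + P²)`. -/
abbrev ext2 : Y.Modules := extMod y I₀ p I (K2 y I₀ p I) (K2_le y I₀ p I)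

/-- Its map to `I/I²`. -/
def ext2π : ext2 y I₀ p I ⟶ sqMod I₀ :=
  kernel.lift _ (extι y I₀ p I (K2 y I₀ p I) (K2_le y I₀ p I) ≫ (exists_r2 y I₀ p I).choose)
    (AffHom.hom_ext fun U e => by
      obtain ⟨z, hz, he⟩ := exists_rep y I₀ p I _ (K2_le y I₀ p I) U e
      show (sqHom I₀).app U.1 ((exists_r2 y I₀ p I).choose.app U.1 ((extι y I₀ p I _ _).app U.1 e)) = 0
      rw [he, (exists_r2 y I₀ p I).choose_spec, sqHom_qr, ← qr_zero I₀ U.1, qr_eq_iff, sub_zero]
      exact fibP_mem_of_Ps y I₀ p I hz)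

theorem ext2π_rep {U : Y.affineOpens} {e : Γ(ext2 y I₀ p I, U.1)} {z : SR y A' U}
    (he : (extι y I₀ p I (K2 y I₀ p I) (K2_le y I₀ p I)).app U.1 e = mkN y _ U.1 z) :
    (kernel.ι (sqHom I₀)).app U.1 ((ext2π y I₀ p I).app U.1 e) = qr (I₀ * I₀) U.1 ((fibP y A' U).hom z) := by
  show (kernel.lift _ _ _ ≫ kernel.ι (sqHom I₀)).app U.1 e = _
  rw [kernel.lift_ι, app_comp_apply, he, (exists_r2 y I₀ p I).choose_spec]

section Small

variable {t : A'.carrier} (hp : Function.Surjective p) (ht : RingHom.ker p.toAlgHom = Ideal.span {t}) (ht0 : t ≠ 0)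
  (hmax : ∀ a ∈ IsLocalRing.maximalIdeal A'.carrier, a * t = 0)

/-- `O/I → P/(m'P + P²)`, multiplication by `t`. -/
abbrev ext2i : ClSub.quotMod I₀ ⟶ ext2 y I₀ p I :=
  extInc y I₀ p I hp ht ht0 hmax (K2 y I₀ p I) (K2_le y I₀ p I) (Qs_le_K2 y I₀ p I)

theorem ext2i_ext2π : ext2i y I₀ p I hp ht ht0 hmax ≫ ext2π y I₀ p I = 0 := by
  refine AffHom.hom_ext fun U m => sqMod_injective I₀ U.1 ?_
  obtain ⟨a, rfl⟩ := qr_surjective I₀ U m
  rw [app_comp_apply, ext2π_rep y I₀ p I (extInc_spec y I₀ p I hp ht ht0 hmax _ _ _ U a), app_zero_hom, map_zero,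
    map_mul, fibP_str]
  have : A'.res t = 0 := by
    rw [← res_app p t, show p t = 0 from (RingHom.mem_ker).1 (ht.ge (Ideal.mem_span_singleton_self t)), map_zero]
  rw [this, map_zero, zero_mul, qr_zero]

include hp ht ht0 hmax in
theorem exists_mul_eq {U : Y.affineOpens} {b : Γ(Y, U.1)} (hb : b ∈ (I₀ * I₀).ideal U) :
    ∃ w ∈ (Ps y I₀ p I).ideal (chart y A' U) * (Ps y I₀ p I).ideal (chart y A' U), (fibP y A' U).hom w = b := by
  letI := strAlgebra y A' U
  letI := strAlgebra y A U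
  have hS := isSmallLift y p hp ht ht0 hmax U
  refine Submodule.mul_induction_on (show b ∈ I₀.ideal U * I₀.ideal U from hb) (fun a ha c hc => ?_)
    fun a c ⟨v, hv, ev⟩ ⟨w, hw, ew⟩ => ⟨v + w, add_mem hv hw, by rw [map_add, ev, ew]⟩
  rw [← ideal_incl y I₀ I.1 I.2.2 U] at ha hc
  obtain ⟨z, hz, rfl⟩ := hS.exists_π'_eq ha
  obtain ⟨z', hz', rfl⟩ := hS.exists_π'_eq hc
  exact ⟨z * z', Ideal.mul_mem_mul ((mem_Ps y I₀ p I).2 hz) ((mem_Ps y I₀ p I).2 hz'), map_mul _ _ _⟩

variable (hinj : ∀ (U : Y.affineOpens) (a : Γ(Y, U.1)),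
  tE y (t := t) U * (incI y A' U).hom a ∈ (K2 y I₀ p I).ideal (chart y A' U) → a ∈ I₀.ideal U)

include hinj in
theorem shortExact_ext2 : (ShortComplex.mk _ _ (ext2i_ext2π y I₀ p I hp ht ht0 hmax)).ShortExact := by
  refine shortExact_of_affine _ _ _ (fun U => ?_) (fun U m => ?_) fun U e he => ?_
  all_goals letI := strAlgebra y A' U
  all_goals letI := strAlgebra y A U
  all_goals have hS := isSmallLift y p hp ht ht0 hmax U
  all_goals haveI := flat_SR y A U
  all_goals haveI := flat_quot y I.2.1 U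
  · rw [injective_iff_map_eq_zero]
    intro m hm
    obtain ⟨a, rfl⟩ := qr_surjective I₀ U m
    rw [← qr_zero I₀ U.1, qr_eq_iff, sub_zero]
    refine hinj U a ((mkN_eq_zero_iff y _ U _).1 ?_)
    refine (extInc_spec y I₀ p I hp ht ht0 hmax (K2 y I₀ p I) (K2_le y I₀ p I) (Qs_le_K2 y I₀ p I) U a).symm.trans ?_
    rw [hm, map_zero]
  · obtain ⟨n, rfl⟩ := sqProj_surjective I₀ U m
    have hn := val_mem I₀ U n
    rw [← ideal_incl y I₀ I.1 I.2.2 U] at hn
    obtain ⟨z, hz, hz'⟩ := hS.exists_π'_eq hn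
    obtain ⟨e, he⟩ := exists_extι_eq y I₀ p I _ (K2_le y I₀ p I) ((mem_Ps y I₀ p I).2 hz)
    exact ⟨e, sqMod_injective I₀ U.1 (by rw [ext2π_rep y I₀ p I he, hz', sqProj_spec])⟩
  · obtain ⟨z, hz, hze⟩ := exists_rep y I₀ p I _ (K2_le y I₀ p I) U e
    have h0 := (ext2π_rep y I₀ p I hze).symm.trans (by rw [he, map_zero, ← qr_zero (I₀ * I₀) U.1])
    rw [qr_eq_iff, sub_zero] at h0
    obtain ⟨w, hw, hwb⟩ := exists_mul_eq y I₀ p I hp ht ht0 hmax h0
    have hzw : z - w ∈ (Ps y I₀ p I).ideal (chart y A' U) :=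
      Ideal.sub_mem _ hz (Ideal.mul_le_left (I := (Ps y I₀ p I).ideal (chart y A' U)) hw)
    obtain ⟨r, hr⟩ := hS.exists_sub_mem (I := I.1.ideal (chart y A U)) ((mem_Ps y I₀ p I).1 hzw)
      (by rw [map_sub, hwb, sub_self])
    refine ⟨qr I₀ U.1 ((fibP y A' U).hom r), extι_injective y I₀ p I _ _ U.1 ?_⟩
    rw [extInc_spec, hze, eq_comm, mkN_eq_iff,
      show tE y (t := t) U * (incI y A' U).hom ((fibP y A' U).hom r) = tE y (t := t) U * r from hS.t_mul_iota r,
      show z - tE y (t := t) U * r = (z - w - tE y (t := t) U * r) + w by ring, K2_ideal]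
    exact Submodule.add_mem_sup ((Qs_ideal y I₀ p I U).ge hr) hw

include hp ht ht0 hmax in
theorem killed_ext2 : ClSub.KilledByIdeal I₀.subschemeι.ker (ext2 y I₀ p I) := fun U a ha m => by
  letI := strAlgebra y A' U
  letI := strAlgebra y A U
  have hS := isSmallLift y p hp ht ht0 hmax U
  rw [Scheme.IdealSheafData.ker_subschemeι, ← ideal_incl y I₀ I.1 I.2.2 U] at ha
  change Γ(ext2 y I₀ p I, U.1) at m
  obtain ⟨z, hz, hze⟩ := exists_rep y I₀ p I _ (K2_le y I₀ p I) U m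
  obtain ⟨w, hw, rfl⟩ := hS.exists_π'_eq ha
  refine extι_injective y I₀ p I (K2 y I₀ p I) (K2_le y I₀ p I) U.1 ?_
  rw [map_zero]
  refine (Scheme.Modules.Hom.app_smul (extι y I₀ p I (K2 y I₀ p I) (K2_le y I₀ p I)) _ m).trans ?_
  rw [hze, mkN_smul, mkN_eq_zero_iff,
    show (incI y A' U).hom ((fibP y A' U).hom w) * z =
      ((incI y A' U).hom ((fibP y A' U).hom w) * z - w * z) + w * z by ring]
  refine Ideal.add_mem _ (mul_sub_mem y I₀ p I _ (Qs_le_K2 y I₀ p I) hz w) ?_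
  rw [K2_ideal]
  exact Ideal.mem_sup_right (Ideal.mul_mem_mul ((mem_Ps y I₀ p I).2 hw) hz)

theorem qcoh_NM (K : (XA y A').IdealSheafData) : (NM y K).IsQuasicoherent :=
  QCoh.isQuasicoherent_pushforward _ (ClSub.quotMod K)

theorem qcoh_ext2 : (ext2 y I₀ p I).IsQuasicoherent :=
  haveI := qcoh_NM y (K2 y I₀ p I)
  haveI := qcoh_NM y (Ps y I₀ p I)
  QCoh.isQuasicoherent_kernel _

include hp ht ht0 hmax in
theorem app_eq_zero_of_sq (σ : ClSub.idealMod I₀ ⟶ ext2 y I₀ p I) {U : Y.affineOpens}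
    {m : Γ(ClSub.idealMod I₀, U.1)} (hm : val I₀ U.1 m ∈ (I₀ * I₀).ideal U) : σ.app U.1 m = 0 := by
  have key : ∀ b ∈ I₀.ideal U * I₀.ideal U, ∃ n, val I₀ U.1 n = b ∧ σ.app U.1 n = 0 := fun b hb => by
    refine Submodule.mul_induction_on hb (fun a ha c hc => ?_) fun a c ⟨n, hn, en⟩ ⟨n', hn', en'⟩ =>
      ⟨n + n', (map_add ((ClSub.idealModι I₀).app U.1).hom n n').trans (congrArg₂ (· + ·) hn hn'),
        by rw [map_add, en, en', add_zero]⟩
    obtain ⟨n, rfl⟩ := exists_val_eq I₀ U hc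
    refine ⟨a • n, val_smul I₀ U.1 a n, ?_⟩
    rw [Scheme.Modules.Hom.app_smul]
    exact killed_ext2 y I₀ p I hp ht ht0 hmax U a (by rwa [Scheme.IdealSheafData.ker_subschemeι]) _
  obtain ⟨n, hn, en⟩ := key _ hm
  rwa [← val_injective I₀ U.1 hn]

include hinj in
theorem exists_lift_of_sigma (σ : ClSub.idealMod I₀ ⟶ ext2 y I₀ p I)
    (hσ : σ ≫ ext2π y I₀ p I = sqProj I₀) (hp : Function.Surjective p)
    (ht : RingHom.ker p.toAlgHom = Ideal.span {t}) (ht0 : t ≠ 0)
    (hmax : ∀ a ∈ IsLocalRing.maximalIdeal A'.carrier, a * t = 0) :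
    ∃ I' : (localHilb Y y I₀).obj A', (localHilb Y y I₀).map p I' = I := by
  refine exists_lift_of_section y I₀ p I _ (K2_le y I₀ p I) (Qs_le_K2 y I₀ p I) σ hp ht ht0 hmax hinj
    (fun U m => ?_) fun U m z hz hm => app_eq_zero_of_sq y I₀ p I hp ht ht0 hmax σ (hm ▸ fibP_mem_sq y I₀ p I hz)
  obtain ⟨z, hz, he⟩ := exists_rep y I₀ p I _ (K2_le y I₀ p I) U (σ.app U.1 m)
  have h1 : qr (I₀ * I₀) U.1 ((fibP y A' U).hom z) = qr (I₀ * I₀) U.1 (val I₀ U.1 m) := by
    rw [← ext2π_rep y I₀ p I he, ← app_comp_apply, hσ, sqProj_spec]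
  obtain ⟨w, hw, hwb⟩ := exists_mul_eq y I₀ p I hp ht ht0 hmax ((qr_eq_iff _ U _ _).1 h1)
  refine ⟨z - w, Ideal.sub_mem _ hz (Ideal.mul_le_left (I := (Ps y I₀ p I).ideal (chart y A' U)) hw), ?_,
    by rw [map_sub, hwb]; ring⟩
  rw [he, mkN_eq_iff, sub_sub_cancel, K2_ideal]
  exact Ideal.mem_sup_right hw

end Small

section Local

variable (hloc : ∀ z : I₀.subscheme, ∃ U : Y.affineOpens, I₀.subschemeι z ∈ U.1 ∧
  ∃ J : Ideal (SR y A' U), J.map (res y p U).hom = I.1.ideal (chart y A U) ∧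
    ((Ideal.Quotient.mk J).comp (str y A' U).hom).Flat)

include hloc in
theorem hinj_of_local {t : A'.carrier} (hp : Function.Surjective p) (ht : RingHom.ker p.toAlgHom = Ideal.span {t})
    (ht0 : t ≠ 0) (hmax : ∀ a ∈ IsLocalRing.maximalIdeal A'.carrier, a * t = 0)
    (V : Y.affineOpens) (a : Γ(Y, V.1))
    (ha : tE y (t := t) V * (incI y A' V).hom a ∈ (K2 y I₀ p I).ideal (chart y A' V)) : a ∈ I₀.ideal V := by
  have h0 : qr I₀ V.1 a = 0 := by
    refine QCoh.section_eq_zero_of_germ (Coh.structureModule I₀.subscheme) (U := I₀.subschemeι ⁻¹ᵁ V.1)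
      (qr I₀ V.1 a) fun x hx => ?_
    obtain ⟨U, hxU, J, hJ, hflat⟩ := hloc x
    obtain ⟨W₀, hW, hxW, hle⟩ := TopologicalSpace.Opens.isBasis_iff_nbhd.1 Y.isBasis_affineOpens
      (show I₀.subschemeι x ∈ U.1 ⊓ V.1 from ⟨hxU, hx⟩)
    let W : Y.affineOpens := ⟨W₀, hW⟩
    have hWV : W.1 ≤ V.1 := hle.trans inf_le_right
    have hWU : W.1 ≤ U.1 := hle.trans inf_le_left
    letI := strAlgebra y A' U
    letI := strAlgebra y A' W
    letI := strAlgebra y A W
    letI : Algebra (SR y A' U) (SR y A' W) := (rs y A' hWU).hom.toAlgebra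
    haveI : IsScalarTower A'.carrier (SR y A' U) (SR y A' W) :=
      .of_algebraMap_eq fun c => (ConcreteCategory.congr_hom (str_map y A' hWU) c).symm
    haveI : Module.Flat (SR y A' U) (SR y A' W) :=
      RingHom.flat_algebraMap_iff.1 (by
        have := Scheme.Hom.flat_appLE (𝟙 (XA y A')) (chart y A' U).2 (chart y A' W).2
          ((pullback.fst y (specOver A')).preimage_mono hWU)
        rwa [show Scheme.Hom.appLE (𝟙 (XA y A')) (chart y A' U).1 (chart y A' W).1
          ((pullback.fst y (specOver A')).preimage_mono hWU) = rs y A' hWU by simp [Scheme.Hom.appLE]] at this)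
    haveI : Module.Flat A'.carrier (SR y A' U ⧸ J) := RingHom.flat_algebraMap_iff.1 hflat
    haveI := flat_quotient_map (A := A'.carrier) (S := SR y A' W) J
    have hS := isSmallLift y p hp ht ht0 hmax W
    have hJW : (J.map (rs y A' hWU).hom).map (res y p W).hom = I.1.ideal (chart y A W) := by
      rw [Ideal.map_map, show (res y p W).hom.comp (rs y A' hWU).hom = (rs y A hWU).hom.comp (res y p U).hom from
        congrArg CommRingCat.Hom.hom (res_map y p hWU).symm, ← Ideal.map_map, hJ]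
      exact I.1.map_ideal ((pullback.fst y (specOver A)).preimage_mono hWU)
    have hW' : tE y (t := t) W * (incI y A' W).hom (Y.presheaf.map (homOfLE hWV).op a) ∈
        (K2 y I₀ p I).ideal (chart y A' W) := by
      have := (K2 y I₀ p I).ideal_le_comap_ideal (U := chart y A' W) (V := chart y A' V)
        ((pullback.fst y (specOver A')).preimage_mono hWV) ha
      rw [Ideal.mem_comap] at this
      rw [← incI_rs y hWV a, show tE y (t := t) W = (rs y A' hWV).hom (tE y (t := t) V) from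
        (ConcreteCategory.congr_hom (str_map y A' hWV) t).symm, ← map_mul]
      exact this
    rw [K2_ideal, Qs_ideal, Ps_ideal] at hW'
    have hmem := hS.mem_of_t_mul_mem_of_lift (J := J.map (rs y A' hWU).hom) hJW hW'
    rw [ideal_incl y I₀ I.1 I.2.2 W] at hmem
    have hq : qr I₀ W.1 (Y.presheaf.map (homOfLE hWV).op a) = 0 := by
      rw [← qr_zero I₀ W.1, qr_eq_iff, sub_zero]; exact hmem
    rw [← qr_map I₀ hWV a] at hq
    have := QCoh.germ_map (Coh.structureModule I₀.subscheme)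
      (homOfLE ((I₀.subschemeι).preimage_mono hWV)) (x := x) hxW (qr I₀ V.1 a)
    rw [← this]
    exact (congrArg _ hq).trans (map_zero _)
  rw [← qr_zero I₀ V.1, qr_eq_iff, sub_zero] at h0
  exact h0

include hloc in
/-- Local lifts and vanishing `Ext¹` of the conormal sheaf give a lift. -/
theorem exists_lift_of_subsingleton_ext_conormal (hp : Art.IsSmallExt p) [HasExt.{u} I₀.subscheme.Modules]
    (h1 : Subsingleton (Abelian.Ext.{u} (Omega.conormal I₀.subschemeι) (Coh.structureModule I₀.subscheme) 1)) :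
    ∃ I' : (localHilb Y y I₀).obj A', (localHilb Y y I₀).map p I' = I := by
  obtain ⟨t, ht, ht0, hmax, -⟩ := GrothLib.ArtFun.smallExt_exists_gen hp
  have hinj := hinj_of_local y I₀ p I hloc hp.1 ht ht0 hmax
  have hS := shortExact_ext2 y I₀ p I hp.1 ht ht0 hmax hinj
  let i := I₀.subschemeι
  let adj := Scheme.Modules.pullbackPushforwardAdjunction i
  haveI := qcoh_ext2 y I₀ p I
  haveI := qcoh_sqMod I₀
  haveI e1 : IsIso (adj.unit.app (ClSub.quotMod I₀)) :=
    QCoh.isIso_unit_of_killed i _ (K0Sub.killedByIdeal_push i _)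
  haveI e2 : IsIso (adj.unit.app (ext2 y I₀ p I)) :=
    QCoh.isIso_unit_of_killed i _ (killed_ext2 y I₀ p I hp.1 ht ht0 hmax)
  haveI e3 : IsIso (adj.unit.app (sqMod I₀)) := QCoh.isIso_unit_of_killed i _ (killed_sqMod I₀)
  haveI := K0Sub.faithful_push i
  obtain ⟨_, _, _⟩ := K0Sub.pushforward_exact i
  haveI : (Scheme.Modules.pullback i).Additive := adj.left_adjoint_additive
  let S := ShortComplex.mk _ _ (ext2i_ext2π y I₀ p I hp.1 ht ht0 hmax)
  have hT : ((S.map (Scheme.Modules.pullback i)).map (Scheme.Modules.pushforward i)).ShortExact :=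
    ShortComplex.shortExact_of_iso (ShortComplex.isoMk
      (@asIso _ _ _ _ _ e1) (@asIso _ _ _ _ _ e2) (@asIso _ _ _ _ _ e3)
      (adj.unit.naturality S.f).symm (adj.unit.naturality S.g).symm) hS
  haveI : Mono ((S.map (Scheme.Modules.pullback i)).f) :=
    (Scheme.Modules.pushforward i).mono_of_mono_map hT.mono_f
  haveI : Epi ((S.map (Scheme.Modules.pullback i)).g) :=
    (Scheme.Modules.pushforward i).epi_of_epi_map hT.epi_g
  have hX : (S.map (Scheme.Modules.pullback i)).ShortExact :=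
    { exact := ((S.map (Scheme.Modules.pullback i)).exact_map_iff_of_faithful
        (Scheme.Modules.pushforward i)).mp hT.exact }
  haveI hc : IsIso (adj.counit.app (Coh.structureModule I₀.subscheme)) := by
    haveI : IsIso ((Scheme.Modules.pushforward i).map (adj.counit.app (Coh.structureModule I₀.subscheme))) := by
      rw [show (Scheme.Modules.pushforward i).map (adj.counit.app (Coh.structureModule I₀.subscheme)) =
        inv (adj.unit.app (ClSub.quotMod I₀)) from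
          IsIso.eq_inv_of_hom_inv_id (adj.right_triangle_components (Coh.structureModule I₀.subscheme))]
      infer_instance
    exact K0Sub.isIso_of_isIso_push i _
  let src := (Scheme.Modules.pullback i).obj (ClSub.idealMod I₀)
  have hsub : Subsingleton (Abelian.Ext.{u} src (S.map (Scheme.Modules.pullback i)).X₁ 1) := by
    have e : Omega.conormal I₀.subschemeι = src := by rw [Omega.conormal, Scheme.IdealSheafData.ker_subschemeι]
    rw [e] at h1
    refine ⟨fun a b => ?_⟩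
    have hinjv : Function.Injective fun x : Abelian.Ext.{u} src (S.map (Scheme.Modules.pullback i)).X₁ 1 =>
        x.comp (Abelian.Ext.mk₀ (adj.counit.app (Coh.structureModule I₀.subscheme))) (add_zero 1) := by
      intro x x' e'
      have := congrArg (fun z => z.comp (Abelian.Ext.mk₀ (inv (adj.counit.app (Coh.structureModule I₀.subscheme))))
        (add_zero 1)) e'
      simpa using this
    exact hinjv (@Subsingleton.elim _ h1 _ _)
  obtain ⟨x₂, hx₂⟩ := Abelian.Ext.covariant_sequence_exact₃ src hX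
    (Abelian.Ext.mk₀ ((Scheme.Modules.pullback i).map (sqProj I₀))) (show 0 + 1 = 1 from rfl) (Subsingleton.elim _ _)
  obtain ⟨s, rfl⟩ := (Abelian.Ext.mk₀_bijective _ _).2 x₂
  rw [Abelian.Ext.mk₀_comp_mk₀] at hx₂
  have hs : s ≫ (Scheme.Modules.pullback i).map (ext2π y I₀ p I) = (Scheme.Modules.pullback i).map (sqProj I₀) :=
    (Abelian.Ext.mk₀_bijective _ _).1 hx₂
  refine exists_lift_of_sigma y I₀ p I hinj
    (adj.unit.app (ClSub.idealMod I₀) ≫ (Scheme.Modules.pushforward i).map s ≫ @inv _ _ _ _ (adj.unit.app (ext2 y I₀ p I)) e2)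
    ?_ hp.1 ht ht0 hmax
  refine (cancel_mono (adj.unit.app (sqMod I₀))).1 ?_
  simp only [Category.assoc]
  rw [show ext2π y I₀ p I ≫ adj.unit.app (sqMod I₀) = adj.unit.app (ext2 y I₀ p I) ≫
    (Scheme.Modules.pushforward i).map ((Scheme.Modules.pullback i).map (ext2π y I₀ p I)) from
      adj.unit.naturality (ext2π y I₀ p I), IsIso.inv_hom_id_assoc, ← Functor.map_comp, hs]
  exact (adj.unit.naturality (sqProj I₀)).symm

end Local

end GrothLib.LocalHilb26
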