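import Mathlib.RingTheory.Flat.Tensor
import Mathlib.Algebra.DualNumber
import Mathlib.RingTheory.IsTensorProduct
import Mathlib.LinearAlgebra.TensorProduct.RightExactness
import Mathlib.RingTheory.Ideal.Quotient.Operations
import Mathlib.Tactic.Ring
import Mathlib.Tactic.LinearCombination

/-!
# First-order deformations of an ideal

`D = R ⊕ εR`; ideals of `D` lifting `I ⊆ R` with quotient flat over the dual numbers are linear maps `I → R/I`.
-/

set_option autoImplicit false
universe u

open TensorProduct DualNumber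

namespace GrothLib.LocalHilb26

variable {R D : Type u} [CommRing R] [CommRing D]

/-- `D = R ⊕ εR` with `ε² = 0`. -/
structure IsDual (ι : R →+* D) (π : D →+* R) (e : D) : Prop where
  sq : e * e = 0
  retr : ∀ r, π (ι r) = r
  pi_e : π e = 0
  decomp : ∀ z, ∃ b, z = ι (π z) + e * ι b
  inj : ∀ b, e * ι b = 0 → b = 0

namespace IsDual

variable {ι : R →+* D} {π : D →+* R} {e : D} (h : IsDual ι π e)
include h

theorem eq_of_mul_eq {a b : R} (he : e * ι a = e * ι b) : a = b :=
  sub_eq_zero.1 (h.inj _ (by rw [map_sub, mul_sub, he, sub_self]))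

theorem e_mul (z : D) : e * z = e * ι (π z) := by
  obtain ⟨b, hb⟩ := h.decomp z
  conv_lhs => rw [hb, mul_add, ← mul_assoc, h.sq, zero_mul, add_zero]

/-- The `ε`-coefficient. -/
noncomputable def coef (z : D) : R := (h.decomp z).choose

theorem coef_spec (z : D) : z = ι (π z) + e * ι (h.coef z) := (h.decomp z).choose_spec

theorem coef_eq {z : D} {a b : R} (hz : z = ι a + e * ι b) : π z = a ∧ h.coef z = b := by
  have ha : π z = a := by rw [hz, map_add, map_mul, h.pi_e, zero_mul, add_zero, h.retr]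
  refine ⟨ha, h.eq_of_mul_eq (add_left_cancel (a := ι a) ?_)⟩
  rw [← hz]
  conv_rhs => rw [h.coef_spec z, ha]

theorem coef_add (z w : D) : h.coef (z + w) = h.coef z + h.coef w :=
  (h.coef_eq (a := π z + π w) (by
    conv_lhs => rw [h.coef_spec z, h.coef_spec w]
    rw [map_add ι, map_add ι]; ring)).2

theorem coef_mul (z w : D) : h.coef (z * w) = π z * h.coef w + π w * h.coef z :=
  (h.coef_eq (a := π z * π w) (by
    conv_lhs => rw [h.coef_spec z, h.coef_spec w]
    rw [map_add ι, map_mul ι, map_mul ι, map_mul ι]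
    linear_combination (ι (h.coef z) * ι (h.coef w)) * h.sq)).2

theorem coef_iota (a : R) : h.coef (ι a) = 0 := (h.coef_eq (a := a) (by simp)).2

theorem coef_zero : h.coef 0 = 0 := by rw [← map_zero ι, h.coef_iota]

theorem coef_e_mul (z : D) : h.coef (e * z) = π z :=
  (h.coef_eq (a := 0) (b := π z) (by rw [map_zero, zero_add]; exact h.e_mul z)).2

/-- The value of the map attached to `J` is well defined. -/
theorem sub_coef_mem {I : Ideal R} {J : Ideal D} (hmap : J.map π = I)
    (hann : ∀ z, e * z ∈ J → ∃ w, z - e * w ∈ J) {z z' : D} (hz : z ∈ J) (hz' : z' ∈ J) (he : π z = π z') :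
    h.coef z - h.coef z' ∈ I := by
  have hd : e * ι (h.coef z - h.coef z') ∈ J := by
    have : z - z' = e * ι (h.coef z - h.coef z') := by
      have e1 := h.coef_spec z
      have e2 := h.coef_spec z'
      rw [← he] at e2
      rw [map_sub]
      linear_combination e1 - e2
    rw [← this]; exact J.sub_mem hz hz'
  obtain ⟨w, hw⟩ := hann _ hd
  have := Ideal.mem_map_of_mem π hw
  rwa [hmap, map_sub, map_mul, h.pi_e, zero_mul, sub_zero, h.retr] at this

theorem exists_lift {I : Ideal R} {J : Ideal D} (hmap : J.map π = I) {a : R} (ha : a ∈ I) :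
    ∃ z ∈ J, π z = a :=
  (Ideal.mem_map_iff_of_surjective _ (fun r => ⟨ι r, h.retr r⟩)).1 (hmap ▸ ha)

theorem e_mul_mem {I : Ideal R} {J : Ideal D} (hmap : J.map π = I) {b : R} (hb : b ∈ I) : e * ι b ∈ J := by
  obtain ⟨z, hz, rfl⟩ := h.exists_lift hmap hb
  rw [← h.e_mul]
  exact J.mul_mem_left _ hz

/-- The ideal is recovered from the map. -/
theorem mem_iff {I : Ideal R} {J : Ideal D} (hmap : J.map π = I)
    (hann : ∀ z, e * z ∈ J → ∃ w, z - e * w ∈ J) (z : D) :
    z ∈ J ↔ π z ∈ I ∧ ∀ z' ∈ J, π z' = π z → h.coef z - h.coef z' ∈ I := by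
  refine ⟨fun hz => ⟨hmap ▸ Ideal.mem_map_of_mem π hz, fun z' hz' e => h.sub_coef_mem hmap hann hz hz' e.symm⟩,
    fun ⟨ha, hc⟩ => ?_⟩
  obtain ⟨z', hz', he⟩ := h.exists_lift hmap ha
  have : z = z' + e * ι (h.coef z - h.coef z') := by
    have e1 := h.coef_spec z
    have e2 := h.coef_spec z'
    rw [he] at e2
    rw [map_sub]
    linear_combination e1 - e2
  rw [this]
  exact J.add_mem hz' (h.e_mul_mem hmap (hc z' hz' he))

/-- The ideal attached to a linear map `I → R/I`. -/
def ofMap (I : Ideal R) (φ : I →ₗ[R] R ⧸ I) : Ideal D where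
  carrier := {z | ∃ ha : π z ∈ I, φ ⟨π z, ha⟩ = Ideal.Quotient.mk I (h.coef z)}
  zero_mem' := ⟨by simp, (congrArg φ (Subtype.ext (map_zero π))).trans ((map_zero φ).trans
    (by rw [h.coef_zero, map_zero]))⟩
  add_mem' := fun {z w} ⟨hz, ez⟩ ⟨hw, ew⟩ => ⟨by rw [map_add]; exact I.add_mem hz hw,
    (congrArg φ (Subtype.ext (map_add π z w) : (⟨π (z + w), _⟩ : I) = ⟨π z, hz⟩ + ⟨π w, hw⟩)).trans
      ((map_add φ _ _).trans (by rw [h.coef_add, map_add (Ideal.Quotient.mk I), ez, ew]))⟩
  smul_mem' := fun c z ⟨hz, ez⟩ => ⟨by rw [smul_eq_mul, map_mul]; exact I.mul_mem_left _ hz,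
    (congrArg φ (Subtype.ext (map_mul π c z) : (⟨π (c • z), _⟩ : I) = π c • ⟨π z, hz⟩)).trans
      ((map_smul φ _ _).trans (by
        rw [smul_eq_mul, h.coef_mul, map_add (Ideal.Quotient.mk I), map_mul (Ideal.Quotient.mk I),
          map_mul (Ideal.Quotient.mk I), Ideal.Quotient.eq_zero_iff_mem.2 hz, zero_mul, add_zero, ez]
        rfl))⟩

theorem mem_ofMap {I : Ideal R} {φ : I →ₗ[R] R ⧸ I} {z : D} :
    z ∈ h.ofMap I φ ↔ ∃ ha : π z ∈ I, φ ⟨π z, ha⟩ = Ideal.Quotient.mk I (h.coef z) := Iff.rfl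

theorem map_ofMap (I : Ideal R) (φ : I →ₗ[R] R ⧸ I) : (h.ofMap I φ).map π = I := by
  refine le_antisymm (Ideal.map_le_iff_le_comap.2 fun z hz => hz.1) fun a ha => ?_
  obtain ⟨b, hb⟩ := Ideal.Quotient.mk_surjective (φ ⟨a, ha⟩)
  obtain ⟨e1, e2⟩ := h.coef_eq (z := ι a + e * ι b) rfl
  rw [← e1]
  refine Ideal.mem_map_of_mem π ⟨by rw [e1]; exact ha, ?_⟩
  rw [e2, hb]
  exact congrArg φ (Subtype.ext e1)

theorem ann_ofMap (I : Ideal R) (φ : I →ₗ[R] R ⧸ I) (z : D) (hz : e * z ∈ h.ofMap I φ) :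
    ∃ w, z - e * w ∈ h.ofMap I φ := by
  obtain ⟨ha, he⟩ := hz
  have h0 : π (e * z) = 0 := by rw [map_mul, h.pi_e, zero_mul]
  rw [h.coef_e_mul, show (⟨π (e * z), ha⟩ : I) = 0 from Subtype.ext h0, map_zero] at he
  have hI : π z ∈ I := Ideal.Quotient.eq_zero_iff_mem.1 he.symm
  obtain ⟨b, hb⟩ := Ideal.Quotient.mk_surjective (φ ⟨π z, hI⟩)
  refine ⟨ι (h.coef z - b), ?_⟩
  obtain ⟨e1, e2⟩ := h.coef_eq (z := z - e * ι (h.coef z - b)) (a := π z) (b := b) (by
    conv_lhs => arg 1; rw [h.coef_spec z]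
    rw [map_sub]; ring)
  exact ⟨by rw [e1]; exact hI, by rw [e2, hb]; exact congrArg φ (Subtype.ext e1)⟩

end IsDual

section Flat

variable {k : Type u} [Field k] {M : Type u} [AddCommGroup M] [Module (DualNumber k) M]

theorem exists_eq_eps_smul [Module.Flat (DualNumber k) M] {m : M} (hm : (ε : DualNumber k) • m = 0) :
    ∃ m', m = (ε : DualNumber k) • m' := by
  let f : DualNumber k →ₗ[DualNumber k] DualNumber k := LinearMap.mulLeft (DualNumber k) ε
  have hex : Function.Exact f f := fun a => by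
    refine ⟨fun ha => ⟨TrivSqZeroExt.inl (TrivSqZeroExt.snd a), ?_⟩, ?_⟩
    · have h0 : TrivSqZeroExt.fst a = 0 := by
        have := congrArg TrivSqZeroExt.snd ha
        simpa [f] using this
      show ε * _ = a
      ext <;> simp [h0]
    · rintro ⟨b, rfl⟩
      show ε * (ε * b) = 0
      rw [← mul_assoc, eps_mul_eps, zero_mul]
  have := Module.Flat.rTensor_exact M hex
  obtain ⟨y, hy⟩ := (this ((1 : DualNumber k) ⊗ₜ m)).1 (by
    rw [LinearMap.rTensor_tmul]
    rw [show f 1 = (ε : DualNumber k) • (1 : DualNumber k) from rfl, smul_tmul, hm, tmul_zero])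
  refine ⟨TensorProduct.lid _ _ y, ?_⟩
  have e := congrArg (TensorProduct.lid (DualNumber k) M) hy
  rw [TensorProduct.lid_tmul, one_smul] at e
  rw [← e]
  clear e hy
  induction y with
  | zero => simp
  | tmul a b => simp [f, mul_smul]
  | add a b ha hb => rw [map_add, map_add, ha, hb, map_add, smul_add]

theorem flat_of_eps (hM : ∀ m : M, (ε : DualNumber k) • m = 0 → ∃ m', m = (ε : DualNumber k) • m') :
    Module.Flat (DualNumber k) M := by
  refine Module.Flat.iff_rTensor_injective'.mpr fun J => (injective_iff_map_eq_zero _).mpr fun x hx => ?_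
  by_cases hJ : ∃ a ∈ J, TrivSqZeroExt.fst a ≠ 0
  · obtain ⟨a, ha, ha'⟩ := hJ
    have hu : IsUnit a := TrivSqZeroExt.isUnit_iff_isUnit_fst.2 (isUnit_iff_ne_zero.2 ha')
    obtain rfl : J = ⊤ := Ideal.eq_top_of_isUnit_mem J ha hu
    have hb : Function.Bijective ((⊤ : Ideal (DualNumber k)).subtype) :=
      ⟨Subtype.val_injective, fun z => ⟨⟨z, trivial⟩, rfl⟩⟩
    exact ((LinearEquiv.ofBijective _ hb).rTensor M).injective (hx.trans (map_zero _).symm)
  push_neg at hJ
  by_cases h0 : J = ⊥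
  · subst h0
    clear hx
    induction x with
    | zero => rfl
    | tmul a b => rw [show a = 0 from Subsingleton.elim _ _, zero_tmul]
    | add a b ha hb => rw [ha, hb, add_zero]
  have hε : (ε : DualNumber k) ∈ J := by
    obtain ⟨a, ha, ha0⟩ := Submodule.exists_mem_ne_zero_of_ne_bot h0
    have hs : TrivSqZeroExt.snd a ≠ 0 := fun e => ha0 (TrivSqZeroExt.ext (hJ a ha) e)
    have : (ε : DualNumber k) = TrivSqZeroExt.inl (TrivSqZeroExt.snd a)⁻¹ * a := by
      ext
      · simp [hJ a ha]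
      · simp [inv_mul_cancel₀ hs]
    rw [this]; exact J.mul_mem_left _ ha
  obtain ⟨m, rfl⟩ : ∃ m, (⟨ε, hε⟩ : J) ⊗ₜ[DualNumber k] m = x := by
    clear hx
    induction x with
    | zero => exact ⟨0, tmul_zero _ _⟩
    | tmul a b =>
      refine ⟨(TrivSqZeroExt.inl (TrivSqZeroExt.snd (a : DualNumber k)) : DualNumber k) • b, ?_⟩
      rw [← smul_tmul]
      congr 1
      refine Subtype.ext ?_
      show TrivSqZeroExt.inl _ * ε = (a : DualNumber k)
      ext
      · simp [hJ a a.2]
      · simp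
    | add a b ha hb =>
      obtain ⟨m, hm⟩ := ha
      obtain ⟨m', hm'⟩ := hb
      exact ⟨m + m', by rw [tmul_add, hm, hm']⟩
  have hm : (ε : DualNumber k) • m = 0 := by
    have := congrArg (TensorProduct.lid (DualNumber k) M) hx
    simpa using this
  obtain ⟨m', rfl⟩ := hM m hm
  rw [← smul_tmul, show (ε : DualNumber k) • (⟨ε, hε⟩ : J) = 0 from Subtype.ext eps_mul_eps, zero_tmul]

end Flat

/-- A pushout of `k[ε]` is `R ⊕ εR`. -/
theorem isDual_of_isPushout {k : Type u} [Field k] [Algebra k R] [Algebra (DualNumber k) D] [Algebra R D]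
    [Algebra k D] [IsScalarTower k (DualNumber k) D] [IsScalarTower k R D] [Algebra.IsPushout k (DualNumber k) R D]
    (π : D →+* R) (hπ : ∀ r, π (algebraMap R D r) = r)
    (hπe : π (algebraMap (DualNumber k) D ε) = 0) :
    IsDual (algebraMap R D) π (algebraMap (DualNumber k) D ε) := by
  let p := Algebra.IsPushout.equiv k (DualNumber k) R D
  have hp : ∀ (d : DualNumber k) (r : R), p (d ⊗ₜ r) = algebraMap (DualNumber k) D d * algebraMap R D r := fun d r => by
    rw [Algebra.IsPushout.equiv_tmul]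
  let s : DualNumber k →ₗ[k] k :=
    { toFun := TrivSqZeroExt.snd
      map_add' := fun _ _ => rfl
      map_smul' := fun _ _ => rfl }
  have hsq : algebraMap (DualNumber k) D ε * algebraMap (DualNumber k) D ε = 0 := by
    rw [← map_mul, eps_mul_eps, map_zero]
  have hdec : ∀ x, ∃ a b, p x = algebraMap R D a + algebraMap (DualNumber k) D ε * algebraMap R D b := by
    intro x
    induction x with
    | zero => exact ⟨0, 0, by simp⟩
    | tmul d r =>
      refine ⟨TrivSqZeroExt.fst d • r, TrivSqZeroExt.snd d • r, ?_⟩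
      have hd : d = algebraMap k (DualNumber k) (TrivSqZeroExt.fst d) +
          ε * algebraMap k (DualNumber k) (TrivSqZeroExt.snd d) := by
        ext <;> simp [TrivSqZeroExt.algebraMap_eq_inl]
      rw [hp]
      conv_lhs => rw [hd]
      rw [Algebra.smul_def, Algebra.smul_def, map_mul (algebraMap R D), map_mul (algebraMap R D),
        map_add, map_mul (algebraMap (DualNumber k) D), ← IsScalarTower.algebraMap_apply k (DualNumber k) D,
        ← IsScalarTower.algebraMap_apply k (DualNumber k) D, ← IsScalarTower.algebraMap_apply k R D,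
        ← IsScalarTower.algebraMap_apply k R D]
      ring
    | add x y hx hy =>
      obtain ⟨a, b, ha⟩ := hx
      obtain ⟨a', b', hb⟩ := hy
      exact ⟨a + a', b + b', by rw [map_add, ha, hb, map_add (algebraMap R D), map_add (algebraMap R D)]; ring⟩
  refine ⟨hsq, hπ, hπe, fun z => ?_, fun b hb => ?_⟩
  · obtain ⟨x, rfl⟩ := p.surjective z
    obtain ⟨a, b, hab⟩ := hdec x
    refine ⟨b, ?_⟩
    rw [show π (p x) = a from by rw [hab, map_add, map_mul, hπe, zero_mul, add_zero, hπ]]
    exact hab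
  · have h1 : p ((ε : DualNumber k) ⊗ₜ b) = 0 := by rw [hp]; exact hb
    have h2 := congrArg (fun t => TensorProduct.lid k R (s.rTensor R t)) (p.injective (h1.trans (map_zero p).symm))
    simpa [s] using h2

end GrothLib.LocalHilb26
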