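import Groth.Agent.Lib.LocalHilb26.Geo
import Groth.Agent.Lib.LocalHilb26.DualAlg
import Groth.Prelude.Def_ArtFun2
import Mathlib.RingTheory.RingHom.Flat
import Mathlib.RingTheory.Localization.Basic
import Mathlib.Algebra.Category.Ring.Constructions

/-!
# The charts of `Y ×_k Spec k[ε]`
-/

set_option autoImplicit false
set_option backward.isDefEq.respectTransparency false
universe u

noncomputable section

open CategoryTheory CategoryTheory.Limits AlgebraicGeometry

namespace GrothLib.LocalHilb26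

open ArtFun ArtFun.Art DualNumber

variable {k : Type u} [Field k] {Y : Scheme.{u}} (y : Y ⟶ specPt k)

/-- The structure map of an affine open of `Y`. -/
def strY (U : Y.affineOpens) : CommRingCat.of k ⟶ Γ(Y, U.1) :=
  (Scheme.ΓSpecIso _).inv ≫ y.appLE ⊤ U.1 le_top

/-- Pull back functions from `Y`. -/
def incI (A : Art k k) (U : Y.affineOpens) : Γ(Y, U.1) ⟶ Γ(XA y A, (chart y A U).1) :=
  (pullback.fst y (specOver A)).appLE _ _ le_rfl

theorem incl_preim (A : Art k k) (U : Y.Opens) : XAincl y A ⁻¹ᵁ preim y A U = U := by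
  show XAincl y A ⁻¹ᵁ (pullback.fst y (specOver A) ⁻¹ᵁ U) = U
  rw [← Scheme.Hom.comp_preimage, XAincl_fst]
  rfl

/-- Restrict functions to the closed fibre. -/
def fibP (A : Art k k) (U : Y.affineOpens) : Γ(XA y A, (chart y A U).1) ⟶ Γ(Y, U.1) :=
  (XAincl y A).appLE _ _ (incl_preim y A U.1).ge

theorem incI_fibP (A : Art k k) (U : Y.affineOpens) : incI y A U ≫ fibP y A U = 𝟙 _ := by
  rw [incI, fibP, Scheme.Hom.appLE_comp_appLE]
  simp only [XAincl_fst]
  simp [Scheme.Hom.appLE]
  erw [CategoryTheory.Functor.map_id]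
  rfl

theorem incI_res {A B : Art k k} (g : A ⟶ B) (U : Y.affineOpens) : incI y A U ≫ res y g U = incI y B U := by
  rw [incI, res, incI, Scheme.Hom.appLE_comp_appLE]
  simp only [XAmap_fst]

theorem res_fibP {A B : Art k k} (g : A ⟶ B) (U : Y.affineOpens) : res y g U ≫ fibP y B U = fibP y A U := by
  rw [res, fibP, fibP, Scheme.Hom.appLE_comp_appLE]
  simp only [XAincl_XAmap]

theorem str_fibP (A : Art k k) (U : Y.affineOpens) :
    str y A U ≫ fibP y A U = CommRingCat.ofHom A.res.toRingHom ≫ strY y U := by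
  have h1 : (Scheme.ΓSpecIso (CommRingCat.of A.carrier)).inv ≫ (specRes A).appLE ⊤ ⊤ le_top =
      CommRingCat.ofHom A.res.toRingHom ≫ (Scheme.ΓSpecIso (CommRingCat.of k)).inv := by
    rw [Scheme.ΓSpecIso_inv_naturality, Scheme.Hom.appTop, Scheme.Hom.app_eq_appLE]
    rfl
  rw [str, fibP, Category.assoc, Scheme.Hom.appLE_comp_appLE, strY, ← Category.assoc, ← h1, Category.assoc,
    Scheme.Hom.appLE_comp_appLE]
  simp only [XAincl_snd]

theorem isPushout_incI (A : Art k k) (U : Y.affineOpens) :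
    IsPushout (CommRingCat.ofHom (algebraMap k A.carrier)) (strY y U) (str y A U) (incI y A U) := by
  have hUY : preim y A U.1 = pullback.fst y (specOver A) ⁻¹ᵁ U.1 ⊓ XApr y A ⁻¹ᵁ ⊤ := le_antisymm
    (le_inf le_rfl le_top) inf_le_left
  have H := (isIso_pushoutSection_iff (IsPullback.of_hasPullback y (specOver A)) (US := ⊤) (UT := ⊤) le_top le_top hUY).1
    (isIso_pushoutSection_of_isAffineOpen (IsPullback.of_hasPullback y (specOver A)) le_top le_top hUY
      (isAffineOpen_top _) (isAffineOpen_top _) U.2)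
  refine H.flip.of_iso (Scheme.ΓSpecIso _) (Scheme.ΓSpecIso _) (Iso.refl _) (Iso.refl _) ?_ ?_ ?_ ?_
  · refine (cancel_mono (Scheme.ΓSpecIso (CommRingCat.of A.carrier)).inv).1 ?_
    simp only [Category.assoc, Iso.hom_inv_id, Category.comp_id]
    rw [Scheme.ΓSpecIso_inv_naturality, Iso.hom_inv_id_assoc, Scheme.Hom.appTop, Scheme.Hom.app_eq_appLE]
    rfl
  · simp [strY]
  · simp [str]
  · simp [incI]

theorem incI_map (A : Art k k) {U V : Y.affineOpens} (h : V.1 ≤ U.1) :
    incI y A U ≫ (XA y A).presheaf.map (homOfLE ((pullback.fst y (specOver A)).preimage_mono h)).op =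
      Y.presheaf.map (homOfLE h).op ≫ incI y A V := by
  rw [incI, incI, Scheme.Hom.appLE_map, Scheme.Hom.map_appLE]
  rfl

theorem fibP_map (A : Art k k) {U V : Y.affineOpens} (h : V.1 ≤ U.1) :
    (XA y A).presheaf.map (homOfLE ((pullback.fst y (specOver A)).preimage_mono h)).op ≫ fibP y A V =
      fibP y A U ≫ Y.presheaf.map (homOfLE h).op := by
  rw [fibP, fibP]
  erw [Scheme.Hom.map_appLE, Scheme.Hom.appLE_map]
  rfl

theorem str_map (A : Art k k) {U V : Y.affineOpens} (h : V.1 ≤ U.1) :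
    str y A U ≫ (XA y A).presheaf.map (homOfLE ((pullback.fst y (specOver A)).preimage_mono h)).op = str y A V := by
  rw [str, str, Category.assoc]
  erw [Scheme.Hom.appLE_map]
  rfl

/-- `ε` on a chart. -/
def eps (U : Y.affineOpens) : SR y (Art.dual k k) U := (str y (Art.dual k k) U).hom (DualNumber.eps : DualNumber k)

theorem isDual (U : Y.affineOpens) :
    IsDual (incI y (Art.dual k k) U).hom (fibP y (Art.dual k k) U).hom (eps y U) := by
  let D := SR y (Art.dual k k) U
  letI : Algebra k Γ(Y, U.1) := (strY y U).hom.toAlgebra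
  letI : Algebra (DualNumber k) D := (str y (Art.dual k k) U).hom.toAlgebra
  letI : Algebra Γ(Y, U.1) D := (incI y (Art.dual k k) U).hom.toAlgebra
  letI : Algebra k D := ((str y (Art.dual k k) U).hom.comp (algebraMap k (DualNumber k))).toAlgebra
  haveI : IsScalarTower k (DualNumber k) D := ⟨fun c d z => by
    rw [Algebra.smul_def c d]
    simp only [Algebra.smul_def, RingHom.algebraMap_toAlgebra, map_mul, RingHom.comp_apply, mul_assoc]
    exact rfl⟩
  haveI : IsScalarTower k Γ(Y, U.1) D :=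
    .of_algebraMap_eq fun c => ConcreteCategory.congr_hom (isPushout_incI y (Art.dual k k) U).w c
  haveI : Algebra.IsPushout k (DualNumber k) Γ(Y, U.1) D :=
    CommRingCat.isPushout_iff_isPushout.1 (isPushout_incI y (Art.dual k k) U)
  exact isDual_of_isPushout (k := k) (fibP y (Art.dual k k) U).hom
    (fun r => ConcreteCategory.congr_hom (incI_fibP y (Art.dual k k) U) r)
    ((ConcreteCategory.congr_hom (str_fibP y (Art.dual k k) U) (DualNumber.eps : DualNumber k)).trans
      ((congrArg (strY y U).hom (TrivSqZeroExt.fst_inr (R := k) (M := k) 1)).trans (map_zero _)))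

theorem ideal_incl {A : Art k k} (I₀ : Y.IdealSheafData) (J : (XA y A).IdealSheafData)
    (hJ : J.comap (XAincl y A) = I₀) (U : Y.affineOpens) :
    (J.ideal (chart y A U)).map (fibP y A U).hom = I₀.ideal U := by
  rw [← hJ]
  exact (GrothLib.BlowUp.ideal_comap_eq_map J (XAincl y A) (chart y A U) U _).symm

theorem ann_of_flat {J : (XA y (Art.dual k k)).IdealSheafData} (hJ : FlatOver Y y (Art.dual k k) J)
    (U : Y.affineOpens) (z : SR y (Art.dual k k) U) (hz : eps y U * z ∈ J.ideal (chart y (Art.dual k k) U)) :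
    ∃ w, z - eps y U * w ∈ J.ideal (chart y (Art.dual k k) U) := by
  letI : Algebra (DualNumber k) (SR y (Art.dual k k) U) := (str y (Art.dual k k) U).hom.toAlgebra
  haveI : Module.Flat (DualNumber k) (SR y (Art.dual k k) U ⧸ J.ideal (chart y (Art.dual k k) U)) :=
    RingHom.flat_algebraMap_iff.1 ((flatOver_iff y _ J).1 hJ U)
  obtain ⟨m', hm⟩ := exists_eq_eps_smul (k := k)
    (M := SR y (Art.dual k k) U ⧸ J.ideal (chart y (Art.dual k k) U))
    (m := Ideal.Quotient.mk _ z) (Ideal.Quotient.eq_zero_iff_mem.2 hz)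
  obtain ⟨w, rfl⟩ := Ideal.Quotient.mk_surjective m'
  exact ⟨w, (Ideal.Quotient.eq).1 hm⟩

theorem flatOver_dual_of_ann (J : (XA y (Art.dual k k)).IdealSheafData)
    (h : ∀ (U : Y.affineOpens) (z : SR y (Art.dual k k) U), eps y U * z ∈ J.ideal (chart y (Art.dual k k) U) →
      ∃ w, z - eps y U * w ∈ J.ideal (chart y (Art.dual k k) U)) : FlatOver Y y (Art.dual k k) J := by
  refine (flatOver_iff y _ J).2 fun U => ?_
  letI : Algebra (DualNumber k) (SR y (Art.dual k k) U) := (str y (Art.dual k k) U).hom.toAlgebra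
  refine RingHom.flat_algebraMap_iff.2 (flat_of_eps (k := k)
    (M := SR y (Art.dual k k) U ⧸ J.ideal (chart y (Art.dual k k) U)) fun m hm => ?_)
  obtain ⟨z, rfl⟩ := Ideal.Quotient.mk_surjective m
  obtain ⟨w, hw⟩ := h U z (Ideal.Quotient.eq_zero_iff_mem.1 hm)
  exact ⟨Ideal.Quotient.mk _ w, Ideal.Quotient.eq.2 hw⟩

end GrothLib.LocalHilb26
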