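import Groth.Agent.Lib.LocalHilb26.LiftAlg
import Groth.Agent.Lib.LocalHilb26.Dual

/-!
# The charts of `Y ×_k Spec A` along a small extension
-/

set_option autoImplicit false
set_option backward.isDefEq.respectTransparency false
universe u

noncomputable section

open CategoryTheory CategoryTheory.Limits AlgebraicGeometry

namespace GrothLib.LocalHilb26

open _root_.ArtFun _root_.ArtFun.Art

variable {k : Type u} [Field k] {Y : Scheme.{u}} (y : Y ⟶ specPt k)

@[reducible] def strAlgebra (A : Art k k) (U : Y.affineOpens) : Algebra A.carrier (SR y A U) :=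
  (str y A U).hom.toAlgebra

theorem induction_SR {A : Art k k} {U : Y.affineOpens} {P : SR y A U → Prop} (h0 : P 0)
    (hadd : ∀ a b, P a → P b → P (a + b))
    (hmul : ∀ (a : A.carrier) (b : Γ(Y, U.1)), P ((str y A U).hom a * (incI y A U).hom b)) (z : SR y A U) : P z := by
  let D := SR y A U
  letI : Algebra k Γ(Y, U.1) := (strY y U).hom.toAlgebra
  letI : Algebra A.carrier D := strAlgebra y A U
  letI : Algebra Γ(Y, U.1) D := (incI y A U).hom.toAlgebra
  letI : Algebra k D := ((str y A U).hom.comp (algebraMap k A.carrier)).toAlgebra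
  haveI : IsScalarTower k A.carrier D := ⟨fun c d w => by
    rw [Algebra.smul_def c d]
    simp only [Algebra.smul_def, RingHom.algebraMap_toAlgebra, map_mul, RingHom.comp_apply, mul_assoc]
    rfl⟩
  haveI : IsScalarTower k Γ(Y, U.1) D :=
    .of_algebraMap_eq fun c => ConcreteCategory.congr_hom (isPushout_incI y A U).w c
  haveI : Algebra.IsPushout k A.carrier Γ(Y, U.1) D :=
    CommRingCat.isPushout_iff_isPushout.1 (isPushout_incI y A U)
  obtain ⟨w, rfl⟩ := (Algebra.IsPushout.equiv k A.carrier Γ(Y, U.1) D).surjective z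
  induction w with
  | zero => rw [map_zero]; exact h0
  | tmul a b =>
    rw [Algebra.IsPushout.equiv_tmul]
    exact hmul a b
  | add v w hv hw => rw [map_add]; exact hadd _ _ hv hw

theorem fibP_incI (A : Art k k) (U : Y.affineOpens) (b : Γ(Y, U.1)) :
    (fibP y A U).hom ((incI y A U).hom b) = b :=
  ConcreteCategory.congr_hom (incI_fibP y A U) b

theorem fibP_str (A : Art k k) (U : Y.affineOpens) (a : A.carrier) :
    (fibP y A U).hom ((str y A U).hom a) = (strY y U).hom (A.res a) :=
  ConcreteCategory.congr_hom (str_fibP y A U) a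

theorem ker_fibP (A : Art k k) (U : Y.affineOpens) :
    RingHom.ker (fibP y A U).hom = (IsLocalRing.maximalIdeal A.carrier).map (str y A U).hom := by
  refine le_antisymm ?_ (Ideal.map_le_iff_le_comap.2 fun a ha => ?_)
  · have key : ∀ z, z - (incI y A U).hom ((fibP y A U).hom z) ∈
        (IsLocalRing.maximalIdeal A.carrier).map (str y A U).hom := by
      refine induction_SR y (by simp) (fun a b ha hb => ?_) fun a b => ?_
      · simp only [map_add]
        rw [add_sub_add_comm]
        exact add_mem ha hb
      · have e : ∀ c : k, (incI y A U).hom ((strY y U).hom c) = (str y A U).hom (algebraMap k A.carrier c) :=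
          fun c => (ConcreteCategory.congr_hom (isPushout_incI y A U).w c).symm
        rw [map_mul, map_mul, fibP_str, fibP_incI, e, ← sub_mul, ← map_sub]
        refine Ideal.mul_mem_right _ _ (Ideal.mem_map_of_mem _ ?_)
        rw [mem_maximalIdeal_iff, map_sub, A.res.commutes, sub_eq_zero]
        exact (Algebra.algebraMap_self_apply (R := k) _).symm
    intro z hz
    have := key z
    rwa [show (fibP y A U).hom z = 0 from hz, map_zero, sub_zero] at this
  · show (str y A U).hom a ∈ RingHom.ker (fibP y A U).hom
    rw [RingHom.mem_ker, fibP_str]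
    rw [mem_maximalIdeal_iff] at ha
    rw [ha, map_zero]

theorem res_map {A B : Art k k} (g : A ⟶ B) {U V : Y.affineOpens} (h : V.1 ≤ U.1) :
    res y g U ≫ (XA y B).presheaf.map (homOfLE ((pullback.fst y (specOver B)).preimage_mono h)).op =
      (XA y A).presheaf.map (homOfLE ((pullback.fst y (specOver A)).preimage_mono h)).op ≫ res y g V := by
  rw [res, res]
  erw [Scheme.Hom.map_appLE, Scheme.Hom.appLE_map]
  rfl

variable {A' A : Art k k} (p : A' ⟶ A)

theorem res_str (U : Y.affineOpens) (a : A'.carrier) :
    (res y p U).hom ((str y A' U).hom a) = (str y A U).hom (p.toAlgHom a) :=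
  ConcreteCategory.congr_hom (str_res y p U) a

theorem res_surjective (hp : Function.Surjective p) (U : Y.affineOpens) :
    Function.Surjective (res y p U).hom := by
  refine induction_SR y ⟨0, map_zero _⟩ (fun a b ⟨c, hc⟩ ⟨d, hd⟩ => ⟨c + d, by rw [map_add, hc, hd]⟩) fun a b => ?_
  obtain ⟨a', rfl⟩ := hp a
  refine ⟨(str y A' U).hom a' * (incI y A' U).hom b, ?_⟩
  rw [map_mul, res_str, show (res y p U).hom ((incI y A' U).hom b) = (incI y A U).hom b from
    ConcreteCategory.congr_hom (incI_res y p U) b]

theorem ker_res_le (hp : Function.Surjective p) {t : A'.carrier}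
    (ht : RingHom.ker p.toAlgHom = Ideal.span {t}) (U : Y.affineOpens) :
    RingHom.ker (res y p U).hom ≤ Ideal.span {(str y A' U).hom t} := by
  set J : Ideal (SR y A' U) := Ideal.span {(str y A' U).hom t}
  let f : A'.carrier →+* SR y A' U ⧸ J := (Ideal.Quotient.mk J).comp (str y A' U).hom
  have hf : RingHom.ker p.toAlgHom.toRingHom ≤ RingHom.ker f := by
    refine (ht.le).trans (Ideal.span_le.2 ?_)
    rintro _ rfl
    exact Ideal.Quotient.eq_zero_iff_mem.2 (Ideal.mem_span_singleton_self _)
  let g : A.carrier →+* SR y A' U ⧸ J := RingHom.liftOfSurjective p.toAlgHom.toRingHom hp ⟨f, hf⟩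
  have hg : ∀ a, g (p.toAlgHom a) = f a := fun a => RingHom.liftOfRightInverse_comp_apply _ _ _ _ a
  have hpo := isPushout_res y p U
  have w : ringMap p ≫ CommRingCat.ofHom g = str y A' U ≫ CommRingCat.ofHom (Ideal.Quotient.mk J) := by
    ext a
    exact hg a
  intro z hz
  refine Ideal.Quotient.eq_zero_iff_mem.1 ?_
  have hd := ConcreteCategory.congr_hom (hpo.inr_desc (CommRingCat.ofHom g) (CommRingCat.ofHom (Ideal.Quotient.mk J)) w) z
  refine hd.symm.trans ?_
  show (hpo.desc _ _ w).hom ((res y p U).hom z) = 0
  rw [show (res y p U).hom z = 0 from hz, map_zero]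

/-- A small extension gives a small lifting situation on each chart. -/
theorem isSmallLift (hp : Function.Surjective p) {t : A'.carrier} (ht : RingHom.ker p.toAlgHom = Ideal.span {t})
    (ht0 : t ≠ 0) (hmax : ∀ a ∈ IsLocalRing.maximalIdeal A'.carrier, a * t = 0) (U : Y.affineOpens) :
    letI := strAlgebra y A' U
    letI := strAlgebra y A U
    IsSmallLift (A' := A'.carrier) (A := A.carrier) p.toAlgHom.toRingHom t (res y p U).hom (fibP y A' U).hom
      (fibP y A U).hom (incI y A' U).hom :=
  letI := strAlgebra y A' U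
  letI := strAlgebra y A U
  { p_surj := hp
    ker_p := ht
    t_ne := ht0
    max_t := hmax
    compat := res_str y p U
    res_surj := res_surjective y p hp U
    ker_res := ker_res_le y p hp ht U
    π_res := fun z => ConcreteCategory.congr_hom (res_fibP y p U) z
    π_ι := fibP_incI y A' U
    ker_π' := ker_fibP y A' U }

theorem flat_SR (A : Art k k) (U : Y.affineOpens) :
    letI := strAlgebra y A U
    Module.Flat A.carrier (SR y A U) :=
  letI := strAlgebra y A U
  RingHom.flat_algebraMap_iff.1 (flat_str y A U)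

theorem flat_quot {A : Art k k} {J : (XA y A).IdealSheafData} (hJ : FlatOver Y y A J) (U : Y.affineOpens) :
    letI := strAlgebra y A U
    Module.Flat A.carrier (SR y A U ⧸ J.ideal (chart y A U)) :=
  letI := strAlgebra y A U
  RingHom.flat_algebraMap_iff.1 ((flatOver_iff y A J).1 hJ U)

/-- An affine open of `Y ×_k Spec A` comes from `Y`. -/
theorem exists_chart_eq' (A : Art k k) (V : (XA y A).affineOpens) : ∃ U : Y.affineOpens, chart y A U = V := by
  haveI : IsClosedImmersion (specRes A) := IsClosedImmersion.spec_of_surjective _ A.res_surjective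
  haveI : IsClosedImmersion (XAincl y A) := MorphismProperty.of_isPullback (isPullback_XAincl y A).flip inferInstance
  haveI : Nonempty (specPt k) := inferInstanceAs (Nonempty (PrimeSpectrum k))
  haveI : Subsingleton (PrimeSpectrum A.carrier) := ⟨fun a b => PrimeSpectrum.ext <|
    ((IsArtinianRing.isMaximal_of_isPrime a.asIdeal).eq_of_le b.isPrime.ne_top <|
      (IsLocalRing.eq_maximalIdeal (IsArtinianRing.isMaximal_of_isPrime a.asIdeal)).le.trans
        (IsLocalRing.eq_maximalIdeal (IsArtinianRing.isMaximal_of_isPrime b.asIdeal)).ge)⟩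
  haveI : Subsingleton (Art.spec A) := inferInstanceAs (Subsingleton (PrimeSpectrum A.carrier))
  haveI : Surjective (specRes A) := ⟨fun p => ⟨Classical.arbitrary _, Subsingleton.elim _ _⟩⟩
  haveI : Surjective (XAincl y A) := MorphismProperty.of_isPullback (isPullback_XAincl y A).flip inferInstance
  refine ⟨⟨XAincl y A ⁻¹ᵁ V.1, V.2.preimage _⟩, Subtype.ext (TopologicalSpace.Opens.ext ?_)⟩
  refine (Set.preimage_eq_preimage (XAincl y A).surjective).1 ?_
  exact congrArg (fun W : Y.Opens => (W : Set Y)) (incl_preim y A (XAincl y A ⁻¹ᵁ V.1))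

theorem chart_le_iff' {A : Art k k} {U V : Y.affineOpens} : (chart y A V).1 ≤ (chart y A U).1 ↔ V.1 ≤ U.1 := by
  refine ⟨fun h => ?_, fun h => (pullback.fst y (specOver A)).preimage_mono h⟩
  rw [← incl_preim y A U.1, ← incl_preim y A V.1]
  exact (XAincl y A).preimage_mono h

end GrothLib.LocalHilb26
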