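import Groth.Agent.Lib.LocalHilb26.MinorsLift
import Groth.Agent.Lib.LocalHilb26.SmallChart
import Groth.Agent.Lib.LocalHilb26.Conormal
import Groth.Agent.S11460
import Mathlib.AlgebraicGeometry.Morphisms.Smooth

/-!
# Cohen–Macaulay subschemes of codimension two lift locally
-/

set_option autoImplicit false
set_option backward.isDefEq.respectTransparency false
universe u

noncomputable section

open CategoryTheory CategoryTheory.Limits AlgebraicGeometry

namespace GrothLib.LocalHilb26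

open _root_.ArtFun _root_.ArtFun.Art GrothLib.HB26

variable {k : Type u} [Field k] {Y : Scheme.{u}} (y : Y ⟶ specPt k) (I₀ : Y.IdealSheafData) {A' A : Art k k}
  (p : A' ⟶ A) (I : (localHilb Y y I₀).obj A)

theorem two_le_height_of_codim_two
    (hcodim : ∀ z : I₀.subscheme, ringKrullDim (I₀.subscheme.presheaf.stalk z) + 2 =
      ringKrullDim (Y.presheaf.stalk (I₀.subschemeι.base z)))
    (U : Y.affineOpens) (P : Ideal Γ(Y, U.1)) (hP : P.IsPrime) (hle : I₀.ideal U ≤ P) : (2 : ℕ∞) ≤ P.height := by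
  let q : PrimeSpectrum Γ(Y, U.1) := ⟨P, hP⟩
  have hqU : U.2.fromSpec q ∈ U.1 := by
    have h1 : U.2.fromSpec q ∈ Set.range U.2.fromSpec := ⟨q, rfl⟩
    rwa [U.2.range_fromSpec] at h1
  have hsup : U.2.fromSpec q ∈ I₀.support := by
    rw [Scheme.IdealSheafData.mem_support_iff_of_mem hqU]
    have h1 : U.2.fromSpec q ∈ U.2.fromSpec '' PrimeSpectrum.zeroLocus (I₀.ideal U : Set Γ(Y, U.1)) := ⟨q, hle, rfl⟩
    rw [U.2.fromSpec_image_zeroLocus] at h1
    exact h1.1
  obtain ⟨z, hz⟩ : U.2.fromSpec q ∈ Set.range I₀.subschemeι := by rw [I₀.range_subschemeι]; exact hsup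
  have hzU : I₀.subschemeι z ∈ U.1 := hz ▸ hqU
  letI : Algebra Γ(Y, U.1) (Y.presheaf.stalk (I₀.subschemeι z)) :=
    TopCat.Presheaf.algebra_section_stalk Y.presheaf (⟨I₀.subschemeι z, hzU⟩ : U.1)
  haveI := U.2.isLocalization_stalk ⟨I₀.subschemeι z, hzU⟩
  have hprime : (U.2.primeIdealOf ⟨I₀.subschemeι z, hzU⟩).asIdeal = P := by
    have h1 : U.2.fromSpec (U.2.primeIdealOf ⟨I₀.subschemeι z, hzU⟩) = U.2.fromSpec q :=
      (U.2.fromSpec_primeIdealOf _).trans hz
    exact congrArg PrimeSpectrum.asIdeal (U.2.fromSpec.isOpenEmbedding.injective h1)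
  have hh : (P.height : WithBot ℕ∞) = ringKrullDim (Y.presheaf.stalk (I₀.subschemeι z)) := by
    rw [← hprime]
    exact (IsLocalization.AtPrime.ringKrullDim_eq_height (U.2.primeIdealOf ⟨I₀.subschemeι z, hzU⟩).asIdeal _).symm
  have h2 : (2 : WithBot ℕ∞) ≤ (P.height : WithBot ℕ∞) := by
    rw [hh, ← hcodim z]
    refine le_trans (le_of_eq (zero_add 2).symm) (add_le_add ringKrullDim_nonneg_of_nontrivial le_rfl)
  exact WithBot.coe_le_coe.1 h2

/-- Local flat lifts exist along Cohen–Macaulay subschemes of codimension two of a smooth scheme. -/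
theorem hloc_of_codim_two [Smooth y]
    (hCM : ∀ z : I₀.subscheme, LocCoh.IsCohenMacaulayLocalRing (I₀.subscheme.presheaf.stalk z))
    (hcodim : ∀ z : I₀.subscheme, ringKrullDim (I₀.subscheme.presheaf.stalk z) + 2 =
      ringKrullDim (Y.presheaf.stalk (I₀.subschemeι.base z)))
    (hp : Function.Surjective p) (z : I₀.subscheme) :
    ∃ U : Y.affineOpens, I₀.subschemeι z ∈ U.1 ∧
      ∃ J : Ideal (SR y A' U), J.map (res y p U).hom = I.1.ideal (chart y A U) ∧
        ((Ideal.Quotient.mk J).comp (str y A' U).hom).Flat := by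
  obtain ⟨U, hzU, r, φ₀, h1, h2, h3⟩ :=
    Groth.Agent.S11460.result k Y I₀.subscheme y I₀.subschemeι hCM hcodim z
  rw [Scheme.IdealSheafData.ker_subschemeι] at h1
  refine ⟨U, hzU, ?_⟩
  letI := strAlgebra y A' U
  letI := strAlgebra y A U
  haveI := flat_SR y A' U
  haveI := flat_SR y A U
  haveI := flat_quot y I.2.1 U
  letI : Algebra k Γ(Y, U.1) := (strY y U).hom.toAlgebra
  haveI : Algebra.Smooth k Γ(Y, U.1) := by
    have hs : RingHom.Smooth (y.appLE ⊤ U.1 le_top).hom :=
      HasRingHomProperty.appLE @Smooth y inferInstance ⟨⊤, isAffineOpen_top _⟩ U le_top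
    have hs' : RingHom.Smooth (strY y U).hom := by
      rw [strY, CommRingCat.hom_comp]
      exact RingHom.Smooth.respectsIso.2 (y.appLE ⊤ U.1 le_top).hom
        (Scheme.ΓSpecIso (CommRingCat.of k)).symm.commRingCatIsoToRingEquiv hs
    exact hs'
  have hπ : ∀ B : Art k k, Function.Surjective (fibP y B U).hom := fun B b => ⟨_, fibP_incI y B U b⟩
  obtain ⟨φ, hφ, hspan⟩ := exists_minors_lift_of_fibre (C := A.carrier) (fibP y A U).hom (hπ A) (ker_fibP y A U) k
    (I.1.ideal (chart y A U))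
    (fun P hP hle => two_le_height_of_codim_two I₀ hcodim U P hP ((ideal_incl y I₀ I.1 I.2.2 U).symm.le.trans hle))
    φ₀ ((ideal_incl y I₀ I.1 I.2.2 U).trans h1.symm) h2 h3
  choose ψ hψ using fun i j => res_surjective y p hp U (φ i j)
  let φ' : Matrix (Fin (r + 1)) (Fin r) (SR y A' U) := Matrix.of ψ
  have hres : φ'.map (res y p U).hom = φ := Matrix.ext fun i j => hψ i j
  have hfib : φ'.map (fibP y A' U).hom = φ₀ := by
    rw [← hφ, ← hres]
    exact Matrix.ext fun i j => (ConcreteCategory.congr_hom (res_fibP y p U) (ψ i j)).symm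
  refine ⟨Ideal.span (Set.range (minors φ')), ?_, ?_⟩
  · rw [Ideal.map_span, ← Set.range_comp, ← hspan, ← hres]
    exact congrArg Ideal.span (congrArg Set.range (funext fun i => map_minors (res y p U).hom φ' i))
  · refine RingHom.flat_algebraMap_iff.2 (flat_quotient_minors (fibP y A' U).hom (hπ A') (ker_fibP y A' U) φ' ?_ ?_)
    · rw [hfib]; exact h2
    · rw [hfib]; exact h3

end GrothLib.LocalHilb26
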