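import Groth.Agent.Lib.LocalHilb26.Dual
import Groth.Agent.Lib.IdealModSec.Basic
import Groth.Agent.Lib.AffHom.Basic

/-!
# The tangent space of the local Hilbert functor

Elements of `localHilb` over `k[ε]` are the morphisms from the ideal to the quotient.
-/

set_option autoImplicit false
set_option backward.isDefEq.respectTransparency false
universe u

noncomputable section

open CategoryTheory CategoryTheory.Limits AlgebraicGeometry Opposite

namespace GrothLib.LocalHilb26

open ArtFun ArtFun.Art DualNumber GrothLib.IdealModSec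

variable {k : Type u} [Field k] {Y : Scheme.{u}} (y : Y ⟶ specPt k) (I₀ : Y.IdealSheafData)

local notation "D₀" => Art.dual k k

/-- The `ε`-coefficient on a chart. -/
def cf (U : Y.affineOpens) (z : SR y D₀ U) : Γ(Y, U.1) := (isDual y U).coef z

/-- Restriction of a function to the subscheme. -/
def qr (U : Y.Opens) (a : Γ(Y, U)) : Γ(ClSub.quotMod I₀, U) := (I₀.subschemeι.app U).hom a

theorem qr_eq_iff (U : Y.affineOpens) (a b : Γ(Y, U.1)) : qr I₀ U.1 a = qr I₀ U.1 b ↔ a - b ∈ I₀.ideal U := by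
  rw [← I₀.ker_subschemeι_app U, RingHom.mem_ker, map_sub, sub_eq_zero]
  rfl

theorem qr_add (U : Y.Opens) (a b : Γ(Y, U)) : qr I₀ U (a + b) = qr I₀ U a + qr I₀ U b := map_add _ a b

theorem qr_zero (U : Y.Opens) : qr I₀ U 0 = 0 := map_zero (I₀.subschemeι.app U).hom

theorem qr_mul (U : Y.Opens) (c a : Γ(Y, U)) : qr I₀ U (c * a) = c • qr I₀ U a := map_mul (I₀.subschemeι.app U).hom c a

theorem qr_surjective (U : Y.affineOpens) : Function.Surjective (qr I₀ U.1) :=
  I₀.subschemeι_app_surjective U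

theorem qr_map {U V : Y.Opens} (h : V ≤ U) (a : Γ(Y, U)) :
    (ClSub.quotMod I₀).presheaf.map (homOfLE h).op (qr I₀ U a) = qr I₀ V (Y.presheaf.map (homOfLE h).op a) :=
  (ConcreteCategory.congr_hom (I₀.subschemeι.naturality (homOfLE h).op) a).symm

/-- `f` is the map attached to the ideal sheaf `J`. -/
def Rel (J : (XA y D₀).IdealSheafData) (f : ClSub.idealMod I₀ ⟶ ClSub.quotMod I₀) : Prop :=
  ∀ (U : Y.affineOpens) (z : SR y D₀ U), z ∈ J.ideal (chart y D₀ U) →
    ∀ m : Γ(ClSub.idealMod I₀, U.1), val I₀ U.1 m = (fibP y D₀ U).hom z → f.app U.1 m = qr I₀ U.1 (cf y U z)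

theorem cf_map {U V : Y.affineOpens} (h : V.1 ≤ U.1) (z : SR y D₀ U) :
    (fibP y D₀ V).hom ((XA y D₀).presheaf.map (homOfLE ((pullback.fst y (specOver D₀)).preimage_mono h)).op z) =
        Y.presheaf.map (homOfLE h).op ((fibP y D₀ U).hom z) ∧
      cf y V ((XA y D₀).presheaf.map (homOfLE ((pullback.fst y (specOver D₀)).preimage_mono h)).op z) =
        Y.presheaf.map (homOfLE h).op (cf y U z) := by
  refine (isDual y V).coef_eq ?_
  have h1 := ConcreteCategory.congr_hom (incI_map y D₀ h) ((fibP y D₀ U).hom z)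
  have h2 := ConcreteCategory.congr_hom (incI_map y D₀ h) (cf y U z)
  have h3 := ConcreteCategory.congr_hom (str_map y D₀ h) (DualNumber.eps : DualNumber k)
  conv_lhs => rw [(isDual y U).coef_spec z]
  rw [map_add, map_mul]
  exact congrArg₂ (· + ·) h1 (congrArg₂ (· * ·) h3 h2)

theorem exists_rel (J : (localHilb Y y I₀).obj D₀) : ∃ f, Rel y I₀ J.1 f := by
  have hlift : ∀ (U : Y.affineOpens) (m : Γ(ClSub.idealMod I₀, U.1)),
      ∃ z ∈ J.1.ideal (chart y D₀ U), (fibP y D₀ U).hom z = val I₀ U.1 m := fun U m =>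
    (isDual y U).exists_lift (ideal_incl y I₀ J.1 J.2.2 U) (val_mem I₀ U m)
  choose L hL hL' using hlift
  have wd : ∀ (U : Y.affineOpens) (z : SR y D₀ U), z ∈ J.1.ideal (chart y D₀ U) →
      ∀ m, val I₀ U.1 m = (fibP y D₀ U).hom z → qr I₀ U.1 (cf y U (L U m)) = qr I₀ U.1 (cf y U z) :=
    fun U z hz m hm => (qr_eq_iff I₀ U _ _).2
      ((isDual y U).sub_coef_mem (ideal_incl y I₀ J.1 J.2.2 U) (ann_of_flat y J.2.1 U) (hL U m) hz
        ((hL' U m).trans hm))
  let ψ : ∀ U : Y.affineOpens, Γ(ClSub.idealMod I₀, U.1) →ₗ[Γ(Y, U.1)] Γ(ClSub.quotMod I₀, U.1) := fun U =>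
    { toFun := fun m => qr I₀ U.1 (cf y U (L U m))
      map_add' := fun m m' => by
        rw [wd U (L U m + L U m') (Ideal.add_mem _ (hL U m) (hL U m')) _
          ((map_add ((ClSub.idealModι I₀).app U.1).hom m m').trans
            ((congrArg₂ (· + ·) (hL' U m) (hL' U m')).symm.trans (map_add _ _ _).symm))]
        rw [cf, (isDual y U).coef_add, qr_add]
        rfl
      map_smul' := fun c m => by
        rw [wd U ((incI y D₀ U).hom c * L U m) (Ideal.mul_mem_left _ _ (hL U m)) _ (by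
          rw [val_smul, map_mul, hL', (isDual y U).retr])]
        rw [cf, (isDual y U).coef_mul, (isDual y U).coef_iota, mul_zero, add_zero, (isDual y U).retr, qr_mul]
        rfl }
  obtain ⟨f, hf⟩ := AffHom.exists_hom ψ fun U V h m => by
    show _ = qr I₀ V.1 (cf y V (L V _))
    rw [show ψ U m = qr I₀ U.1 (cf y U (L U m)) from rfl, qr_map, ← (cf_map y h (L U m)).2]
    refine (wd V _ ?_ _ ?_).symm
    · have := J.1.ideal_le_comap_ideal (U := chart y D₀ V) (V := chart y D₀ U)
        ((pullback.fst y (specOver D₀)).preimage_mono h)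
      exact this (hL U m)
    · rw [(cf_map y h (L U m)).1, hL']
      exact val_mres I₀ h m
  exact ⟨f, fun U z hz m hm => (hf U m).trans (wd U z hz m hm)⟩

theorem rel_unique {J : (localHilb Y y I₀).obj D₀} {f g : ClSub.idealMod I₀ ⟶ ClSub.quotMod I₀}
    (hf : Rel y I₀ J.1 f) (hg : Rel y I₀ J.1 g) : f = g :=
  AffHom.hom_ext fun U m => by
    obtain ⟨z, hz, he⟩ := (isDual y U).exists_lift (ideal_incl y I₀ J.1 J.2.2 U) (val_mem I₀ U m)
    rw [hf U z hz m he.symm, hg U z hz m he.symm]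

/-- The morphism attached to a first-order deformation. -/
def toHom (J : (localHilb Y y I₀).obj D₀) : ClSub.idealMod I₀ ⟶ ClSub.quotMod I₀ := (exists_rel y I₀ J).choose

theorem rel_toHom (J : (localHilb Y y I₀).obj D₀) : Rel y I₀ J.1 (toHom y I₀ J) := (exists_rel y I₀ J).choose_spec

theorem toHom_injective : Function.Injective (toHom y I₀) := by
  intro J J' e
  refine Subtype.ext (Scheme.IdealSheafData.ext_of_iSup_eq_top (chart y D₀) (iSup_chart y D₀) fun U => ?_)
  have key : ∀ J₁ J₂ : (localHilb Y y I₀).obj D₀, toHom y I₀ J₁ = toHom y I₀ J₂ →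
      J₁.1.ideal (chart y D₀ U) ≤ J₂.1.ideal (chart y D₀ U) := by
    intro J₁ J₂ e z hz
    have hI := ideal_incl y I₀ J₁.1 J₁.2.2 U ▸ Ideal.mem_map_of_mem (fibP y D₀ U).hom hz
    obtain ⟨m, hm⟩ := exists_val_eq I₀ U hI
    refine ((isDual y U).mem_iff (ideal_incl y I₀ J₂.1 J₂.2.2 U) (ann_of_flat y J₂.2.1 U) z).2
      ⟨hI, fun z' hz' he => (qr_eq_iff I₀ U _ _).1 ?_⟩
    show qr I₀ U.1 (cf y U z) = qr I₀ U.1 (cf y U z')
    rw [← rel_toHom y I₀ J₁ U z hz m hm, ← rel_toHom y I₀ J₂ U z' hz' m (hm.trans he.symm), e]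
  exact le_antisymm (key J J' e) (key J' J e.symm)

section Surjective

variable (f : ClSub.idealMod I₀ ⟶ ClSub.quotMod I₀)

/-- The chart ideal attached to a morphism. -/
def homIdeal (U : Y.affineOpens) : Ideal (SR y D₀ U) where
  carrier := {z | ∃ m : Γ(ClSub.idealMod I₀, U.1), val I₀ U.1 m = (fibP y D₀ U).hom z ∧
    f.app U.1 m = qr I₀ U.1 (cf y U z)}
  zero_mem' := ⟨0, (val_zero I₀ U.1).trans (map_zero _).symm, by
    rw [cf, (isDual y U).coef_zero, qr_zero]; exact map_zero (f.app U.1).hom⟩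
  add_mem' := fun {z w} ⟨m, hm, em⟩ ⟨n, hn, en⟩ => ⟨m + n,
    (map_add ((ClSub.idealModι I₀).app U.1).hom m n).trans ((congrArg₂ (· + ·) hm hn).trans (map_add _ _ _).symm),
    (map_add (f.app U.1).hom m n).trans ((congrArg₂ (· + ·) em en).trans (by
      rw [cf, cf, cf, (isDual y U).coef_add, qr_add]))⟩
  smul_mem' := fun c z ⟨m, hm, em⟩ => ⟨(fibP y D₀ U).hom c • m, by rw [val_smul, hm, smul_eq_mul, map_mul],
    (Scheme.Modules.Hom.app_smul f _ m).trans (by
      rw [em, cf, cf, smul_eq_mul, (isDual y U).coef_mul, qr_add, qr_mul]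
      have h0 : qr I₀ U.1 ((fibP y D₀ U).hom z * (isDual y U).coef c) = 0 := by
        rw [← qr_zero I₀ U.1, qr_eq_iff, sub_zero, ← hm]
        exact Ideal.mul_mem_right _ _ (val_mem I₀ U m)
      rw [h0, add_zero])⟩

theorem map_homIdeal (U : Y.affineOpens) : (homIdeal y I₀ f U).map (fibP y D₀ U).hom = I₀.ideal U := by
  refine le_antisymm (Ideal.map_le_iff_le_comap.2 ?_) fun a ha => ?_
  · rintro z ⟨m, hm, -⟩
    show (fibP y D₀ U).hom z ∈ I₀.ideal U
    rw [← hm]; exact val_mem I₀ U m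
  · obtain ⟨m, rfl⟩ := exists_val_eq I₀ U ha
    obtain ⟨b, hb⟩ := qr_surjective I₀ U (f.app U.1 m)
    obtain ⟨e1, e2⟩ := (isDual y U).coef_eq (z := (incI y D₀ U).hom (val I₀ U.1 m) + eps y U * (incI y D₀ U).hom b) rfl
    rw [← e1]
    exact Ideal.mem_map_of_mem _ ⟨m, e1.symm, by rw [cf, e2, hb]⟩

theorem ann_homIdeal (U : Y.affineOpens) (z : SR y D₀ U) (hz : eps y U * z ∈ homIdeal y I₀ f U) :
    ∃ w, z - eps y U * w ∈ homIdeal y I₀ f U := by
  obtain ⟨m, hm, em⟩ := hz
  rw [map_mul, (isDual y U).pi_e, zero_mul, ← val_zero I₀ U.1] at hm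
  rw [val_injective I₀ U.1 hm, cf, (isDual y U).coef_e_mul] at em
  have hI : (fibP y D₀ U).hom z ∈ I₀.ideal U := by
    have := (qr_eq_iff I₀ U _ 0).1 (em.symm.trans ((map_zero (f.app U.1).hom).trans (qr_zero I₀ U.1).symm))
    rwa [sub_zero] at this
  obtain ⟨n, hn⟩ := exists_val_eq I₀ U hI
  obtain ⟨b, hb⟩ := qr_surjective I₀ U (f.app U.1 n)
  refine ⟨(incI y D₀ U).hom (cf y U z - b), ?_⟩
  obtain ⟨e1, e2⟩ := (isDual y U).coef_eq (z := z - eps y U * (incI y D₀ U).hom (cf y U z - b))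
    (a := (fibP y D₀ U).hom z) (b := b) (by
      have := (isDual y U).coef_spec z
      rw [map_sub, cf]
      linear_combination this)
  exact ⟨n, hn.trans e1.symm, by rw [cf, e2, hb]⟩

theorem homIdeal_map {U V : Y.affineOpens} (h : V.1 ≤ U.1) :
    (homIdeal y I₀ f U).map
        ((XA y D₀).presheaf.map (homOfLE ((pullback.fst y (specOver D₀)).preimage_mono h)).op).hom =
      homIdeal y I₀ f V := by
  have hle : (homIdeal y I₀ f U).map
      ((XA y D₀).presheaf.map (homOfLE ((pullback.fst y (specOver D₀)).preimage_mono h)).op).hom ≤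
      homIdeal y I₀ f V := Ideal.map_le_iff_le_comap.2 fun z hz => by
    obtain ⟨m, hm, em⟩ := hz
    refine ⟨(ClSub.idealMod I₀).presheaf.map (homOfLE h).op m,
      (val_mres I₀ h m).trans (Eq.trans ?_ (cf_map y h z).1.symm), ?_⟩
    · exact congrArg (Y.presheaf.map (homOfLE h).op) hm
    · refine Eq.trans ?_ (congrArg (qr I₀ V.1) (cf_map y h z).2.symm)
      rw [← qr_map, ← em]
      exact ConcreteCategory.congr_hom (f.mapPresheaf.naturality (homOfLE h).op) m
  refine le_antisymm hle fun z hz => ?_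
  set r := ((XA y D₀).presheaf.map (homOfLE ((pullback.fst y (specOver D₀)).preimage_mono h)).op).hom
  have hmap : ((homIdeal y I₀ f U).map r).map (fibP y D₀ V).hom = I₀.ideal V := by
    rw [Ideal.map_map, show (fibP y D₀ V).hom.comp r =
      ((Y.presheaf.map (homOfLE h).op).hom.comp (fibP y D₀ U).hom) from
        congrArg CommRingCat.Hom.hom (fibP_map y D₀ h), ← Ideal.map_map, map_homIdeal]
    exact I₀.map_ideal h
  obtain ⟨m, hm, em⟩ := hz
  obtain ⟨z', hz', he⟩ := (isDual y V).exists_lift hmap (val_mem I₀ V m)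
  obtain ⟨m', hm', em'⟩ := hle hz'
  rw [val_injective I₀ V.1 (hm'.trans he)] at em'
  have hd : cf y V z - cf y V z' ∈ I₀.ideal V := (qr_eq_iff I₀ V _ _).1 (em.symm.trans em')
  have : z = z' + eps y V * (incI y D₀ V).hom (cf y V z - cf y V z') := by
    have e1 := (isDual y V).coef_spec z
    have e2 := (isDual y V).coef_spec z'
    rw [he, hm] at e2
    simp only [cf, map_sub]
    linear_combination e1 - e2
  rw [this]
  exact Ideal.add_mem _ hz' ((isDual y V).e_mul_mem hmap hd)

/-- An affine open of `Y ×_k Spec A` comes from `Y`. -/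
theorem exists_chart_eq (V : (XA y D₀).affineOpens) : ∃ U : Y.affineOpens, chart y D₀ U = V := by
  haveI : IsClosedImmersion (specRes D₀) := IsClosedImmersion.spec_of_surjective _ (Art.dual k k).res_surjective
  haveI : IsClosedImmersion (XAincl y D₀) := MorphismProperty.of_isPullback (isPullback_XAincl y D₀).flip inferInstance
  haveI : Subsingleton (Art.spec D₀) := inferInstanceAs (Subsingleton (PrimeSpectrum (Art.dual k k).carrier))
  haveI : Nonempty (specPt k) := inferInstanceAs (Nonempty (PrimeSpectrum k))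
  haveI : Surjective (specRes D₀) := ⟨fun p => ⟨Classical.arbitrary _, Subsingleton.elim _ _⟩⟩
  haveI : Surjective (XAincl y D₀) := MorphismProperty.of_isPullback (isPullback_XAincl y D₀).flip inferInstance
  refine ⟨⟨XAincl y D₀ ⁻¹ᵁ V.1, V.2.preimage _⟩, Subtype.ext (TopologicalSpace.Opens.ext ?_)⟩
  refine (Set.preimage_eq_preimage (XAincl y D₀).surjective).1 ?_
  exact congrArg (fun W : Y.Opens => (W : Set Y)) (incl_preim y D₀ (XAincl y D₀ ⁻¹ᵁ V.1))

/-- The affine open of `Y` under an affine open of `Y ×_k Spec k[ε]`. -/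
def under (V : (XA y D₀).affineOpens) : Y.affineOpens := (exists_chart_eq y V).choose

theorem chart_under (V : (XA y D₀).affineOpens) : chart y D₀ (under y V) = V := (exists_chart_eq y V).choose_spec

theorem chart_le_iff {U V : Y.affineOpens} : (chart y D₀ V).1 ≤ (chart y D₀ U).1 ↔ V.1 ≤ U.1 := by
  refine ⟨fun h => ?_, fun h => (pullback.fst y (specOver D₀)).preimage_mono h⟩
  rw [← incl_preim y D₀ U.1, ← incl_preim y D₀ V.1]
  exact (XAincl y D₀).preimage_mono h

/-- The ideal sheaf attached to a morphism. -/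
def ofHom : (XA y D₀).IdealSheafData where
  ideal V := (homIdeal y I₀ f (under y V)).map
    ((XA y D₀).presheaf.map (homOfLE (congrArg Subtype.val (chart_under y V)).ge).op).hom
  map_ideal_basicOpen V a := by
    have h : (under y ((XA y D₀).affineBasicOpen a)).1 ≤ (under y V).1 :=
      (chart_le_iff y).1 (by rw [chart_under, chart_under]; exact (XA y D₀).basicOpen_le a)
    rw [← homIdeal_map y I₀ f h, Ideal.map_map, Ideal.map_map, ← CommRingCat.hom_comp, ← CommRingCat.hom_comp,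
      ← Functor.map_comp, ← Functor.map_comp]
    rfl

theorem ofHom_ideal (U : Y.affineOpens) : (ofHom y I₀ f).ideal (chart y D₀ U) = homIdeal y I₀ f U := by
  have h : U.1 ≤ (under y (chart y D₀ U)).1 := (chart_le_iff y).1 (by rw [chart_under])
  exact (congrArg (fun φ => (homIdeal y I₀ f (under y (chart y D₀ U))).map φ) rfl).trans (homIdeal_map y I₀ f h)

theorem flatOver_ofHom : FlatOver Y y D₀ (ofHom y I₀ f) :=
  flatOver_dual_of_ann y _ fun U z hz => by
    rw [ofHom_ideal] at hz ⊢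
    exact ann_homIdeal y I₀ f U z hz

theorem ofHom_incl : (ofHom y I₀ f).comap (XAincl y D₀) = I₀ :=
  Scheme.IdealSheafData.ext_of_iSup_eq_top (fun U : Y.affineOpens => U) (iSup_affineOpens_eq_top Y) fun U => by
    rw [GrothLib.BlowUp.ideal_comap_eq_map (ofHom y I₀ f) (XAincl y D₀) (chart y D₀ U) U (incl_preim y D₀ U.1).ge,
      ofHom_ideal]
    exact map_homIdeal y I₀ f U

theorem toHom_surjective : Function.Surjective (toHom y I₀) := fun f => by
  refine ⟨⟨ofHom y I₀ f, flatOver_ofHom y I₀ f, ofHom_incl y I₀ f⟩, rel_unique y I₀ (rel_toHom y I₀ _) ?_⟩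
  intro U z hz m hm
  rw [ofHom_ideal] at hz
  obtain ⟨m', hm', em⟩ := hz
  rwa [val_injective I₀ U.1 (hm.trans hm'.symm)]

end Surjective

/-- First-order deformations are the morphisms from the ideal to the quotient. -/
def tangentEquiv : (localHilb Y y I₀).obj D₀ ≃ (ClSub.idealMod I₀ ⟶ ClSub.quotMod I₀) :=
  Equiv.ofBijective (toHom y I₀) ⟨toHom_injective y I₀, toHom_surjective y I₀⟩

end GrothLib.LocalHilb26
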