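import Groth.Agent.Lib.LocalHilb26.SmallChart
import Groth.Agent.Lib.LocalHilb26.ModAux
import Groth.Agent.Lib.LocalHilb26.Tangent
import Groth.Agent.Lib.ArtFun.SmallExt
import Mathlib.AlgebraicGeometry.IdealSheaf.Functorial

/-!
# Lifting embedded deformations along small extensions when `Ext¹(I, O/I)` vanishes
-/

set_option autoImplicit false
set_option maxHeartbeats 400000
set_option backward.isDefEq.respectTransparency false
universe u

noncomputable section

open CategoryTheory CategoryTheory.Limits AlgebraicGeometry Opposite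

namespace GrothLib.LocalHilb26

open _root_.ArtFun _root_.ArtFun.Art GrothLib.IdealModSec

variable {k : Type u} [Field k] {Y : Scheme.{u}} (y : Y ⟶ specPt k)

/-- Restriction between charts. -/
abbrev rs (A : Art k k) {U V : Y.affineOpens} (h : V.1 ≤ U.1) :
    Γ(XA y A, (chart y A U).1) ⟶ Γ(XA y A, (chart y A V).1) :=
  (XA y A).presheaf.map (homOfLE ((pullback.fst y (specOver A)).preimage_mono h)).op

section NM

variable {A : Art k k} (K : (XA y A).IdealSheafData)

/-- The structure sheaf of a closed subscheme, as a module on `Y`. -/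
def NM : Y.Modules := (Scheme.Modules.pushforward (pullback.fst y (specOver A))).obj (ClSub.quotMod K)

/-- The class of a function. -/
def mkN (U : Y.Opens) (z : Γ(XA y A, preim y A U)) : Γ(NM y K, U) := (K.subschemeι.app (preim y A U)).hom z

theorem mkN_surjective (U : Y.affineOpens) : Function.Surjective (mkN y K U.1) :=
  K.subschemeι_app_surjective (chart y A U)

theorem mkN_eq_zero_iff (U : Y.affineOpens) (z : SR y A U) : mkN y K U.1 z = 0 ↔ z ∈ K.ideal (chart y A U) := by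
  rw [← K.ker_subschemeι_app (chart y A U)]
  exact Iff.rfl

theorem mkN_add (U : Y.Opens) (z w : Γ(XA y A, preim y A U)) : mkN y K U (z + w) = mkN y K U z + mkN y K U w :=
  map_add (K.subschemeι.app (preim y A U)).hom z w

theorem mkN_zero (U : Y.Opens) : mkN y K U 0 = 0 := map_zero (K.subschemeι.app (preim y A U)).hom

theorem mkN_sub (U : Y.Opens) (z w : Γ(XA y A, preim y A U)) : mkN y K U (z - w) = mkN y K U z - mkN y K U w :=
  map_sub (K.subschemeι.app (preim y A U)).hom z w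

theorem mkN_eq_iff (U : Y.affineOpens) (z w : SR y A U) :
    mkN y K U.1 z = mkN y K U.1 w ↔ z - w ∈ K.ideal (chart y A U) := by
  rw [← mkN_eq_zero_iff, mkN_sub, sub_eq_zero]

theorem mkN_smul (U : Y.affineOpens) (r : Γ(Y, U.1)) (z : SR y A U) :
    r • mkN y K U.1 z = mkN y K U.1 ((incI y A U).hom r * z) := by
  refine Eq.trans ?_ (map_mul (K.subschemeι.app (preim y A U.1)).hom _ _).symm
  rw [show (incI y A U).hom r = ((pullback.fst y (specOver A)).app U.1).hom r from
    (congrArg (fun φ : Γ(Y, U.1) ⟶ _ => φ.hom r) (Scheme.Hom.app_eq_appLE (pullback.fst y (specOver A)) (U := U.1))).symm]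
  rfl

theorem mkN_map {U V : Y.affineOpens} (h : V.1 ≤ U.1) (z : SR y A U) :
    (NM y K).presheaf.map (homOfLE h).op (mkN y K U.1 z) = mkN y K V.1 ((rs y A h).hom z) :=
  (ConcreteCategory.congr_hom
    (K.subschemeι.naturality (homOfLE ((pullback.fst y (specOver A)).preimage_mono h)).op) z).symm

theorem exists_hom_NM (M : Y.Modules) (g : ∀ U : Y.affineOpens, SR y A U → Γ(M, U.1))
    (hadd : ∀ U a b, g U (a + b) = g U a + g U b)
    (hK : ∀ U, ∀ z ∈ K.ideal (chart y A U), g U z = 0)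
    (hsmul : ∀ (U : Y.affineOpens) (r : Γ(Y, U.1)) z, g U ((incI y A U).hom r * z) = r • g U z)
    (hres : ∀ (U V : Y.affineOpens) (h : V.1 ≤ U.1) z,
      g V ((rs y A h).hom z) = M.presheaf.map (homOfLE h).op (g U z)) :
    ∃ f : NM y K ⟶ M, ∀ (U : Y.affineOpens) z, f.app U.1 (mkN y K U.1 z) = g U z :=
  exists_hom_of_surj (fun U => SR y A U) (fun U => mkN y K U.1) g (mkN_surjective y K)
    (fun U a b h => by
      have h1 : a = (a - b) + b := (sub_add_cancel a b).symm
      rw [h1, hadd, hK U _ ((mkN_eq_iff y K U a b).1 h), zero_add])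
    (fun U a b => ⟨a + b, mkN_add y K U.1 a b, hadd U a b⟩)
    (fun U r a => ⟨_, (mkN_smul y K U r a).symm, hsmul U r a⟩)
    (fun U V h a => ⟨_, (mkN_map y K h a).symm, hres U V h a⟩)

end NM

variable (I₀ : Y.IdealSheafData) {A' A : Art k k} (p : A' ⟶ A) (I : (localHilb Y y I₀).obj A)

/-- The preimage ideal upstairs. -/
def Ps : (XA y A').IdealSheafData := I.1.map (XAmap y p)

instance isClosedImmersion_XAincl : IsClosedImmersion (XAincl y A') :=
  haveI : IsClosedImmersion (specRes A') := IsClosedImmersion.spec_of_surjective _ A'.res_surjective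
  MorphismProperty.of_isPullback (isPullback_XAincl y A').flip inferInstance

/-- The preimage ideal times the ideal of the closed fibre. -/
def Qs : (XA y A').IdealSheafData := (XAincl y A').ker * Ps y I₀ p I

theorem Ps_ideal (U : Y.affineOpens) :
    (Ps y I₀ p I).ideal (chart y A' U) = (I.1.ideal (chart y A U)).comap (res y p U).hom :=
  ideal_map y p I.1 U

theorem mem_Ps {U : Y.affineOpens} {z : SR y A' U} :
    z ∈ (Ps y I₀ p I).ideal (chart y A' U) ↔ (res y p U).hom z ∈ I.1.ideal (chart y A U) := by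
  rw [Ps_ideal, Ideal.mem_comap]

theorem ker_XAincl_ideal (U : Y.affineOpens) :
    (XAincl y A').ker.ideal (chart y A' U) = RingHom.ker (fibP y A' U).hom := by
  rw [Scheme.Hom.ker_apply, fibP, Scheme.Hom.appLE, CommRingCat.hom_comp]
  refine (RingHom.ker_comp_of_injective _ ?_).symm
  exact (ConcreteCategory.bijective_of_isIso (Y.presheaf.map
    (eqToHom (congrArg op (incl_preim y A' U.1) : op _ = op _)))).1

theorem Qs_ideal (U : Y.affineOpens) : (Qs y I₀ p I).ideal (chart y A' U) =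
    (IsLocalRing.maximalIdeal A'.carrier).map (str y A' U).hom * (I.1.ideal (chart y A U)).comap (res y p U).hom := by
  rw [Qs, Scheme.IdealSheafData.ideal_mul, Pi.mul_apply, Ps_ideal, ker_XAincl_ideal, ker_fibP]

theorem Qs_le (U : Y.affineOpens) : (Qs y I₀ p I).ideal (chart y A' U) ≤ (Ps y I₀ p I).ideal (chart y A' U) := by
  rw [Qs_ideal, Ps_ideal]
  exact Ideal.mul_le_right (I := (IsLocalRing.maximalIdeal A'.carrier).map (str y A' U).hom)

theorem fibP_eq_zero_of_Qs {U : Y.affineOpens} {z : SR y A' U} (hz : z ∈ (Qs y I₀ p I).ideal (chart y A' U)) :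
    (fibP y A' U).hom z = 0 := by
  have h1 := (Qs_ideal y I₀ p I U).le hz
  have h2 := Ideal.mul_le_left (I := (IsLocalRing.maximalIdeal A'.carrier).map (str y A' U).hom) h1
  rw [← RingHom.mem_ker, ker_fibP]
  exact h2

theorem fibP_rs {B : Art k k} {U V : Y.affineOpens} (h : V.1 ≤ U.1) (z : SR y B U) :
    (fibP y B V).hom ((rs y B h).hom z) = Y.presheaf.map (homOfLE h).op ((fibP y B U).hom z) :=
  ConcreteCategory.congr_hom (fibP_map y B h) z

theorem incI_rs {B : Art k k} {U V : Y.affineOpens} (h : V.1 ≤ U.1) (a : Γ(Y, U.1)) :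
    (rs y B h).hom ((incI y B U).hom a) = (incI y B V).hom (Y.presheaf.map (homOfLE h).op a) :=
  ConcreteCategory.congr_hom (incI_map y B h) a

theorem fibP_mem_of_Ps {U : Y.affineOpens} {z : SR y A' U} (hz : z ∈ (Ps y I₀ p I).ideal (chart y A' U)) :
    (fibP y A' U).hom z ∈ I₀.ideal U := by
  rw [← ConcreteCategory.congr_hom (res_fibP y p U) z, ← ideal_incl y I₀ I.1 I.2.2 U]
  exact Ideal.mem_map_of_mem _ ((mem_Ps y I₀ p I).1 hz)

/-- The generator of the kernel on a chart. -/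
abbrev tE {t : A'.carrier} (U : Y.affineOpens) : SR y A' U := (str y A' U).hom t

/-- The affine open of `Y` under an affine open of `Y ×_k Spec A`. -/
def under' {B : Art k k} (V : (XA y B).affineOpens) : Y.affineOpens := (exists_chart_eq' y B V).choose

theorem chart_under' {B : Art k k} (V : (XA y B).affineOpens) : chart y B (under' y V) = V :=
  (exists_chart_eq' y B V).choose_spec

section Gen

variable (K : (XA y A').IdealSheafData) (hKP : ∀ U, K.ideal (chart y A' U) ≤ (Ps y I₀ p I).ideal (chart y A' U))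

include hKP in
theorem exists_qHom : ∃ f : NM y K ⟶ NM y (Ps y I₀ p I),
    ∀ (U : Y.affineOpens) z, f.app U.1 (mkN y _ U.1 z) = mkN y _ U.1 z :=
  exists_hom_NM y K _ (fun U z => mkN y _ U.1 z) (fun U => mkN_add y _ U.1)
    (fun U z hz => (mkN_eq_zero_iff y _ U z).2 (hKP U hz))
    (fun U r z => (mkN_smul y _ U r z).symm) (fun U V h z => (mkN_map y _ h z).symm)

/-- `O/K → O/P`. -/
def qHom : NM y K ⟶ NM y (Ps y I₀ p I) := (exists_qHom y I₀ p I K hKP).choose

theorem qHom_mk (U : Y.affineOpens) (z : SR y A' U) :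
    (qHom y I₀ p I K hKP).app U.1 (mkN y _ U.1 z) = mkN y _ U.1 z := (exists_qHom y I₀ p I K hKP).choose_spec U z

/-- The module `P/K`. -/
def extMod : Y.Modules := kernel (qHom y I₀ p I K hKP)

/-- Its inclusion in `O/K`. -/
def extι : extMod y I₀ p I K hKP ⟶ NM y K := kernel.ι (qHom y I₀ p I K hKP)

theorem extι_injective (U : Y.Opens) : Function.Injective ((extι y I₀ p I K hKP).app U) :=
  (app_kernel (qHom y I₀ p I K hKP) U).1

theorem exists_extι_eq {U : Y.affineOpens} {z : SR y A' U} (hz : z ∈ (Ps y I₀ p I).ideal (chart y A' U)) :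
    ∃ e, (extι y I₀ p I K hKP).app U.1 e = mkN y _ U.1 z :=
  (app_kernel (qHom y I₀ p I K hKP) U.1).2 _ (by rw [qHom_mk, mkN_eq_zero_iff]; exact hz)

theorem exists_rep (U : Y.affineOpens) (e : Γ(extMod y I₀ p I K hKP, U.1)) :
    ∃ z ∈ (Ps y I₀ p I).ideal (chart y A' U), (extι y I₀ p I K hKP).app U.1 e = mkN y _ U.1 z := by
  obtain ⟨z, hz⟩ := mkN_surjective y K U ((extι y I₀ p I K hKP).app U.1 e)
  refine ⟨z, (mkN_eq_zero_iff y _ U z).1 ?_, hz.symm⟩
  rw [← qHom_mk y I₀ p I K hKP, hz, ← app_comp_apply,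
    show extι y I₀ p I K hKP ≫ qHom y I₀ p I K hKP = 0 from kernel.condition _]
  rfl

variable (hQK : ∀ U, (Qs y I₀ p I).ideal (chart y A' U) ≤ K.ideal (chart y A' U))

include hQK in
theorem mul_sub_mem {U : Y.affineOpens} {z : SR y A' U} (hz : z ∈ (Ps y I₀ p I).ideal (chart y A' U))
    (c : SR y A' U) : (incI y A' U).hom ((fibP y A' U).hom c) * z - c * z ∈ K.ideal (chart y A' U) := by
  refine hQK U ?_
  rw [← sub_mul, Qs_ideal]
  refine Ideal.mul_mem_mul ?_ ((mem_Ps y I₀ p I).1 hz)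
  rw [← ker_fibP, RingHom.mem_ker, map_sub, fibP_incI, sub_self]

end Gen

section Lift

variable (K : (XA y A').IdealSheafData) (hKP : ∀ U, K.ideal (chart y A' U) ≤ (Ps y I₀ p I).ideal (chart y A' U))
  (hQK : ∀ U, (Qs y I₀ p I).ideal (chart y A' U) ≤ K.ideal (chart y A' U))
  (σ : ClSub.idealMod I₀ ⟶ extMod y I₀ p I K hKP)

/-- The chart ideal of the lift attached to a map `σ`. -/
def secIdeal (U : Y.affineOpens) : Ideal (SR y A' U) where
  carrier := {z | z ∈ (Ps y I₀ p I).ideal (chart y A' U) ∧ ∃ m : Γ(ClSub.idealMod I₀, U.1),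
    val I₀ U.1 m = (fibP y A' U).hom z ∧ (extι y I₀ p I K hKP).app U.1 (σ.app U.1 m) = mkN y _ U.1 z}
  zero_mem' := ⟨Ideal.zero_mem _, 0, (val_zero I₀ U.1).trans (map_zero _).symm, by
    rw [map_zero, map_zero, mkN_zero]⟩
  add_mem' := fun {z w} ⟨hz, m, hm, em⟩ ⟨hw, n, hn, en⟩ => ⟨Ideal.add_mem _ hz hw, m + n,
    (map_add ((ClSub.idealModι I₀).app U.1).hom m n).trans ((congrArg₂ (· + ·) hm hn).trans (map_add _ _ _).symm),
    by rw [map_add, map_add, em, en, mkN_add]⟩
  smul_mem' := fun c z ⟨hz, m, hm, em⟩ => ⟨Ideal.mul_mem_left _ c hz, (fibP y A' U).hom c • m,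
    by rw [val_smul, hm, smul_eq_mul, map_mul], by
    rw [Scheme.Modules.Hom.app_smul, Scheme.Modules.Hom.app_smul, em, mkN_smul, mkN_eq_iff, smul_eq_mul]
    exact mul_sub_mem y I₀ p I K hQK hz c⟩

variable {t : A'.carrier} (hp : Function.Surjective p) (ht : RingHom.ker p.toAlgHom = Ideal.span {t}) (ht0 : t ≠ 0)
  (hmax : ∀ a ∈ IsLocalRing.maximalIdeal A'.carrier, a * t = 0)
  (hinj : ∀ (U : Y.affineOpens) (a : Γ(Y, U.1)),
    tE y (t := t) U * (incI y A' U).hom a ∈ K.ideal (chart y A' U) → a ∈ I₀.ideal U)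
  (hσ : ∀ (U : Y.affineOpens) (m : Γ(ClSub.idealMod I₀, U.1)), ∃ z ∈ (Ps y I₀ p I).ideal (chart y A' U),
    (extι y I₀ p I K hKP).app U.1 (σ.app U.1 m) = mkN y _ U.1 z ∧ (fibP y A' U).hom z = val I₀ U.1 m)
  (hσK : ∀ (U : Y.affineOpens) (m : Γ(ClSub.idealMod I₀, U.1)),
    ∀ z ∈ K.ideal (chart y A' U), val I₀ U.1 m = (fibP y A' U).hom z → σ.app U.1 m = 0)

include hQK hp ht ht0 hmax hinj hσ hσK in
theorem secIdeal_spec (U : Y.affineOpens) :
    (secIdeal y I₀ p I K hKP hQK σ U).map (res y p U).hom = I.1.ideal (chart y A U) ∧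
      ∀ a, tE y (t := t) U * (incI y A' U).hom a ∈ secIdeal y I₀ p I K hKP hQK σ U →
        a ∈ (I.1.ideal (chart y A U)).map (fibP y A U).hom := by
  letI := strAlgebra y A' U
  letI := strAlgebra y A U
  have hS := isSmallLift y p hp ht ht0 hmax U
  haveI := flat_SR y A' U
  haveI := flat_SR y A U
  haveI := flat_quot y I.2.1 U
  refine ⟨hS.map_eq_of_split (I := I.1.ideal (chart y A U)) (fun z hz => (mem_Ps y I₀ p I).1 hz.1) (fun z hz => ?_)
    fun z hz => ?_, fun a ha => ?_⟩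
  · have hzK : z ∈ K.ideal (chart y A' U) := hQK U ((Qs_ideal y I₀ p I U).ge hz)
    obtain ⟨m, hm⟩ := exists_val_eq I₀ U (fibP_mem_of_Ps y I₀ p I (hKP U hzK))
    exact ⟨hKP U hzK, m, hm, by rw [hσK U m z hzK hm, map_zero, eq_comm, mkN_eq_zero_iff]; exact hzK⟩
  · obtain ⟨m, hm⟩ := exists_val_eq I₀ U (fibP_mem_of_Ps y I₀ p I ((mem_Ps y I₀ p I).2 hz))
    obtain ⟨z', hz', he, e1⟩ := hσ U m
    exact ⟨z', ⟨hz', m, e1.symm, he⟩, e1.trans hm⟩
  · obtain ⟨-, m, hm, em⟩ := ha
    have hA : Nontrivial A.carrier := inferInstance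
    rw [map_mul, show (fibP y A' U).hom (tE y (t := t) U) = 0 from hS.π'_algebraMap hS.t_mem, zero_mul,
      ← val_zero I₀ U.1] at hm
    rw [val_injective I₀ U.1 hm, map_zero, map_zero, eq_comm, mkN_eq_zero_iff] at em
    rw [ideal_incl y I₀ I.1 I.2.2 U]
    exact hinj U a em

include hQK hp ht ht0 hmax hinj hσ hσK in
theorem secIdeal_map {U V : Y.affineOpens} (h : V.1 ≤ U.1) :
    (secIdeal y I₀ p I K hKP hQK σ U).map (rs y A' h).hom = secIdeal y I₀ p I K hKP hQK σ V := by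
  letI := strAlgebra y A' V
  letI := strAlgebra y A V
  have hS := isSmallLift y p hp ht ht0 hmax V
  have hV := secIdeal_spec y I₀ p I K hKP hQK σ hp ht ht0 hmax hinj hσ hσK V
  refine hS.eq_of_le (I := I.1.ideal (chart y A V)) ?_ ?_ hV.1 hV.2
  · refine Ideal.map_le_iff_le_comap.2 fun z hz => ?_
    obtain ⟨hzP, m, hm, em⟩ := hz
    refine ⟨(Ps y I₀ p I).ideal_le_comap_ideal (U := chart y A' V) (V := chart y A' U)
        ((pullback.fst y (specOver A')).preimage_mono h) hzP, (ClSub.idealMod I₀).presheaf.map (homOfLE h).op m,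
      (val_mres I₀ h m).trans ((congrArg (Y.presheaf.map (homOfLE h).op) hm).trans (fibP_rs y h z).symm), ?_⟩
    rw [app_map, app_map, em, mkN_map]
  · rw [Ideal.map_map, show (res y p V).hom.comp (rs y A' h).hom = (rs y A h).hom.comp (res y p U).hom from
      congrArg CommRingCat.Hom.hom (res_map y p h).symm, ← Ideal.map_map,
      (secIdeal_spec y I₀ p I K hKP hQK σ hp ht ht0 hmax hinj hσ hσK U).1]
    exact I.1.map_ideal ((pullback.fst y (specOver A)).preimage_mono h)

/-- The lift attached to a map. -/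
def ofSection : (XA y A').IdealSheafData where
  ideal V := (secIdeal y I₀ p I K hKP hQK σ (under' y V)).map
    ((XA y A').presheaf.map (homOfLE (congrArg Subtype.val (chart_under' y V)).ge).op).hom
  map_ideal_basicOpen V a := by
    have h : (under' y ((XA y A').affineBasicOpen a)).1 ≤ (under' y V).1 :=
      (chart_le_iff' y).1 (by rw [chart_under', chart_under']; exact (XA y A').basicOpen_le a)
    rw [← secIdeal_map y I₀ p I K hKP hQK σ hp ht ht0 hmax hinj hσ hσK h, Ideal.map_map, Ideal.map_map,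
      ← CommRingCat.hom_comp, ← CommRingCat.hom_comp, ← Functor.map_comp, ← Functor.map_comp]
    rfl

include hQK hp ht ht0 hmax hinj hσ hσK in
theorem exists_lift_of_section : ∃ I' : (localHilb Y y I₀).obj A', (localHilb Y y I₀).map p I' = I := by
  let J := ofSection y I₀ p I K hKP hQK σ hp ht ht0 hmax hinj hσ hσK
  have hJ : ∀ U, J.ideal (chart y A' U) = secIdeal y I₀ p I K hKP hQK σ U := fun U => by
    have h : U.1 ≤ (under' y (chart y A' U)).1 := (chart_le_iff' y).1 (by rw [chart_under'])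
    exact (congrArg (fun φ => (secIdeal y I₀ p I K hKP hQK σ (under' y (chart y A' U))).map φ) rfl).trans
      (secIdeal_map y I₀ p I K hKP hQK σ hp ht ht0 hmax hinj hσ hσK h)
  have hflat : FlatOver Y y A' J := (flatOver_iff y A' J).2 fun U => by
    rw [hJ]
    letI := strAlgebra y A' U
    letI := strAlgebra y A U
    have hS := isSmallLift y p hp ht ht0 hmax U
    haveI := flat_SR y A' U
    haveI := flat_SR y A U
    haveI := flat_quot y I.2.1 U
    obtain ⟨h1, h2⟩ := secIdeal_spec y I₀ p I K hKP hQK σ hp ht ht0 hmax hinj hσ hσK U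
    haveI := hS.flat_quotient_lift h1 h2
    exact RingHom.flat_algebraMap_iff.2
      (inferInstanceAs (Module.Flat A'.carrier (SR y A' U ⧸ secIdeal y I₀ p I K hKP hQK σ U)))
  have hcomap : J.comap (XAmap y p) = I.1 :=
    Scheme.IdealSheafData.ext_of_iSup_eq_top (chart y A) (iSup_chart y A) fun U => by
      rw [ideal_comap, hJ, (secIdeal_spec y I₀ p I K hKP hQK σ hp ht ht0 hmax hinj hσ hσK U).1]
  refine ⟨⟨J, hflat, ?_⟩, Subtype.ext hcomap⟩
  rw [← XAincl_XAmap y p, Scheme.IdealSheafData.comap_comp, hcomap, I.2.2]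

end Lift

theorem exists_r0 : ∃ f : NM y (Qs y I₀ p I) ⟶ Coh.structureModule Y,
    ∀ (U : Y.affineOpens) z, f.app U.1 (mkN y _ U.1 z) = (fibP y A' U).hom z :=
  exists_hom_NM y (Qs y I₀ p I) (Coh.structureModule Y) (fun U z => (fibP y A' U).hom z) (fun U a b => map_add (fibP y A' U).hom a b)
    (fun U z hz => fibP_eq_zero_of_Qs y I₀ p I hz)
    (fun U r z => (map_mul (fibP y A' U).hom _ z).trans (congrArg (· * _) (fibP_incI y A' U r)))
    (fun U V h z => fibP_rs y h z)

/-- Restriction to the closed fibre. -/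
def r0 : NM y (Qs y I₀ p I) ⟶ Coh.structureModule Y := (exists_r0 y I₀ p I).choose

theorem r0_mk (U : Y.affineOpens) (z : SR y A' U) :
    (r0 y I₀ p I).app U.1 (mkN y _ U.1 z) = (fibP y A' U).hom z := (exists_r0 y I₀ p I).choose_spec U z

/-- The quotient `P/Q → I₀`. -/
def extπ : extMod y I₀ p I (Qs y I₀ p I) (Qs_le y I₀ p I) ⟶ ClSub.idealMod I₀ :=
  kernel.lift _ (extι y I₀ p I (Qs y I₀ p I) (Qs_le y I₀ p I) ≫ r0 y I₀ p I) (AffHom.hom_ext fun U e => by
    obtain ⟨z, hz, he⟩ := exists_rep y I₀ p I (Qs y I₀ p I) (Qs_le y I₀ p I) U e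
    show (ClSub.toSubscheme I₀).app U.1 ((r0 y I₀ p I).app U.1 ((extι y I₀ p I (Qs y I₀ p I) (Qs_le y I₀ p I)).app U.1 e)) = 0
    rw [he, r0_mk]
    have h1 := fibP_mem_of_Ps y I₀ p I hz
    rw [← I₀.ker_subschemeι_app U] at h1
    exact h1)

theorem val_extπ (W : Y.Opens) (e : Γ(extMod y I₀ p I (Qs y I₀ p I) (Qs_le y I₀ p I), W)) :
    val I₀ W ((extπ y I₀ p I).app W e) = (r0 y I₀ p I).app W ((extι y I₀ p I (Qs y I₀ p I) (Qs_le y I₀ p I)).app W e) := by
  show (extπ y I₀ p I ≫ ClSub.idealModι I₀).app W e = _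
  rw [extπ, ClSub.idealModι, kernel.lift_ι]
  rfl

theorem val_extπ_rep {U : Y.affineOpens} {e : Γ(extMod y I₀ p I (Qs y I₀ p I) (Qs_le y I₀ p I), U.1)} {z : SR y A' U}
    (he : (extι y I₀ p I (Qs y I₀ p I) (Qs_le y I₀ p I)).app U.1 e = mkN y _ U.1 z) :
    val I₀ U.1 ((extπ y I₀ p I).app U.1 e) = (fibP y A' U).hom z := by
  rw [val_extπ, he, r0_mk]

section Small

variable {t : A'.carrier} (hp : Function.Surjective p) (ht : RingHom.ker p.toAlgHom = Ideal.span {t}) (ht0 : t ≠ 0)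
  (hmax : ∀ a ∈ IsLocalRing.maximalIdeal A'.carrier, a * t = 0)

include hp ht ht0 hmax in
theorem incl_tE_mem {U : Y.affineOpens} {a : Γ(Y, U.1)} (ha : a ∈ I₀.ideal U) :
    tE y (t := t) U * (incI y A' U).hom a ∈ (Qs y I₀ p I).ideal (chart y A' U) := by
  letI := strAlgebra y A' U
  letI := strAlgebra y A U
  have hS := isSmallLift y p hp ht ht0 hmax U
  rw [← ideal_incl y I₀ I.1 I.2.2 U] at ha
  obtain ⟨z, hz, rfl⟩ := hS.exists_π'_eq ha
  rw [Qs_ideal]
  haveI : Nontrivial A.carrier := inferInstance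
  exact (hS.t_mul_iota z).symm ▸ Ideal.mul_mem_mul (Ideal.mem_map_of_mem _ hS.t_mem) hz

include hp ht in
theorem tE_mem_Ps (U : Y.affineOpens) (c : SR y A' U) :
    tE y (t := t) U * c ∈ (Ps y I₀ p I).ideal (chart y A' U) := by
  rw [mem_Ps, map_mul, res_str]
  have : p.toAlgHom t = 0 := by
    rw [← RingHom.mem_ker, ht]
    exact Ideal.mem_span_singleton_self t
  rw [this, map_zero, zero_mul]
  exact Ideal.zero_mem _

section Inc

variable (K : (XA y A').IdealSheafData) (hKP : ∀ U, K.ideal (chart y A' U) ≤ (Ps y I₀ p I).ideal (chart y A' U))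
  (hQK : ∀ U, (Qs y I₀ p I).ideal (chart y A' U) ≤ K.ideal (chart y A' U))

include hp ht ht0 hmax hQK in
theorem exists_extInc : ∃ f : ClSub.quotMod I₀ ⟶ extMod y I₀ p I K hKP, ∀ (U : Y.affineOpens) a,
    (extι y I₀ p I K hKP).app U.1 (f.app U.1 (qr I₀ U.1 a)) =
      mkN y _ U.1 (tE y (t := t) U * (incI y A' U).hom a) := by
  obtain ⟨f, hf⟩ := exists_hom_of_surj (M := ClSub.quotMod I₀) (N := NM y K)
    (fun U => Γ(Y, U.1)) (fun U => qr I₀ U.1)
    (fun U a => mkN y _ U.1 (tE y (t := t) U * (incI y A' U).hom a))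
    (qr_surjective I₀)
    (fun U a b h => by
      rw [mkN_eq_iff, ← mul_sub, ← map_sub]
      exact hQK U <| incl_tE_mem y I₀ p I hp ht ht0 hmax ((qr_eq_iff I₀ U a b).1 h))
    (fun U a b => ⟨a + b, qr_add I₀ U.1 a b, by rw [map_add, mul_add, mkN_add]⟩)
    (fun U r a => ⟨r * a, qr_mul I₀ U.1 r a, by rw [mkN_smul, map_mul, mul_left_comm]⟩)
    (fun U V h a => ⟨_, (qr_map I₀ h a).symm, by
      rw [mkN_map, map_mul, incI_rs]
      exact congrArg (fun s => mkN y _ V.1 (s * _)) (ConcreteCategory.congr_hom (str_map y A' h) t).symm⟩)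
  refine ⟨kernel.lift _ f (AffHom.hom_ext fun U m => ?_), fun U a => ?_⟩
  · obtain ⟨a, rfl⟩ := qr_surjective I₀ U m
    show (qHom y I₀ p I K hKP).app U.1 (f.app U.1 (qr I₀ U.1 a)) = 0
    rw [hf, qHom_mk, mkN_eq_zero_iff]
    exact tE_mem_Ps y I₀ p I hp ht U _
  · show (kernel.lift _ f _ ≫ kernel.ι (qHom y I₀ p I K hKP)).app U.1 (qr I₀ U.1 a) = _
    rw [kernel.lift_ι, hf]

/-- The inclusion `O/I₀ → P/Q`, multiplication by `t`. -/
def extInc : ClSub.quotMod I₀ ⟶ extMod y I₀ p I K hKP := (exists_extInc y I₀ p I hp ht ht0 hmax K hKP hQK).choose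

theorem extInc_spec (U : Y.affineOpens) (a : Γ(Y, U.1)) :
    (extι y I₀ p I K hKP).app U.1 ((extInc y I₀ p I hp ht ht0 hmax K hKP hQK).app U.1 (qr I₀ U.1 a)) =
      mkN y _ U.1 (tE y (t := t) U * (incI y A' U).hom a) :=
  (exists_extInc y I₀ p I hp ht ht0 hmax K hKP hQK).choose_spec U a

end Inc

theorem extInc_extπ : extInc y I₀ p I hp ht ht0 hmax (Qs y I₀ p I) (Qs_le y I₀ p I) (fun _ => le_rfl) ≫ extπ y I₀ p I = 0 := by
  refine AffHom.hom_ext fun U m => val_injective I₀ U.1 ?_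
  obtain ⟨a, rfl⟩ := qr_surjective I₀ U m
  rw [app_comp_apply, val_extπ_rep y I₀ p I (extInc_spec y I₀ p I hp ht ht0 hmax (Qs y I₀ p I) (Qs_le y I₀ p I) (fun _ => le_rfl) U a), app_zero_hom, val_zero,
    map_mul, fibP_str]
  have : A'.res t = 0 := by
    rw [← res_app p t]
    rw [show p t = 0 from (RingHom.mem_ker).1 (ht.ge (Ideal.mem_span_singleton_self t)), map_zero]
  rw [this, map_zero, zero_mul]

theorem shortExact_ext : (ShortComplex.mk _ _ (extInc_extπ y I₀ p I hp ht ht0 hmax)).ShortExact := by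
  refine shortExact_of_affine _ _ _ (fun U => ?_) (fun U m => ?_) fun U e he => ?_
  all_goals letI := strAlgebra y A' U
  all_goals letI := strAlgebra y A U
  all_goals have hS := isSmallLift y p hp ht ht0 hmax U
  all_goals haveI := flat_SR y A' U
  all_goals haveI := flat_SR y A U
  all_goals haveI := flat_quot y I.2.1 U
  · rw [injective_iff_map_eq_zero]
    intro m hm
    obtain ⟨a, rfl⟩ := qr_surjective I₀ U m
    rw [← qr_zero I₀ U.1, qr_eq_iff, sub_zero, ← ideal_incl y I₀ I.1 I.2.2 U]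
    refine hS.mem_of_t_mul_mem (I := I.1.ideal (chart y A U)) ((Qs_ideal y I₀ p I U).le ?_)
    rw [← mkN_eq_zero_iff]
    refine (extInc_spec y I₀ p I hp ht ht0 hmax (Qs y I₀ p I) (Qs_le y I₀ p I) (fun _ => le_rfl) U a).symm.trans ?_
    rw [hm, map_zero]
  · have hm := val_mem I₀ U m
    rw [← ideal_incl y I₀ I.1 I.2.2 U] at hm
    obtain ⟨z, hz, hz'⟩ := hS.exists_π'_eq hm
    obtain ⟨e, he⟩ := exists_extι_eq y I₀ p I (Qs y I₀ p I) (Qs_le y I₀ p I) ((mem_Ps y I₀ p I).2 hz)
    exact ⟨e, val_injective I₀ U.1 ((val_extπ_rep y I₀ p I he).trans hz')⟩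
  · obtain ⟨z, hz, hze⟩ := exists_rep y I₀ p I (Qs y I₀ p I) (Qs_le y I₀ p I) U e
    have h0 : (fibP y A' U).hom z = 0 := by rw [← val_extπ_rep y I₀ p I hze, he, val_zero]
    obtain ⟨r, hr⟩ := hS.exists_sub_mem (I := I.1.ideal (chart y A U)) ((mem_Ps y I₀ p I).1 hz) h0
    refine ⟨qr I₀ U.1 ((fibP y A' U).hom r), extι_injective y I₀ p I (Qs y I₀ p I) (Qs_le y I₀ p I) U.1 ?_⟩
    rw [extInc_spec, hze, eq_comm, mkN_eq_iff, Qs_ideal]
    rw [show tE y (t := t) U * (incI y A' U).hom ((fibP y A' U).hom r) = tE y (t := t) U * r from hS.t_mul_iota r]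
    exact hr

end Small

/-- Vanishing `Ext¹` gives lifts along small extensions. -/
theorem surjective_map_of_subsingleton_ext [HasExt.{u} Y.Modules]
    (h : Subsingleton (Abelian.Ext.{u} (ClSub.idealMod I₀) (ClSub.quotMod I₀) 1))
    (hp : Art.IsSmallExt p) : Function.Surjective ((localHilb Y y I₀).map p) := by
  intro J
  obtain ⟨t, ht, ht0, hmax, -⟩ := GrothLib.ArtFun.smallExt_exists_gen hp
  obtain ⟨σ, hσ⟩ := exists_section_of_subsingleton_ext (shortExact_ext y I₀ p J hp.1 ht ht0 hmax) h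
  refine exists_lift_of_section y I₀ p J _ (Qs_le y I₀ p J) (fun _ => le_rfl) σ hp.1 ht ht0 hmax (fun U a ha => ?_)
    (fun U m => ?_) fun U m z hz hm => ?_
  · letI := strAlgebra y A' U
    letI := strAlgebra y A U
    haveI := flat_SR y A' U
    haveI := flat_SR y A U
    haveI := flat_quot y J.2.1 U
    rw [← ideal_incl y I₀ J.1 J.2.2 U]
    exact (isSmallLift y p hp.1 ht ht0 hmax U).mem_of_t_mul_mem (I := J.1.ideal (chart y A U))
      ((Qs_ideal y I₀ p J U).le ha)
  · obtain ⟨z, hz, he⟩ := exists_rep y I₀ p J (Qs y I₀ p J) (Qs_le y I₀ p J) U (σ.app U.1 m)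
    refine ⟨z, hz, he, ?_⟩
    rw [← val_extπ_rep y I₀ p J he, ← app_comp_apply, hσ]
    rfl
  · rw [fibP_eq_zero_of_Qs y I₀ p J hz, ← val_zero I₀ U.1] at hm
    rw [val_injective I₀ U.1 hm, map_zero]

end GrothLib.LocalHilb26
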