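import Groth.Agent.Lib.Flatness.Artinian
import Mathlib.RingTheory.Flat.EquationalCriterion
import Mathlib.RingTheory.LocalRing.Module
import Mathlib.RingTheory.Artinian.Module
import Mathlib.LinearAlgebra.Basis.Basic
import Mathlib.RingTheory.Finiteness.Ideal

/-!
# Ideals with flat quotient along a small extension
-/

set_option autoImplicit false
universe u

open IsLocalRing

namespace GrothLib.LocalHilb26

/-- A flat module over an Artinian local ring is free. -/
theorem free_of_flat_artinian {A M : Type u} [CommRing A] [IsLocalRing A] [IsArtinianRing A]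
    [AddCommGroup M] [Module A M] [Module.Flat A M] : Module.Free A M := by
  have hnil : IsNilpotent (maximalIdeal A) := by
    have := IsArtinianRing.isNilpotent_jacobson_bot (R := A)
    rwa [IsLocalRing.jacobson_eq_maximalIdeal (⊥ : Ideal A) bot_ne_top] at this
  obtain ⟨ι, v, b, hb, hspan⟩ := GrothLib.Flatness.exists_basisLift (M := M) hnil
  refine Module.Free.of_basis (Module.Basis.mk
    (Module.IsLocalRing.linearIndependent_of_flat v ?_) hspan.ge)
  have : TensorProduct.mk A (ResidueField A) M 1 ∘ v = b := funext hb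
  rw [this]
  exact b.linearIndependent

variable {A' A R' R B : Type u} [CommRing A'] [CommRing A] [CommRing R'] [CommRing R] [CommRing B]
  [IsLocalRing A'] [Algebra A' R'] [Algebra A R]

/-- Rings over a small extension `A' → A = A' / (t)` and their common reduction. -/
structure IsSmallLift (p : A' →+* A) (t : A') (res : R' →+* R) (π' : R' →+* B) (π : R →+* B) (ι : B →+* R') :
    Prop where
  p_surj : Function.Surjective p
  ker_p : RingHom.ker p = Ideal.span {t}
  t_ne : t ≠ 0
  max_t : ∀ a ∈ maximalIdeal A', a * t = 0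
  compat : ∀ a, res (algebraMap A' R' a) = algebraMap A R (p a)
  res_surj : Function.Surjective res
  ker_res : RingHom.ker res ≤ Ideal.span {algebraMap A' R' t}
  π_res : ∀ z, π (res z) = π' z
  π_ι : ∀ b, π' (ι b) = b
  ker_π' : RingHom.ker π' = (maximalIdeal A').map (algebraMap A' R')

namespace IsSmallLift

variable {p : A' →+* A} {t : A'} {res : R' →+* R} {π' : R' →+* B} {π : R →+* B} {ι : B →+* R'}
  (h : IsSmallLift p t res π' π ι)

include h

theorem p_t : p t = 0 := by
  rw [← RingHom.mem_ker, h.ker_p]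
  exact Ideal.mem_span_singleton_self t

theorem t_mem [Nontrivial A] : t ∈ maximalIdeal A' := fun ht => by
  have := ht.map p
  rw [h.p_t] at this
  exact not_isUnit_zero this

theorem res_t : res (algebraMap A' R' t) = 0 := by rw [h.compat, h.p_t, map_zero]

theorem exists_of_res_eq_zero {z : R'} (hz : res z = 0) : ∃ r, z = algebraMap A' R' t * r := by
  obtain ⟨r, hr⟩ := Ideal.mem_span_singleton'.1 (h.ker_res hz)
  exact ⟨r, by rw [← hr, mul_comm]⟩

theorem t_mul_eq_zero {z : R'} (hz : π' z = 0) : algebraMap A' R' t * z = 0 := by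
  rw [← RingHom.mem_ker, h.ker_π'] at hz
  induction hz using Submodule.span_induction with
  | mem x hx =>
    obtain ⟨a, ha, rfl⟩ := hx
    rw [← map_mul, mul_comm t a, h.max_t a ha, map_zero]
  | zero => rw [mul_zero]
  | add x y _ _ hx hy => rw [mul_add, hx, hy, add_zero]
  | smul c x _ hx => rw [smul_eq_mul, mul_left_comm, hx, mul_zero]

theorem t_mul_iota (z : R') : algebraMap A' R' t * ι (π' z) = algebraMap A' R' t * z := by
  rw [← sub_eq_zero, ← mul_sub]
  exact h.t_mul_eq_zero (by rw [map_sub, h.π_ι, sub_self])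

theorem π'_algebraMap {a : A'} (ha : a ∈ maximalIdeal A') : π' (algebraMap A' R' a) = 0 := by
  rw [← RingHom.mem_ker, h.ker_π']
  exact Ideal.mem_map_of_mem _ ha

theorem eq_zero_of_t_mul [Module.Flat A' R'] {z : R'} (hz : algebraMap A' R' t * z = 0) : π' z = 0 := by
  have hrel : ∑ i : Fin 1, (fun _ => t) i • (fun _ => z) i = 0 := by
    rw [Fin.sum_univ_one, Algebra.smul_def, hz]
  obtain ⟨l, a, w, hw, ha⟩ := Module.Flat.isTrivialRelation_of_sum_smul_eq_zero hrel
  rw [show z = ∑ j, a 0 j • w j from hw 0, map_sum]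
  refine Finset.sum_eq_zero fun j _ => ?_
  have hm : a 0 j ∈ maximalIdeal A' := fun hu => h.t_ne (by
    have := ha j
    rw [Fin.sum_univ_one] at this
    exact (hu.mul_left_eq_zero).1 this)
  rw [Algebra.smul_def, map_mul, h.π'_algebraMap hm, zero_mul]

theorem map_map_eq (J : Ideal R') : (J.map res).map π = J.map π' := by
  rw [Ideal.map_map]
  exact congrArg (fun f => Ideal.map f J) (RingHom.ext h.π_res)

theorem exists_π'_eq {I : Ideal R} {b : B} (hb : b ∈ I.map π) : ∃ z ∈ I.comap res, π' z = b := by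
  have hπ : Function.Surjective π := fun b => ⟨res (ι b), by rw [h.π_res, h.π_ι]⟩
  obtain ⟨i, hi, rfl⟩ := (Ideal.mem_map_iff_of_surjective _ hπ).1 hb
  obtain ⟨z, rfl⟩ := h.res_surj i
  exact ⟨z, hi, (h.π_res z).symm⟩

/-- An ideal between two ideals with the same reduction is equal to the larger one. -/
theorem eq_of_le {I : Ideal R} {J K : Ideal R'} (hle : K ≤ J) (hK : K.map res = I) (hJ : J.map res = I)
    (hinj : ∀ a : B, algebraMap A' R' t * ι a ∈ J → a ∈ I.map π) : K = J := by
  refine le_antisymm hle fun z hz => ?_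
  obtain ⟨w, hw, e⟩ := (Ideal.mem_map_iff_of_surjective _ h.res_surj).1 (hK.symm ▸ hJ ▸ Ideal.mem_map_of_mem res hz)
  obtain ⟨r, hr⟩ := h.exists_of_res_eq_zero (z := z - w) (by rw [map_sub, e, sub_self])
  have hsurj : Function.Surjective π' := fun b => ⟨ι b, h.π_ι b⟩
  have ha : π' r ∈ K.map π' := by
    rw [← h.map_map_eq, hK]
    refine hinj _ ?_
    rw [h.t_mul_iota, ← hr]
    exact J.sub_mem hz (hle hw)
  obtain ⟨s, hs, es⟩ := (Ideal.mem_map_iff_of_surjective _ hsurj).1 ha
  have : z = w + algebraMap A' R' t * s := by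
    rw [← h.t_mul_iota s, es, h.t_mul_iota, ← hr, add_sub_cancel]
  rw [this]
  exact K.add_mem hw (K.mul_mem_left _ hs)

variable [IsLocalRing A] [IsArtinianRing A] [Module.Flat A R] {I : Ideal R} [Module.Flat A (R ⧸ I)]

omit h [IsLocalRing A'] [Algebra A' R'] in
theorem exists_retraction :
    ∃ ρ : R →ₗ[A] R, (∀ r, ρ r ∈ I) ∧ ∀ r ∈ I, ρ r = r := by
  haveI : Module.Free A (R ⧸ I) := free_of_flat_artinian
  let q : R →ₗ[A] R ⧸ I := (Ideal.Quotient.mkₐ A I).toLinearMap
  obtain ⟨s, hs⟩ := Module.projective_lifting_property q LinearMap.id Ideal.Quotient.mk_surjective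
  refine ⟨LinearMap.id - s ∘ₗ q, fun r => Ideal.Quotient.eq_zero_iff_mem.1 ?_, fun r hr => ?_⟩
  · show q (r - s (q r)) = 0
    rw [map_sub, show q (s (q r)) = q r from LinearMap.congr_fun hs (q r), sub_self]
  · show r - s (q r) = r
    rw [show q r = 0 from Ideal.Quotient.eq_zero_iff_mem.2 hr, map_zero, sub_zero]

theorem exists_sub_mem {z : R'} (hzP : res z ∈ I) (hz : π' z = 0) :
    ∃ r : R', z - algebraMap A' R' t * r ∈ (maximalIdeal A').map (algebraMap A' R') * I.comap res := by
  obtain ⟨ρ, hρ, hρ'⟩ := exists_retraction (A := A) (I := I)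
  have key : ∀ x ∈ (maximalIdeal A').map (algebraMap A' R'),
      ∀ c : R', ∃ q ∈ (maximalIdeal A').map (algebraMap A' R') * I.comap res, res q = ρ (res (c * x)) := by
    intro x hx
    induction hx using Submodule.span_induction with
    | mem x hx =>
      obtain ⟨a, ha, rfl⟩ := hx
      intro c
      obtain ⟨w, hw⟩ := h.res_surj (ρ (res c))
      refine ⟨algebraMap A' R' a * w, Ideal.mul_mem_mul (Ideal.mem_map_of_mem _ ha)
        (show res w ∈ I by rw [hw]; exact hρ _), ?_⟩
      rw [map_mul, map_mul, hw, h.compat, ← Algebra.smul_def, ← map_smul, Algebra.smul_def, mul_comm]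
    | zero => exact fun c => ⟨0, Ideal.zero_mem _, by simp⟩
    | add x y _ _ hx hy =>
      intro c
      obtain ⟨q, hq, e⟩ := hx c
      obtain ⟨q', hq', e'⟩ := hy c
      exact ⟨q + q', Ideal.add_mem _ hq hq', by rw [mul_add, map_add, map_add, map_add, e, e']⟩
    | smul d x _ hx =>
      intro c
      rw [smul_eq_mul, ← mul_assoc]
      exact hx (c * d)
  obtain ⟨q, hq, e⟩ := key z (h.ker_π' ▸ hz) 1
  rw [one_mul, hρ' _ hzP] at e
  obtain ⟨r, hr⟩ := h.exists_of_res_eq_zero (z := z - q) (by rw [map_sub, e, sub_self])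
  exact ⟨r, by rw [← hr, sub_sub_cancel]; exact hq⟩

theorem mem_of_t_mul_mem [Module.Flat A' R'] {a : B}
    (ha : algebraMap A' R' t * ι a ∈ (maximalIdeal A').map (algebraMap A' R') * I.comap res) : a ∈ I.map π := by
  obtain ⟨ρ, hρ, hρ'⟩ := exists_retraction (A := A) (I := I)
  let I' : Submodule A R := I.restrictScalars A
  let ρ' : R →ₗ[A] I' := ρ.codRestrict I' hρ
  haveI : Module.Flat A I' := .of_retract I'.subtype ρ' (LinearMap.ext fun r => Subtype.ext (hρ' r.1 r.2))
  haveI : Module.Free A I' := free_of_flat_artinian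
  let b := Module.Free.chooseBasis A I'
  choose e he using fun j => h.res_surj (b j).1
  let S : Submodule A' R' := Submodule.span A' (Set.range e)
  have hspan : ∀ w ∈ I.comap res, ∃ s ∈ S, res (w - s) = 0 := by
    intro w hw
    choose c hc using fun j => h.p_surj (b.repr ⟨res w, hw⟩ j)
    refine ⟨∑ j ∈ (b.repr ⟨res w, hw⟩).support, c j • e j,
      Submodule.sum_mem _ fun j _ => Submodule.smul_mem _ _ (Submodule.subset_span ⟨j, rfl⟩), ?_⟩
    have := congrArg Subtype.val (b.linearCombination_repr ⟨res w, hw⟩)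
    rw [Finsupp.linearCombination_apply, Finsupp.sum, AddSubmonoidClass.coe_finsetSum] at this
    rw [map_sub, map_sum, sub_eq_zero]
    refine this.symm.trans (Finset.sum_congr rfl fun j _ => ?_)
    rw [Algebra.smul_def, map_mul, h.compat, hc, he, ← Algebra.smul_def]
    rfl
  have key : ∀ x ∈ (maximalIdeal A').map (algebraMap A' R'), ∀ w ∈ I.comap res,
      x * w ∈ maximalIdeal A' • S := by
    intro x hx
    induction hx using Submodule.span_induction with
    | mem x hx =>
      obtain ⟨a, ha', rfl⟩ := hx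
      intro w hw
      obtain ⟨s, hs, e'⟩ := hspan w hw
      obtain ⟨r, hr⟩ := h.exists_of_res_eq_zero e'
      have : algebraMap A' R' a * w = a • s := by
        rw [Algebra.smul_def, ← sub_eq_zero, ← mul_sub, hr, ← mul_assoc, ← map_mul, h.max_t a ha', map_zero,
          zero_mul]
      rw [this]
      exact Submodule.smul_mem_smul ha' hs
    | zero => intro w _; rw [zero_mul]; exact zero_mem _
    | add x y _ _ hx hy => intro w hw; rw [add_mul]; exact add_mem (hx w hw) (hy w hw)
    | smul d x _ hx =>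
      intro w hw
      rw [smul_eq_mul, mul_assoc, mul_left_comm]
      exact hx (d * w) (Ideal.mul_mem_left _ d hw)
  have hmem : algebraMap A' R' t * ι a ∈ maximalIdeal A' • S := by
    refine Submodule.mul_induction_on ha (fun x hx w hw => key x hx w hw) fun x y hx hy => add_mem hx hy
  obtain ⟨c, -, hsum⟩ := (Submodule.mem_ideal_smul_span_iff_exists_sum _ _ _).1 hmem
  rw [Finsupp.sum] at hsum
  have hlin : ∑ j ∈ c.support, p (c j) • b j = 0 := by
    refine Subtype.ext ?_
    have := congrArg res hsum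
    rw [map_mul, h.res_t, zero_mul, map_sum] at this
    rw [AddSubmonoidClass.coe_finsetSum]
    refine Eq.trans (Finset.sum_congr rfl fun j _ => ?_) this
    rw [Algebra.smul_def, map_mul, h.compat, he, ← Algebra.smul_def]
    rfl
  have hc : ∀ j ∈ c.support, ∃ d, c j = d * t := fun j hj => by
    have := linearIndependent_iff'.1 b.linearIndependent _ _ hlin j hj
    rw [← RingHom.mem_ker, h.ker_p] at this
    obtain ⟨d, hd⟩ := Ideal.mem_span_singleton'.1 this
    exact ⟨d, hd.symm⟩
  choose! d hd using hc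
  have hzero : algebraMap A' R' t * (ι a - ∑ j ∈ c.support, d j • e j) = 0 := by
    rw [mul_sub, sub_eq_zero, ← hsum, Finset.mul_sum]
    refine Finset.sum_congr rfl fun j hj => ?_
    rw [hd j hj, Algebra.smul_def, Algebra.smul_def, map_mul]
    ring
  have := h.eq_zero_of_t_mul hzero
  rw [map_sub, h.π_ι, sub_eq_zero] at this
  rw [this, ← h.π_res]
  refine Ideal.mem_map_of_mem _ ?_
  rw [map_sum]
  refine Submodule.sum_mem _ fun j _ => ?_
  rw [Algebra.smul_def, map_mul, he]
  exact I.mul_mem_left _ (b j).2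

theorem flat_quotient_lift [Module.Flat A' R'] {J : Ideal R'} (hJ : J.map res = I)
    (hinj : ∀ a : B, algebraMap A' R' t * ι a ∈ J → a ∈ I.map π) : Module.Flat A' (R' ⧸ J) := by
  haveI : Module.Free A (R ⧸ I) := free_of_flat_artinian
  let b := Module.Free.chooseBasis A (R ⧸ I)
  choose f hf using fun j => (Ideal.Quotient.mk_surjective.comp h.res_surj) (b j)
  have hev : ∀ (s : Finset (Module.Free.ChooseBasisIndex A (R ⧸ I))) (c : _ → A'),
      Ideal.Quotient.mk I (res (∑ j ∈ s, c j • f j)) = ∑ j ∈ s, p (c j) • b j := by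
    intro s c
    rw [map_sum, map_sum]
    refine Finset.sum_congr rfl fun j _ => ?_
    rw [Algebra.smul_def, map_mul, h.compat, map_mul, ← hf j, Algebra.smul_def]
    rfl
  let v : _ → R' ⧸ J := fun j => Ideal.Quotient.mk J (f j)
  have hmkJ : ∀ (s : Finset (Module.Free.ChooseBasisIndex A (R ⧸ I))) (c : _ → A'),
      ∑ j ∈ s, c j • v j = Ideal.Quotient.mk J (∑ j ∈ s, c j • f j) := by
    intro s c
    rw [map_sum]
    exact Finset.sum_congr rfl fun j _ => rfl
  have hmax : ∀ x : R ⧸ I, x ∈ maximalIdeal A • (⊤ : Submodule A (R ⧸ I)) →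
      ∀ j, b.repr x j ∈ maximalIdeal A := by
    intro x hx
    induction hx using Submodule.smul_induction_on' with
    | smul a ha m _ => intro j; rw [map_smul, Finsupp.smul_apply, smul_eq_mul]; exact Ideal.mul_mem_right _ _ ha
    | add x _ y _ hx hy => intro j; rw [map_add, Finsupp.add_apply]; exact add_mem (hx j) (hy j)
  have hkπ : ∀ x : R, π x = 0 → Ideal.Quotient.mk I x ∈ maximalIdeal A • (⊤ : Submodule A (R ⧸ I)) := by
    intro x hx
    obtain ⟨z, rfl⟩ := h.res_surj x
    rw [h.π_res, ← RingHom.mem_ker, h.ker_π'] at hx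
    have key : ∀ c : R', Ideal.Quotient.mk I (res (c * z)) ∈ maximalIdeal A • (⊤ : Submodule A (R ⧸ I)) := by
      induction hx using Submodule.span_induction with
      | mem z hz =>
        obtain ⟨a, ha, rfl⟩ := hz
        intro c
        rw [mul_comm, map_mul, h.compat, ← Algebra.smul_def,
          show Ideal.Quotient.mk I (p a • res c) = p a • Ideal.Quotient.mk I (res c) from rfl]
        refine Submodule.smul_mem_smul (fun hu => ?_) trivial
        haveI := IsLocalHom.of_surjective p h.p_surj
        exact ha (IsUnit.of_map p a hu)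
      | zero => intro c; simp
      | add x y _ _ hx hy => intro c; rw [mul_add, map_add, map_add]; exact add_mem (hx c) (hy c)
      | smul d x _ hx => intro c; rw [smul_eq_mul, ← mul_assoc]; exact hx (c * d)
    simpa using key 1
  have hli : LinearIndependent A' v := by
    refine linearIndependent_iff'.2 fun s c hsum j hj => ?_
    rw [hmkJ, Ideal.Quotient.eq_zero_iff_mem] at hsum
    have h1 : ∑ j ∈ s, p (c j) • b j = 0 := by
      rw [← hev, Ideal.Quotient.eq_zero_iff_mem]
      exact hJ.le (Ideal.mem_map_of_mem _ hsum)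
    have hc : ∀ j ∈ s, ∃ d, c j = d * t := fun j hj => by
      have := linearIndependent_iff'.1 b.linearIndependent _ _ h1 j hj
      rw [← RingHom.mem_ker, h.ker_p] at this
      obtain ⟨d, hd⟩ := Ideal.mem_span_singleton'.1 this
      exact ⟨d, hd.symm⟩
    choose! d hd using hc
    set g := ∑ j ∈ s, d j • f j
    have hg : ∑ j ∈ s, c j • f j = algebraMap A' R' t * g := by
      rw [Finset.mul_sum]
      refine Finset.sum_congr rfl fun j hj => ?_
      rw [hd j hj, Algebra.smul_def, Algebra.smul_def, map_mul]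
      ring
    have hmem : π' g ∈ I.map π := hinj _ (by rw [h.t_mul_iota, ← hg]; exact hsum)
    obtain ⟨w, hw, ew⟩ := h.exists_π'_eq hmem
    have h2 := hkπ (res g - res w) (by rw [map_sub, h.π_res, h.π_res, ew, sub_self])
    rw [map_sub, Ideal.Quotient.eq_zero_iff_mem.2 (show res w ∈ I from hw), sub_zero, hev] at h2
    have h3 := hmax _ h2 j
    rw [show b.repr (∑ i ∈ s, p (d i) • b i) j = p (d j) by
      classical
      simp [map_sum, Finsupp.finsetSum_apply, Finsupp.single_apply, hj]] at h3
    have hdj : d j ∈ maximalIdeal A' := fun hu => h3 (hu.map p)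
    rw [hd j hj, h.max_t _ hdj]
  have hgen : ⊤ ≤ Submodule.span A' (Set.range v) := by
    have step : ∀ z : R', ∃ s ∈ Submodule.span A' (Set.range v), ∃ r : R',
        Ideal.Quotient.mk J z = s + t • Ideal.Quotient.mk J r := by
      intro z
      set x := b.repr (Ideal.Quotient.mk I (res z))
      choose c hc using fun j => h.p_surj (x j)
      have h1 : Ideal.Quotient.mk I (res (z - ∑ j ∈ x.support, c j • f j)) = 0 := by
        rw [map_sub, map_sub, hev, sub_eq_zero]
        simp only [hc]
        exact (b.linearCombination_repr _).symm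
      rw [Ideal.Quotient.eq_zero_iff_mem] at h1
      obtain ⟨w, hw, ew⟩ := (Ideal.mem_map_iff_of_surjective _ h.res_surj).1 (hJ.ge h1)
      obtain ⟨r, hr⟩ := h.exists_of_res_eq_zero (z := z - ∑ j ∈ x.support, c j • f j - w)
        (by rw [map_sub, ew, sub_self])
      refine ⟨∑ j ∈ x.support, c j • v j, Submodule.sum_mem _ fun j _ =>
        Submodule.smul_mem _ _ (Submodule.subset_span ⟨j, rfl⟩), r, ?_⟩
      rw [hmkJ, show t • Ideal.Quotient.mk J r = Ideal.Quotient.mk J (algebraMap A' R' t * r) from
        congrArg (Ideal.Quotient.mk J) (Algebra.smul_def t r), ← map_add, Ideal.Quotient.eq, ← hr, show ∀ a b c : R', a - (b + (a - b - c)) = c from fun a b c => by ring]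
      exact hw
    intro x _
    obtain ⟨z, rfl⟩ := Ideal.Quotient.mk_surjective x
    obtain ⟨s, hs, r, hr⟩ := step z
    obtain ⟨s', hs', r', hr'⟩ := step r
    haveI : Nontrivial A := inferInstance
    rw [hr, hr', smul_add, smul_smul, h.max_t t h.t_mem, zero_smul, add_zero]
    exact add_mem hs (Submodule.smul_mem _ _ hs')
  haveI : Module.Free A' (R' ⧸ J) := Module.Free.of_basis (Module.Basis.mk hli hgen)
  infer_instance

/-- An ideal with enough elements reduces to `I`. -/
theorem map_eq_of_split {J : Ideal R'} (hle : J ≤ I.comap res)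
    (hQ : (maximalIdeal A').map (algebraMap A' R') * I.comap res ≤ J)
    (hsec : ∀ z ∈ I.comap res, ∃ z' ∈ J, π' z' = π' z) : J.map res = I := by
  refine le_antisymm (Ideal.map_le_iff_le_comap.2 hle) fun x hx => ?_
  obtain ⟨z, rfl⟩ := h.res_surj x
  obtain ⟨z', hz', e⟩ := hsec z hx
  obtain ⟨r, hr⟩ := h.exists_sub_mem (z := z - z') (I := I)
    (by rw [map_sub]; exact I.sub_mem hx (hle hz')) (by rw [map_sub, e, sub_self])
  have : res z = res (z' + (z - z' - algebraMap A' R' t * r)) := by
    rw [map_add, map_sub, map_sub, map_mul, h.res_t, zero_mul]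
    ring
  rw [this]
  exact Ideal.mem_map_of_mem _ (J.add_mem hz' (hQ hr))

end IsSmallLift

end GrothLib.LocalHilb26
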