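import Groth.Agent.Lib.LocalHilb26.Conormal

/-!
# A local flat lift splits the conormal extension locally
-/

set_option autoImplicit false
set_option maxHeartbeats 800000
set_option backward.isDefEq.respectTransparency false
universe u

noncomputable section

open CategoryTheory CategoryTheory.Limits AlgebraicGeometry Opposite

namespace GrothLib.LocalHilb26

open _root_.ArtFun _root_.ArtFun.Art GrothLib.IdealModSec

variable {k : Type u} [Field k] {Y : Scheme.{u}} (y : Y ⟶ specPt k) (I₀ : Y.IdealSheafData) {A' A : Art k k}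
  (p : A' ⟶ A) (I : (localHilb Y y I₀).obj A)

theorem flat_rs {U V : Y.affineOpens} (h : V.1 ≤ U.1) : (rs y A' h).hom.Flat := by
  have := Scheme.Hom.flat_appLE (𝟙 (XA y A')) (chart y A' U).2 (chart y A' V).2
    ((pullback.fst y (specOver A')).preimage_mono h)
  rwa [show Scheme.Hom.appLE (𝟙 (XA y A')) (chart y A' U).1 (chart y A' V).1
    ((pullback.fst y (specOver A')).preimage_mono h) = rs y A' h by simp [Scheme.Hom.appLE]] at this

/-- A flat lift restricts to smaller affines. -/
theorem restrict_lift {U V : Y.affineOpens} (h : V.1 ≤ U.1) {J : Ideal (SR y A' U)}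
    (hJ : J.map (res y p U).hom = I.1.ideal (chart y A U))
    (hflat : ((Ideal.Quotient.mk J).comp (str y A' U).hom).Flat) :
    (J.map (rs y A' h).hom).map (res y p V).hom = I.1.ideal (chart y A V) ∧
      ((Ideal.Quotient.mk (J.map (rs y A' h).hom)).comp (str y A' V).hom).Flat := by
  letI := strAlgebra y A' U
  letI := strAlgebra y A' V
  letI : Algebra (SR y A' U) (SR y A' V) := (rs y A' h).hom.toAlgebra
  haveI : IsScalarTower A'.carrier (SR y A' U) (SR y A' V) :=
    .of_algebraMap_eq fun c => (ConcreteCategory.congr_hom (str_map y A' h) c).symm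
  haveI : Module.Flat (SR y A' U) (SR y A' V) := RingHom.flat_algebraMap_iff.1 (flat_rs y h)
  haveI : Module.Flat A'.carrier (SR y A' U ⧸ J) := RingHom.flat_algebraMap_iff.1 hflat
  haveI := flat_quotient_map (A := A'.carrier) (S := SR y A' V) J
  refine ⟨?_, RingHom.flat_algebraMap_iff.2
    (inferInstanceAs (Module.Flat A'.carrier (SR y A' V ⧸ J.map (algebraMap (SR y A' U) (SR y A' V)))))⟩
  rw [Ideal.map_map, show (res y p V).hom.comp (rs y A' h).hom = (rs y A h).hom.comp (res y p U).hom from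
    congrArg CommRingCat.Hom.hom (res_map y p h).symm, ← Ideal.map_map, hJ]
  exact I.1.map_ideal ((pullback.fst y (specOver A)).preimage_mono h)

/-- An affine open of an affine open subscheme, seen in the ambient scheme. -/
def img (U : Y.affineOpens) (V : (U.1 : Scheme.{u}).affineOpens) : Y.affineOpens :=
  ⟨U.1.ι ''ᵁ V.1, V.2.image_of_isOpenImmersion U.1.ι⟩

theorem img_le (U : Y.affineOpens) (V : (U.1 : Scheme.{u}).affineOpens) : (img U V).1 ≤ U.1 :=
  (Scheme.Hom.image_le_opensRange U.1.ι V.1).trans (Scheme.Opens.opensRange_ι _).le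

variable {t : A'.carrier} (hp : Function.Surjective p) (ht : RingHom.ker p.toAlgHom = Ideal.span {t}) (ht0 : t ≠ 0)
  (hmax : ∀ a ∈ IsLocalRing.maximalIdeal A'.carrier, a * t = 0)

include hp ht ht0 hmax in
/-- Two elements of a flat lift with the same reduction agree in `P/(m'P + P²)`. -/
theorem sub_mem_K2_of_lift {V : Y.affineOpens} {J : Ideal (SR y A' V)}
    (hJ : J.map (res y p V).hom = I.1.ideal (chart y A V))
    (hflat : ((Ideal.Quotient.mk J).comp (str y A' V).hom).Flat) {z : SR y A' V} (hz : z ∈ J)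
    (h0 : (fibP y A' V).hom z = 0) : z ∈ (K2 y I₀ p I).ideal (chart y A' V) := by
  letI := strAlgebra y A' V
  letI := strAlgebra y A V
  have hS := isSmallLift y p hp ht ht0 hmax V
  haveI := flat_SR y A V
  haveI := flat_quot y I.2.1 V
  haveI : Module.Flat A'.carrier (SR y A' V ⧸ J) := RingHom.flat_algebraMap_iff.1 hflat
  haveI : Nontrivial A.carrier := inferInstance
  have hle : ∀ w ∈ J, (res y p V).hom w ∈ I.1.ideal (chart y A V) := fun w hw => hJ.le (Ideal.mem_map_of_mem _ hw)
  refine Qs_le_K2 y I₀ p I V ?_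
  rw [Qs_ideal]
  obtain ⟨r, hr⟩ := hS.exists_sub_mem (hle z hz) h0
  set Q := (IsLocalRing.maximalIdeal A'.carrier).map (str y A' V).hom *
    (I.1.ideal (chart y A V)).comap (res y p V).hom
  have hQJ : Q ≤ J := by
    refine Ideal.mul_le.2 fun x hx w hw => ?_
    obtain ⟨j, hj, e⟩ := (Ideal.mem_map_iff_of_surjective _ hS.res_surj).1 (hJ.ge hw)
    obtain ⟨r', hr'⟩ := hS.exists_of_res_eq_zero (z := w - j) (by rw [map_sub, e, sub_self])
    have hw' : w = j + (str y A' V).hom t * r' :=
      (add_sub_cancel j w).symm.trans (congrArg (j + ·) hr')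
    rw [← ker_fibP, RingHom.mem_ker] at hx
    rw [hw', mul_add, ← mul_assoc, mul_comm x ((str y A' V).hom t),
      show (str y A' V).hom t * x = 0 from hS.t_mul_eq_zero hx, zero_mul, add_zero]
    exact J.mul_mem_left _ hj
  have htr : (str y A' V).hom t * r ∈ J := by
    rw [show (str y A' V).hom t * r = z - (z - (str y A' V).hom t * r) from (sub_sub_cancel _ _).symm]
    exact J.sub_mem hz (hQJ hr)
  have hmem : (fibP y A' V).hom r ∈ (I.1.ideal (chart y A V)).map (fibP y A V).hom :=
    hS.mem_of_t_mul_mem_flat hJ ((hS.t_mul_iota r).symm ▸ htr)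
  obtain ⟨w, hw, ew⟩ := hS.exists_π'_eq hmem
  have htw : (str y A' V).hom t * r = (str y A' V).hom t * w :=
    (hS.t_mul_iota r).symm.trans ((congrArg (fun a => (str y A' V).hom t * (incI y A' V).hom a) ew.symm).trans
      (hS.t_mul_iota w))
  rw [show z = (z - (str y A' V).hom t * r) + (str y A' V).hom t * r from (sub_add_cancel _ _).symm]
  refine Ideal.add_mem _ hr ?_
  rw [htw]
  exact Ideal.mul_mem_mul (Ideal.mem_map_of_mem _ hS.t_mem) hw

section Local

variable (hloc : ∀ z : I₀.subscheme, ∃ U : Y.affineOpens, I₀.subschemeι z ∈ U.1 ∧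
  ∃ J : Ideal (SR y A' U), J.map (res y p U).hom = I.1.ideal (chart y A U) ∧
    ((Ideal.Quotient.mk J).comp (str y A' U).hom).Flat)

include hp ht ht0 hmax in
/-- A flat lift on an affine open splits the extension there. -/
theorem exists_section_on (U : Y.affineOpens) {J : Ideal (SR y A' U)}
    (hJ : J.map (res y p U).hom = I.1.ideal (chart y A U))
    (hflat : ((Ideal.Quotient.mk J).comp (str y A' U).hom).Flat) :
    ∃ lam : (Scheme.Modules.restrictFunctor U.1.ι).obj (ClSub.idealMod I₀) ⟶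
        (Scheme.Modules.restrictFunctor U.1.ι).obj (ext2 y I₀ p I),
      lam ≫ (Scheme.Modules.restrictFunctor U.1.ι).map (ext2π y I₀ p I) =
        (Scheme.Modules.restrictFunctor U.1.ι).map (sqProj I₀) := by
  let JV : ∀ V : (U.1 : Scheme.{u}).affineOpens, Ideal (SR y A' (img U V)) :=
    fun V => J.map (rs y A' (img_le U V)).hom
  have hV := fun V : (U.1 : Scheme.{u}).affineOpens => restrict_lift y I₀ p I (img_le U V) hJ hflat
  have hJP : ∀ V, ∀ z ∈ JV V, z ∈ (Ps y I₀ p I).ideal (chart y A' (img U V)) := fun V z hz =>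
    (mem_Ps y I₀ p I).2 ((hV V).1.le (Ideal.mem_map_of_mem _ hz))
  have hm : ∀ (V : (U.1 : Scheme.{u}).affineOpens) (z : {z // z ∈ JV V}),
      ∃ m, val I₀ (img U V).1 m = (fibP y A' (img U V)).hom z.1 := fun V z =>
    exists_val_eq I₀ (img U V) (fibP_mem_of_Ps y I₀ p I (hJP V z.1 z.2))
  choose sv hsv using hm
  have he : ∀ (V : (U.1 : Scheme.{u}).affineOpens) (z : {z // z ∈ JV V}),
      ∃ e, (extι y I₀ p I (K2 y I₀ p I) (K2_le y I₀ p I)).app (img U V).1 e = mkN y _ (img U V).1 z.1 :=
    fun V z => exists_extι_eq y I₀ p I _ _ (hJP V z.1 z.2)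
  choose g hg using he
  have hinjι := fun V : (U.1 : Scheme.{u}).affineOpens =>
    extι_injective y I₀ p I (K2 y I₀ p I) (K2_le y I₀ p I) (img U V).1
  have hinjv := fun V : (U.1 : Scheme.{u}).affineOpens => val_injective I₀ (img U V).1
  refine (exists_hom_of_surj
    (M := (Scheme.Modules.restrictFunctor U.1.ι).obj (ClSub.idealMod I₀))
    (N := (Scheme.Modules.restrictFunctor U.1.ι).obj (ext2 y I₀ p I))
    (fun V => {z // z ∈ JV V}) sv g ?_ ?_ ?_ ?_ ?_).elim fun lam hlam => ⟨lam, AffHom.hom_ext fun V m => ?_⟩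
  · intro V m
    letI := strAlgebra y A' (img U V)
    letI := strAlgebra y A (img U V)
    have hS := isSmallLift y p hp ht ht0 hmax (img U V)
    have hmem := val_mem I₀ (img U V) m
    rw [← ideal_incl y I₀ I.1 I.2.2 (img U V), ← (hV V).1, hS.map_map_eq] at hmem
    obtain ⟨z, hz, hz'⟩ := (Ideal.mem_map_iff_of_surjective _ fun b => ⟨_, hS.π_ι b⟩).1 hmem
    exact ⟨⟨z, hz⟩, hinjv V ((hsv V ⟨z, hz⟩).trans hz')⟩
  · intro V a b hab
    refine hinjι V ?_
    rw [hg, hg, mkN_eq_iff]
    refine sub_mem_K2_of_lift y I₀ p I hp ht ht0 hmax (hV V).1 (hV V).2 (Ideal.sub_mem _ a.2 b.2) ?_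
    rw [map_sub, ← hsv V a, ← hsv V b, hab, sub_self]
  · intro V a b
    refine ⟨⟨a.1 + b.1, Ideal.add_mem _ a.2 b.2⟩, hinjv V ?_, hinjι V ?_⟩
    · refine (hsv V _).trans ?_
      rw [map_add, ← hsv, ← hsv]
      exact (map_add ((ClSub.idealModι I₀).app _).hom _ _).symm
    · refine (hg V _).trans ?_
      rw [mkN_add, ← hg, ← hg]
      exact (map_add ((extι y I₀ p I _ _).app _).hom _ _).symm
  · intro V r a
    let r' : Γ(Y, (img U V).1) := (U.1.ι.appIso V.1).inv r
    refine ⟨⟨(incI y A' (img U V)).hom r' * a.1, Ideal.mul_mem_left _ _ a.2⟩, hinjv V ?_, hinjι V ?_⟩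
    · refine (hsv V _).trans ?_
      rw [map_mul, fibP_incI, ← hsv]
      exact (val_smul I₀ _ r' _).symm
    · refine (hg V _).trans ?_
      rw [← mkN_smul, ← hg]
      exact (Scheme.Modules.Hom.app_smul (extι y I₀ p I _ _) r' _).symm
  · intro V V' h a
    have hle : (img U V').1 ≤ (img U V).1 := Scheme.Hom.image_mono _ h
    refine ⟨⟨(rs y A' hle).hom a.1, ?_⟩, hinjv V' ?_, hinjι V' ?_⟩
    · have := Ideal.mem_map_of_mem (rs y A' hle).hom a.2
      rw [Ideal.map_map, ← CommRingCat.hom_comp, ← Functor.map_comp] at this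
      exact this
    · refine (hsv V' _).trans ?_
      rw [fibP_rs, ← hsv]
      exact (val_mres I₀ hle _).symm
    · refine (hg V' _).trans ?_
      rw [← mkN_map, ← hg]
      exact (app_map (extι y I₀ p I _ _) hle _).symm
  · obtain ⟨z, rfl⟩ : ∃ z, sv V z = m := by
      letI := strAlgebra y A' (img U V)
      letI := strAlgebra y A (img U V)
      have hS := isSmallLift y p hp ht ht0 hmax (img U V)
      have hmem := val_mem I₀ (img U V) m
      rw [← ideal_incl y I₀ I.1 I.2.2 (img U V), ← (hV V).1, hS.map_map_eq] at hmem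
      obtain ⟨z, hz, hz'⟩ := (Ideal.mem_map_iff_of_surjective _ fun b => ⟨_, hS.π_ι b⟩).1 hmem
      exact ⟨⟨z, hz⟩, hinjv V ((hsv V ⟨z, hz⟩).trans hz')⟩
    show (ext2π y I₀ p I).app (img U V).1 (lam.app V.1 (sv V z)) = (sqProj I₀).app (img U V).1 (sv V z)
    rw [hlam]
    exact sqMod_injective I₀ (img U V).1 ((ext2π_rep y I₀ p I (hg V z)).trans
      ((congrArg (qr (I₀ * I₀) (img U V).1) (hsv V z).symm).trans (sqProj_spec I₀ _ _).symm))

end Local

end GrothLib.LocalHilb26
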