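import Groth.Agent.Lib.HB26.Pair
import Groth.Agent.Lib.LocalHilb26.LiftAlg

/-!
# Flat lifts of determinantal ideals of height two
-/

set_option autoImplicit false
universe u

noncomputable section

open Function IsLocalRing

namespace GrothLib.LocalHilb26

open GrothLib.HB26

variable {C : Type u} [CommRing C] [IsLocalRing C] [IsArtinianRing C] {S R : Type u} [CommRing S] [CommRing R]
  [Algebra C S] [Module.Flat C S] (π : S →+* R) (hπ : Surjective π)
  (hker : RingHom.ker π = (maximalIdeal C).map (algebraMap C S))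

theorem exact_map_ringEquiv {A B : Type u} [CommRing A] [CommRing B] (e : A ≃+* B) {r : ℕ}
    (φ : Matrix (Fin (r + 1)) (Fin r) A) (hinj : Injective φ.mulVecLin)
    (hex : LinearMap.ker (Fintype.linearCombination A (minors φ)) ≤ LinearMap.range φ.mulVecLin) :
    Injective (φ.map e).mulVecLin ∧
      LinearMap.ker (Fintype.linearCombination B (minors (φ.map e))) ≤ LinearMap.range (φ.map e).mulVecLin := by
  have hmv : ∀ x : Fin r → A, (φ.map e).mulVec (e ∘ x) = e ∘ φ.mulVec x := fun x =>
    funext fun i => (RingHom.map_mulVec (e : A →+* B) φ x i).symm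
  have hid : ∀ {m : ℕ} (v : Fin m → B), e ∘ (e.symm ∘ v) = v := fun v => funext fun i => e.apply_symm_apply _
  refine ⟨fun x y h => ?_, fun x hx => ?_⟩
  · simp only [Matrix.mulVecLin_apply] at h
    rw [← hid x, ← hid y, hmv, hmv] at h
    rw [← hid x, ← hid y, hinj (a₁ := e.symm ∘ x) (a₂ := e.symm ∘ y) (funext fun i => e.injective (congrFun h i))]
  · have hm : ∀ i, minors (φ.map e) i = e (minors φ i) := fun i => (map_minors (e : A →+* B) φ i).symm
    obtain ⟨w, hw⟩ := hex (show e.symm ∘ x ∈ LinearMap.ker (Fintype.linearCombination A (minors φ)) by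
      rw [LinearMap.mem_ker, Fintype.linearCombination_apply] at hx ⊢
      refine e.injective (Eq.trans ?_ (hx.trans (map_zero e).symm))
      rw [map_sum]
      refine Finset.sum_congr rfl fun i _ => ?_
      simp only [smul_eq_mul, map_mul, comp_apply, RingEquiv.apply_symm_apply, hm])
    refine ⟨e ∘ w, ?_⟩
    rw [Matrix.mulVecLin_apply, hmv]
    rw [Matrix.mulVecLin_apply] at hw
    rw [hw, hid]

include hker hπ in
/-- A flat deformation of a determinantal ideal of height two is given by the minors of a lifted matrix. -/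
theorem exists_minors_lift_of_fibre (k : Type u) [Field k] [Algebra k R] [Algebra.Smooth k R] (I : Ideal S)
    [Module.Flat C (S ⧸ I)] (hcodim : ∀ P : Ideal R, P.IsPrime → I.map π ≤ P → (2 : ℕ∞) ≤ P.height)
    {r : ℕ} (φ₀ : Matrix (Fin (r + 1)) (Fin r) R) (hI : I.map π = Ideal.span (Set.range (minors φ₀)))
    (hinj : Injective φ₀.mulVecLin)
    (hex : LinearMap.range φ₀.mulVecLin = LinearMap.ker (Fintype.linearCombination R (minors φ₀))) :
    ∃ φ : Matrix (Fin (r + 1)) (Fin r) S, φ.map π = φ₀ ∧ Ideal.span (Set.range (minors φ)) = I := by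
  let N : Ideal S := (maximalIdeal C).map (algebraMap C S)
  let e : S ⧸ N ≃+* R := (Ideal.quotEquivOfEq hker.symm).trans (RingHom.quotientKerEquivOfSurjective hπ)
  have he : (e : S ⧸ N →+* R).comp (Ideal.Quotient.mk N) = π := RingHom.ext fun s => rfl
  have he' : (e.symm : R →+* S ⧸ N).comp π = Ideal.Quotient.mk N := RingHom.ext fun s => e.symm_apply_apply (Ideal.Quotient.mk N s)
  letI alg : Algebra k (S ⧸ N) := ((e.symm : R →+* S ⧸ N).comp (algebraMap k R)).toAlgebra
  haveI : Algebra.Smooth k (S ⧸ N) :=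
    Algebra.Smooth.of_equiv (AlgEquiv.ofRingEquiv (f := e.symm) fun c => rfl : R ≃ₐ[k] S ⧸ N)
  have hIN : I.map (Ideal.Quotient.mk N) = (I.map π).map (e.symm : R →+* S ⧸ N) := by rw [Ideal.map_map, he']
  obtain ⟨φ, h1, h2, -, -⟩ := exists_minors_lift (C := C) (A := S) k I
    (fun P hP hIP => by
      haveI := hP
      rw [show P.height = (P.comap (e.symm : R →+* S ⧸ N)).height from (e.symm.height_comap P).symm]
      exact hcodim _ (Ideal.IsPrime.comap _) (Ideal.map_le_iff_le_comap.1 (hIN.symm.le.trans hIP)))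
    N le_rfl (φ₀.map e.symm)
    (by
      rw [hIN, hI, Ideal.map_span, ← Set.range_comp]
      exact congrArg Ideal.span (congrArg Set.range (funext fun i => map_minors (e.symm : R →+* S ⧸ N) φ₀ i)))
    (fun φ hφ => by
      rw [hφ]
      exact exact_map_ringEquiv e.symm φ₀ hinj hex.ge)
    (GrothLib.DefLift.inf_map_le_mul _ I) (fun j => congrFun (vecMul_minors (φ₀.map e.symm)) j)
  refine ⟨φ, ?_, h2⟩
  ext i j
  have := congrFun (congrFun h1 i) j
  simp only [Matrix.map_apply] at this ⊢
  rw [← he, RingHom.comp_apply, this]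
  exact e.apply_symm_apply _

include hker hπ in
/-- The minors of a matrix lifting an exact one cut out a flat quotient. -/
theorem flat_quotient_minors {r : ℕ} (φ : Matrix (Fin (r + 1)) (Fin r) S)
    (hinj : Injective (φ.map π).mulVecLin)
    (hex : LinearMap.range (φ.map π).mulVecLin = LinearMap.ker (Fintype.linearCombination R (minors (φ.map π)))) :
    Module.Flat C (S ⧸ Ideal.span (Set.range (minors φ))) := by
  let N : Ideal S := (maximalIdeal C).map (algebraMap C S)
  let e : S ⧸ N ≃+* R := (Ideal.quotEquivOfEq hker.symm).trans (RingHom.quotientKerEquivOfSurjective hπ)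
  have hmap : φ.map (Ideal.Quotient.mk N) = (φ.map π).map e.symm := by
    ext i j
    exact (e.symm_apply_apply _).symm
  obtain ⟨h1, h2⟩ := exact_map_ringEquiv e.symm (φ.map π) hinj hex.ge
  rw [← hmap] at h1 h2
  refine (exact_of_fibre φ (minors φ) (vecMul_minors φ) h1 ?_).2.2
  rw [show Ideal.Quotient.mk N ∘ minors φ = minors (φ.map (Ideal.Quotient.mk N)) from funext fun i => map_minors _ φ i]
  exact h2

end GrothLib.LocalHilb26
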