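import Groth.Prelude.Def_ArtFun4
import Groth.Prelude.Def_ArtFun2
import Groth.Prelude.Def_ArtFun6
import Mathlib.AlgebraicGeometry.Stalk

/-!
# Infinitesimal points at a rational point and the stalk
-/

set_option autoImplicit false
universe u

noncomputable section

open CategoryTheory AlgebraicGeometry IsLocalRing

namespace GrothLib.LocalHilb26

open _root_.ArtFun _root_.ArtFun.Art

variable {k : Type u} [Field k] {H : Scheme.{u}} (π : H ⟶ Art.specPt k) (pt : Art.specPt k ⟶ H)

/-- The local ring at a rational point. -/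
abbrev ptStalk : CommRingCat.{u} := H.presheaf.stalk (pt (IsLocalRing.closedPoint k))

/-- The structure map of the local ring. -/
def stalkHom : CommRingCat.of k ⟶ ptStalk pt :=
  (Scheme.ΓSpecIso (CommRingCat.of k)).inv ≫ π.appTop ≫ H.presheaf.germ ⊤ _ trivial

/-- The algebra structure on the local ring. -/
abbrev stalkAlgebra : Algebra k (ptStalk pt) := (stalkHom π pt).hom.toAlgebra

theorem fromSpecStalk_comp : H.fromSpecStalk (pt (IsLocalRing.closedPoint k)) ≫ π = Spec.map (stalkHom π pt) := by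
  refine ext_of_isAffine ?_
  rw [Scheme.Hom.comp_appTop, Scheme.fromSpecStalk_appTop]
  have h : (Spec.map (stalkHom π pt)).appTop =
      (Scheme.ΓSpecIso (CommRingCat.of k)).hom ≫ stalkHom π pt ≫ (Scheme.ΓSpecIso (ptStalk pt)).inv := by
    rw [Scheme.ΓSpecIso_inv_naturality, Iso.hom_inv_id_assoc]
  rw [h, stalkHom]
  simp only [Category.assoc, Iso.hom_inv_id_assoc]
  rw [show (homOfLE (le_top (a := (⊤ : (Spec (ptStalk pt)).Opens)))).op = 𝟙 _ from rfl,
    CategoryTheory.Functor.map_id, Category.comp_id]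

theorem specMap_fromSpecStalk_injective {A : Type u} [CommRing A] [IsLocalRing A] {x : H}
    {f g : H.presheaf.stalk x ⟶ CommRingCat.of A} [IsLocalHom f.hom] [IsLocalHom g.hom]
    (e : Spec.map f ≫ H.fromSpecStalk x = Spec.map g ≫ H.fromSpecStalk x) : f = g := by
  refine TopCat.Presheaf.stalk_hom_ext _ fun U hxU => ?_
  have key : ∀ (u v : Spec (CommRingCat.of A) ⟶ H), u = v →
      ∀ (hu : u (closedPoint (CommRingCat.of A)) ∈ U) (hv : v (closedPoint (CommRingCat.of A)) ∈ U),
        H.presheaf.germ U _ hu ≫ Scheme.stalkClosedPointTo u =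
          H.presheaf.germ U _ hv ≫ Scheme.stalkClosedPointTo v := by
    rintro u _ rfl _ _
    rfl
  have hm : ∀ (φ : H.presheaf.stalk x ⟶ CommRingCat.of A) [IsLocalHom φ.hom],
      (Spec.map φ ≫ H.fromSpecStalk x) (closedPoint (CommRingCat.of A)) ∈ U := fun φ _ => by
    rw [Scheme.Hom.comp_apply, Spec_closedPoint, Scheme.fromSpecStalk_closedPoint]
    exact hxU
  have h := key _ _ e (hm f) (hm g)
  rw [Scheme.germ_stalkClosedPointTo_Spec_fromSpecStalk, Scheme.germ_stalkClosedPointTo_Spec_fromSpecStalk] at h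
  exact h

variable (hpt : pt ≫ π = 𝟙 _)

include hpt in
theorem stalkHom_to : stalkHom π pt ≫ Scheme.stalkClosedPointTo pt = 𝟙 _ := by
  apply Spec.map_injective
  rw [Spec.map_comp, ← fromSpecStalk_comp, Spec.map_id]
  exact (Category.assoc _ _ _).symm.trans ((congrArg (· ≫ π) (Scheme.Spec_stalkClosedPointTo_fromSpecStalk pt)).trans hpt)

include hpt in
theorem stalkHom_to_apply (c : k) :
    (Scheme.stalkClosedPointTo pt).hom ((stalkHom π pt).hom c) = c := by
  have h := congrArg CommRingCat.Hom.hom (stalkHom_to π pt hpt)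
  rw [CommRingCat.hom_comp, CommRingCat.hom_id] at h
  exact RingHom.congr_fun h c

/-- Evaluation at the rational point, as a ring map. -/
def stalkEval : ptStalk pt →+* k := (Scheme.stalkClosedPointTo pt).hom

/-- Evaluation at the rational point. -/
def stalkRes : letI := stalkAlgebra π pt; ptStalk pt →ₐ[k] k :=
  @AlgHom.mk k (ptStalk pt) k _ _ _ (stalkAlgebra π pt) _ (stalkEval pt) (fun c => by
    show stalkEval pt ((stalkHom π pt).hom c) = c
    exact stalkHom_to_apply π pt hpt c)

variable {hpt}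

theorem isLocalHom_of_res {A : Art k k} (φ : ptStalk pt →+* A.carrier)
    (h : ∀ r, A.res (φ r) = (Scheme.stalkClosedPointTo pt).hom r) : IsLocalHom φ := by
  refine ⟨fun r hr => ?_⟩
  have h1 : IsUnit ((Scheme.stalkClosedPointTo pt).hom r) := h r ▸ hr.map A.res
  exact isUnit_of_map_unit _ _ h1

/-- The infinitesimal point of a local map. -/
def pointOf {A : Art k k} (φ : letI := stalkAlgebra π pt; HomSet (ptStalk pt) (stalkRes π pt hpt) A) :
    spec A ⟶ H :=
  letI := stalkAlgebra π pt
  Spec.map (CommRingCat.ofHom φ.1.toRingHom) ≫ H.fromSpecStalk _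

theorem pointOf_π {A : Art k k} (φ : letI := stalkAlgebra π pt; HomSet (ptStalk pt) (stalkRes π pt hpt) A) :
    pointOf π pt φ ≫ π = specOver A := by
  letI := stalkAlgebra π pt
  rw [pointOf, Category.assoc, fromSpecStalk_comp, ← Spec.map_comp]
  refine congrArg Spec.map (CommRingCat.hom_ext (RingHom.ext fun c => ?_))
  exact φ.1.commutes c

theorem pointOf_res {A : Art k k} (φ : letI := stalkAlgebra π pt; HomSet (ptStalk pt) (stalkRes π pt hpt) A) :
    specRes A ≫ pointOf π pt φ = pt := by
  letI := stalkAlgebra π pt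
  rw [pointOf, ← Category.assoc, ← Spec.map_comp]
  refine Eq.trans ?_ (Scheme.Spec_stalkClosedPointTo_fromSpecStalk pt)
  refine congrArg (· ≫ H.fromSpecStalk _) (congrArg Spec.map (CommRingCat.hom_ext (RingHom.ext fun c => ?_)))
  exact DFunLike.congr_fun φ.2 c

theorem pointOf_map {A B : Art k k} (f : A ⟶ B)
    (φ : letI := stalkAlgebra π pt; HomSet (ptStalk pt) (stalkRes π pt hpt) A) :
    letI := stalkAlgebra π pt
    pointOf π pt (HomSet.map f φ) = specMap f ≫ pointOf π pt φ := by
  letI := stalkAlgebra π pt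
  rw [pointOf, pointOf, ← Category.assoc, ← Spec.map_comp]
  rfl

theorem pointOf_injective {A : Art k k} :
    Function.Injective (pointOf π pt (hpt := hpt) (A := A)) := by
  letI := stalkAlgebra π pt
  intro φ ψ e
  haveI : IsLocalHom (CommRingCat.ofHom φ.1.toRingHom).hom := isLocalHom_of_res pt _ fun r => DFunLike.congr_fun φ.2 r
  haveI : IsLocalHom (CommRingCat.ofHom ψ.1.toRingHom).hom := isLocalHom_of_res pt _ fun r => DFunLike.congr_fun ψ.2 r
  have h := specMap_fromSpecStalk_injective e
  exact Subtype.ext (AlgHom.ext fun r => ConcreteCategory.congr_hom h r)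

theorem exists_pointOf_eq {A : Art k k} (g : spec A ⟶ H) (hg : g ≫ π = specOver A) (hg' : specRes A ≫ g = pt) :
    ∃ φ, pointOf π pt (hpt := hpt) φ = g := by
  letI := stalkAlgebra π pt
  haveI : IsLocalHom (CommRingCat.ofHom A.res.toRingHom).hom := IsLocalHom.of_surjective _ A.res_surjective
  have hcp : g (closedPoint (CommRingCat.of A.carrier)) = pt (IsLocalRing.closedPoint k) := by
    conv_rhs => rw [← hg']
    rw [Scheme.Hom.comp_apply]
    exact congrArg g (Spec_closedPoint (f := CommRingCat.ofHom A.res.toRingHom)).symm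
  obtain ⟨ψ, hψl, hψ⟩ : ∃ ψ : ptStalk pt ⟶ CommRingCat.of A.carrier, IsLocalHom ψ.hom ∧
      Spec.map ψ ≫ H.fromSpecStalk _ = g := by
    have aux : ∀ (x : H), x = pt (IsLocalRing.closedPoint k) → ∀ (χ : H.presheaf.stalk x ⟶ CommRingCat.of A.carrier),
        IsLocalHom χ.hom → Spec.map χ ≫ H.fromSpecStalk x = g →
        ∃ ψ : ptStalk pt ⟶ CommRingCat.of A.carrier, IsLocalHom ψ.hom ∧ Spec.map ψ ≫ H.fromSpecStalk _ = g := by
      rintro x rfl χ h1 h2
      exact ⟨χ, h1, h2⟩
    exact aux _ hcp _ inferInstance (Scheme.Spec_stalkClosedPointTo_fromSpecStalk g)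
  haveI := hψl
  have hc : stalkHom π pt ≫ ψ = CommRingCat.ofHom (ofBase A).toAlgHom.toRingHom := by
    apply Spec.map_injective
    rw [Spec.map_comp, ← fromSpecStalk_comp, ← Category.assoc, hψ, hg]
    rfl
  have hr : ψ ≫ CommRingCat.ofHom A.res.toRingHom = Scheme.stalkClosedPointTo pt := by
    haveI : IsLocalHom (ψ ≫ CommRingCat.ofHom A.res.toRingHom).hom :=
      RingHom.isLocalHom_comp (CommRingCat.ofHom A.res.toRingHom).hom ψ.hom
    refine specMap_fromSpecStalk_injective ?_
    rw [Spec.map_comp, Category.assoc, hψ]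
    exact hg'.trans (Scheme.Spec_stalkClosedPointTo_fromSpecStalk pt).symm
  exact ⟨⟨{ ψ.hom with commutes' := fun c => ConcreteCategory.congr_hom hc c },
    AlgHom.ext fun r => ConcreteCategory.congr_hom hr r⟩, hψ⟩

end GrothLib.LocalHilb26
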