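import Groth.Agent.Lib.LocalHilb26.Tangent
import Groth.Agent.Lib.LocalHilb26.Scalar
import Groth.Agent.Lib.LocalHilb26.Bijective
import Groth.Agent.Lib.ArtFun.Tangent
import Groth.Prelude.Def_Omega2

/-!
# The tangent space of the local Hilbert functor, linearly
-/

set_option autoImplicit false
set_option backward.isDefEq.respectTransparency false
universe u

noncomputable section

open CategoryTheory CategoryTheory.Limits AlgebraicGeometry Opposite

namespace GrothLib.LocalHilb26

open _root_.ArtFun _root_.ArtFun.Art DualNumber GrothLib.IdealModSec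
open GrothLib.Euler (smulMod smulMod_app)

variable {k : Type u} [Field k] {Y : Scheme.{u}} (y : Y ⟶ specPt k) (I₀ : Y.IdealSheafData)

local notation "D₀" => Art.dual k k

theorem cf_str (U : Y.affineOpens) (d : DualNumber k) :
    (fibP y D₀ U).hom ((str y D₀ U).hom d) = (strY y U).hom (TrivSqZeroExt.fst d) ∧
      cf y U ((str y D₀ U).hom d) = (strY y U).hom (TrivSqZeroExt.snd d) := by
  refine (isDual y U).coef_eq ?_
  have hw := fun c : k => ConcreteCategory.congr_hom (isPushout_incI y D₀ U).w c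
  have hd : d = algebraMap k (DualNumber k) (TrivSqZeroExt.fst d) +
      DualNumber.eps * algebraMap k (DualNumber k) (TrivSqZeroExt.snd d) := by
    ext <;> simp [TrivSqZeroExt.algebraMap_eq_inl]
  conv_lhs => rw [hd]
  refine (map_add _ _ _).trans (congrArg₂ (· + ·) (hw _) ?_)
  exact (map_mul _ _ _).trans (congrArg (eps y U * ·) (hw _))

theorem cf_res {A : Art k k} (g : A ⟶ D₀) (U : Y.affineOpens) (d : A.carrier) (r : Γ(Y, U.1)) :
    cf y U ((res y g U).hom ((str y A U).hom d * (incI y A U).hom r)) =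
      r * (strY y U).hom (TrivSqZeroExt.snd (g d : DualNumber k)) := by
  rw [map_mul, show (res y g U).hom ((str y A U).hom d) = (str y D₀ U).hom (g d) from
    ConcreteCategory.congr_hom (str_res y g U) d,
    show (res y g U).hom ((incI y A U).hom r) = (incI y D₀ U).hom r from ConcreteCategory.congr_hom (incI_res y g U) r,
    cf, (isDual y U).coef_mul, (isDual y U).coef_iota, mul_zero, zero_add, (isDual y U).retr]
  exact congrArg (r * ·) (cf_str y U (g d)).2

theorem cf_res_add {A : Art k k} (g₁ g₂ g₃ : A ⟶ D₀)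
    (hg : ∀ d, TrivSqZeroExt.snd (g₃ d : DualNumber k) =
      TrivSqZeroExt.snd (g₁ d : DualNumber k) + TrivSqZeroExt.snd (g₂ d : DualNumber k))
    (U : Y.affineOpens) (x : SR y A U) :
    cf y U ((res y g₃ U).hom x) = cf y U ((res y g₁ U).hom x) + cf y U ((res y g₂ U).hom x) := by
  letI : Algebra k Γ(Y, U.1) := (strY y U).hom.toAlgebra
  letI : Algebra A.carrier (SR y A U) := (str y A U).hom.toAlgebra
  letI : Algebra Γ(Y, U.1) (SR y A U) := (incI y A U).hom.toAlgebra
  letI : Algebra k (SR y A U) := ((str y A U).hom.comp (algebraMap k A.carrier)).toAlgebra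
  haveI : IsScalarTower k A.carrier (SR y A U) := .of_algebraMap_eq fun _ => rfl
  haveI : IsScalarTower k Γ(Y, U.1) (SR y A U) :=
    .of_algebraMap_eq fun c => ConcreteCategory.congr_hom (isPushout_incI y A U).w c
  haveI : Algebra.IsPushout k A.carrier Γ(Y, U.1) (SR y A U) :=
    CommRingCat.isPushout_iff_isPushout.1 (isPushout_incI y A U)
  obtain ⟨t, rfl⟩ := (Algebra.IsPushout.equiv k A.carrier Γ(Y, U.1) (SR y A U)).surjective x
  induction t with
  | zero => simp only [map_zero, cf, IsDual.coef_zero, add_zero]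
  | tmul d r =>
    rw [Algebra.IsPushout.equiv_tmul]
    show cf y U ((res y g₃ U).hom ((str y A U).hom d * (incI y A U).hom r)) =
      cf y U ((res y g₁ U).hom ((str y A U).hom d * (incI y A U).hom r)) +
      cf y U ((res y g₂ U).hom ((str y A U).hom d * (incI y A U).hom r))
    rw [cf_res, cf_res, cf_res, hg, map_add, mul_add]
  | add a b ha hb =>
    simp only [map_add, cf, IsDual.coef_add] at ha hb ⊢
    rw [ha, hb]; abel

/-- The scalar action on morphisms. -/
def scalMor (c : k) (f : ClSub.idealMod I₀ ⟶ ClSub.quotMod I₀) : ClSub.idealMod I₀ ⟶ ClSub.quotMod I₀ :=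
  f ≫ smulMod (ClSub.quotMod I₀) (Coh.toGlobal y c)

theorem scalMor_app (c : k) (f : ClSub.idealMod I₀ ⟶ ClSub.quotMod I₀) (U : Y.affineOpens)
    (m : Γ(ClSub.idealMod I₀, U.1)) : (scalMor y I₀ c f).app U.1 m = (strY y U).hom c • f.app U.1 m := rfl

theorem mem_map_ideal {A : Art k k} (g : A ⟶ D₀) (J : (localHilb Y y I₀).obj A) (U : Y.affineOpens)
    {z : SR y A U} (hz : z ∈ J.1.ideal (chart y A U)) :
    (res y g U).hom z ∈ ((localHilb Y y I₀).map g J).1.ideal (chart y D₀ U) := by
  show _ ∈ (J.1.comap (XAmap y g)).ideal (chart y D₀ U)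
  rw [ideal_comap]
  exact Ideal.mem_map_of_mem _ hz

theorem toHom_scale (c : k) (J : (localHilb Y y I₀).obj D₀) :
    toHom y I₀ ((localHilb Y y I₀).map (Art.scale c) J) = scalMor y I₀ c (toHom y I₀ J) := by
  refine AffHom.hom_ext fun U m => ?_
  obtain ⟨z, hz, he⟩ := (isDual y U).exists_lift (ideal_incl y I₀ J.1 J.2.2 U) (val_mem I₀ U m)
  have hπ : (fibP y D₀ U).hom ((res y (Art.scale c) U).hom z) = (fibP y D₀ U).hom z :=
    ConcreteCategory.congr_hom (res_fibP y (Art.scale c) U) z
  rw [scalMor_app, rel_toHom y I₀ J U z hz m he.symm,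
    rel_toHom y I₀ _ U _ (mem_map_ideal y I₀ (Art.scale c) J U hz) m (he.symm.trans hπ.symm), ← qr_mul]
  refine congrArg (qr I₀ U.1) (((isDual y U).coef_eq (a := (fibP y D₀ U).hom z) (b := (strY y U).hom c * cf y U z) ?_).2)
  have he' : (res y (Art.scale c) U).hom (eps y U) = eps y U * (incI y D₀ U).hom ((strY y U).hom c) := by
    refine (ConcreteCategory.congr_hom (str_res y (Art.scale (Λ := k) c) U) (DualNumber.eps : DualNumber k)).trans ?_
    refine Eq.trans ?_ (congrArg (eps y U * ·) (ConcreteCategory.congr_hom (isPushout_incI y D₀ U).w c))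
    refine Eq.trans (congrArg (str y D₀ U).hom ?_) (map_mul (str y D₀ U).hom _ _)
    show (Art.tszeMap (Λ := k) (c • (LinearMap.id : k →ₗ[k] k)) : DualNumber k →ₐ[k] DualNumber k) (DualNumber.eps : DualNumber k) = DualNumber.eps * algebraMap k (DualNumber k) c
    ext <;> simp [TrivSqZeroExt.algebraMap_eq_inl]
  conv_lhs => rw [(isDual y U).coef_spec z]
  rw [map_add, map_mul, he', map_mul (incI y D₀ U).hom]
  rw [show ∀ b, (res y (Art.scale c) U).hom ((incI y D₀ U).hom b) = (incI y D₀ U).hom b from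
    ConcreteCategory.congr_hom (incI_res y (Art.scale c) U)]
  rw [show ∀ b, (res y (Art.scale c) U).hom ((incI y D₀ U).hom b) = (incI y D₀ U).hom b from
    ConcreteCategory.congr_hom (incI_res y (Art.scale c) U)]
  unfold cf
  ring

theorem toHom_plus (w : (localHilb Y y I₀).obj (Art.dual2 k k)) :
    toHom y I₀ ((localHilb Y y I₀).map Art.plus w) =
      toHom y I₀ ((localHilb Y y I₀).map Art.pr₁ w) + toHom y I₀ ((localHilb Y y I₀).map Art.pr₂ w) := by
  refine AffHom.hom_ext fun U m => ?_
  have hs : Function.Surjective (fibP y (Art.dual2 k k) U).hom :=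
    fun r => ⟨(incI y _ U).hom r, ConcreteCategory.congr_hom (incI_fibP y _ U) r⟩
  obtain ⟨z, hz, he⟩ := (Ideal.mem_map_iff_of_surjective _ hs).1
    ((ideal_incl y I₀ w.1 w.2.2 U).symm ▸ val_mem I₀ U m)
  have hπ : ∀ g : Art.dual2 k k ⟶ D₀, val I₀ U.1 m = (fibP y D₀ U).hom ((res y g U).hom z) := fun g =>
    he.symm.trans (ConcreteCategory.congr_hom (res_fibP y g U) z).symm
  show _ = (toHom y I₀ _).app U.1 m + (toHom y I₀ _).app U.1 m
  rw [rel_toHom y I₀ _ U _ (mem_map_ideal y I₀ Art.plus w U hz) m (hπ _),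
    rel_toHom y I₀ _ U _ (mem_map_ideal y I₀ Art.pr₁ w U hz) m (hπ _),
    rel_toHom y I₀ _ U _ (mem_map_ideal y I₀ Art.pr₂ w U hz) m (hπ _),
    cf_res_add y Art.pr₁ Art.pr₂ Art.plus (fun _ => rfl) U z, qr_add]

theorem toHom_add [TangentStr (localHilb Y y I₀)] (a b : TangentSpace (localHilb Y y I₀)) :
    toHom y I₀ (a + b).val = toHom y I₀ a.val + toHom y I₀ b.val := by
  obtain ⟨w, hw⟩ := (bijective_cmp y I₀ (Art.isFibreProd_dual2) (Art.dual k k).res_surjective).2
    ⟨(a.val, b.val), GrothLib.ArtFun.h0_eq (h0 y I₀) _ _⟩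
  have ha : (localHilb Y y I₀).map Art.pr₁ w = a.val := congrArg (fun t => t.1.1) hw
  have hb : (localHilb Y y I₀).map Art.pr₂ w = b.val := congrArg (fun t => t.1.2) hw
  have e : (a + b).val = (localHilb Y y I₀).map Art.plus w := by
    refine Eq.trans ?_ (TangentStr.add_eq (F := localHilb Y y I₀) w)
    rw [ha, hb]
    rfl
  rw [e, toHom_plus, ha, hb]

theorem toHom_smul [TangentStr (localHilb Y y I₀)] (c : k) (a : TangentSpace (localHilb Y y I₀)) :
    toHom y I₀ (c • a).val = scalMor y I₀ c (toHom y I₀ a.val) := by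
  rw [← toHom_scale]
  exact congrArg (toHom y I₀) (TangentStr.smul_eq (F := localHilb Y y I₀) c a.val)

section Normal

variable [Z : I₀.subscheme.Over (Spec (CommRingCat.of k))]
  (hY : (I₀.subscheme ↘ Spec (CommRingCat.of k)) = I₀.subschemeι ≫ y)

/-- The conormal sheaf as the pullback of the ideal. -/
def conormalIso : Omega.conormal I₀.subschemeι ≅ (Scheme.Modules.pullback I₀.subschemeι).obj (ClSub.idealMod I₀) :=
  eqToIso (congrArg (fun J => (Scheme.Modules.pullback I₀.subschemeι).obj (ClSub.idealMod J)) I₀.ker_subschemeι)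

variable [DCoh.HasSheafHom (Omega.conormal I₀.subschemeι)]

/-- Sections of the normal sheaf as morphisms from the ideal to the quotient. -/
def normalEquiv : Coh.HH I₀.subscheme
    ((DCoh.sheafHom (Omega.conormal I₀.subschemeι)).obj (Coh.structureModule I₀.subscheme)) 0 ≃+
      (ClSub.idealMod I₀ ⟶ ClSub.quotMod I₀) :=
  (hhHomEquiv _ _).trans (AddEquiv.mk' ((conormalIso I₀).homFromEquiv.trans
    ((Scheme.Modules.pullbackPushforwardAdjunction I₀.subschemeι).homEquiv (ClSub.idealMod I₀)
      (Coh.structureModule I₀.subscheme))) fun f g => by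
      show (Scheme.Modules.pullbackPushforwardAdjunction I₀.subschemeι).homEquiv _ _ (_ ≫ (f + g)) = _
      rw [Preadditive.comp_add, Adjunction.homAddEquiv_add]
      rfl)

include hY in
theorem normalEquiv_smul (c : k) (x : Coh.HH I₀.subscheme
    ((DCoh.sheafHom (Omega.conormal I₀.subschemeι)).obj (Coh.structureModule I₀.subscheme)) 0) :
    normalEquiv I₀ (c • x) = scalMor y I₀ c (normalEquiv I₀ x) := by
  have hr : Coh.toGlobal (I₀.subscheme ↘ Spec (CommRingCat.of k)) c = I₀.subschemeι.appTop (Coh.toGlobal y c) := by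
    rw [hY]
    exact ConcreteCategory.congr_hom (Scheme.Hom.comp_appTop I₀.subschemeι y) _
  simp only [normalEquiv, AddEquiv.trans_apply]
  rw [show c • x = Coh.toGlobal (I₀.subscheme ↘ Spec (CommRingCat.of k)) c • x from rfl, hhHomEquiv_smul, hr]
  show (Scheme.Modules.pullbackPushforwardAdjunction I₀.subschemeι).homEquiv _ _ (_ ≫ _ ≫ _) =
    (Scheme.Modules.pullbackPushforwardAdjunction I₀.subschemeι).homEquiv _ _ (_ ≫ _) ≫ _
  rw [← Category.assoc, Adjunction.homEquiv_naturality_right, pushforward_map_smulMod]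

include hY in
theorem nonempty_linearEquiv_tangent [TangentStr (localHilb Y y I₀)] :
    Nonempty (TangentSpace (localHilb Y y I₀) ≃ₗ[k] Coh.HH I₀.subscheme
      ((DCoh.sheafHom (Omega.conormal I₀.subschemeι)).obj (Coh.structureModule I₀.subscheme)) 0) := by
  refine ⟨{ toFun := fun a => (normalEquiv I₀).symm (toHom y I₀ a.val)
            invFun := fun x => TangentSpace.mk ((tangentEquiv y I₀).symm (normalEquiv I₀ x))
            map_add' := fun a b => ?_
            map_smul' := fun c a => ?_
            left_inv := fun a => ?_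
            right_inv := fun x => ?_ }⟩
  · show _ = _ + _
    rw [toHom_add, map_add]
  · refine (normalEquiv I₀).injective ?_
    show normalEquiv I₀ ((normalEquiv I₀).symm _) = normalEquiv I₀ (c • _)
    rw [normalEquiv_smul y I₀ hY, AddEquiv.apply_symm_apply, AddEquiv.apply_symm_apply, toHom_smul]
  · show TangentSpace.mk ((tangentEquiv y I₀).symm (normalEquiv I₀ ((normalEquiv I₀).symm _))) = a
    rw [AddEquiv.apply_symm_apply]
    exact (tangentEquiv y I₀).symm_apply_apply a.val
  · show (normalEquiv I₀).symm (toHom y I₀ ((tangentEquiv y I₀).symm _)) = x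
    rw [show ∀ f, toHom y I₀ ((tangentEquiv y I₀).symm f) = f from (tangentEquiv y I₀).apply_symm_apply,
      AddEquiv.symm_apply_apply]

end Normal

end GrothLib.LocalHilb26
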